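import Cfsg.Agent.Lib.PLocal.Blocks.Mutual

/-!
Elementary abelian subgroups of largest order fix every member of a commuting family of blocks.
-/

set_option linter.all false
set_option autoImplicit false

namespace Cfsg.Agent.PLocal.Blocks

open Subgroup Cfsg
open Cfsg.Agent.PLocal.ThompsonSubgroup
open scoped commutatorElement MatrixGroups

variable {G : Type*} [Group G] [Finite G] {p : ℕ} [Fact p.Prime] {E : Subgroup G} {T : Sylow p G}

local notation "WE" => omegaOneCenter p (pCoreOf p E)
local notation "ZE" => omegaOneCenter p (pCoreOf p E) ⊓ Subgroup.centralizer (E : Set G)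
local notation "NE" => Subgroup.normalizer (E : Set G)
local notation "WC" => ⁅omegaOneCenter p (pCoreOf p E), E⁆
local notation "UR" => omegaOneCenter p (pCore p G)

theorem relIndex_mul_card_inf (C X : Subgroup G) :
    C.relIndex X * Nat.card ↥(X ⊓ C) = Nat.card X := by
  have := card_mul_index (C.subgroupOf X)
  rw [mul_comm] at this
  rw [← inf_subgroupOf_left, Nat.card_congr (subgroupOfEquivOfLe (inf_le_left : X ⊓ C ≤ X)).toEquiv,
    inf_subgroupOf_left] at this
  exact this

/-- The module of a block modulo the centralizer of the block, in two forms. -/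
theorem relIndex_WC_eq (hE : IsBaumannBlock p (T : Subgroup G) E) :
    (centralizer (E : Set G)).relIndex WC = (ZE).relIndex WE := by
  set C := centralizer (E : Set G)
  have hWZ : (WC : Subgroup G) ≤ normalizer ((ZE : Subgroup G) : Set G) := fun a ha =>
    Subgroup.centralizer_le_normalizer _ fun z hz => BlockLocation.omegaCenter_comm _ hz.1 (commutator_WE_le ha)
  have hcard := GlaubermanReplacement.card_sup_mul_card_inf (A := (WC : Subgroup G)) (B := ZE) hWZ
  rw [BlockModule.sup_ZE hE,
    show (WC : Subgroup G) ⊓ ZE = WC ⊓ C from le_antisymm (inf_le_inf_left _ inf_le_right)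
      (le_inf inf_le_left (le_inf (inf_le_left.trans commutator_WE_le) inf_le_right))] at hcard
  have h1 := relIndex_mul_card_inf C (WC : Subgroup G)
  have h2 := relIndex_mul_card_inf (ZE) WE
  rw [← inf_assoc, inf_idem] at h2
  rw [← h1, ← h2] at hcard
  refine Nat.eq_of_mul_eq_mul_right
    (Nat.mul_pos (Nat.card_pos (α := ↥((ZE : Subgroup G)))) (Nat.card_pos (α := ↥((WC : Subgroup G) ⊓ C)))) ?_
  calc C.relIndex WC * (Nat.card ↥(ZE : Subgroup G) * Nat.card ↥((WC : Subgroup G) ⊓ C))
      = C.relIndex WC * Nat.card ↥((WC : Subgroup G) ⊓ C) * Nat.card ↥(ZE : Subgroup G) := by ring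
    _ = (ZE).relIndex WE * Nat.card ↥(ZE : Subgroup G) * Nat.card ↥((WC : Subgroup G) ⊓ C) := by
        linarith [hcard]
    _ = _ := by ring

theorem four_le_relIndex (hE : IsBaumannBlock p (T : Subgroup G) E) : 4 ≤ (ZE).relIndex WE := by
  rcases block_cases hE with ⟨F, iF, iFt, iC, n, ρ, hF, hρ, -⟩ | ⟨-, n, ρ, hn, hodd, hρ, -⟩
  · rw [ρ.relIndex_eq_card, card_module]
    have := Finite.one_lt_card (α := F)
    nlinarith
  · rw [ρ.relIndex_eq_card, AltModule.card_evenMod (by omega)]
    calc 4 = 2 ^ 2 := by norm_num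
      _ ≤ 2 ^ (n - 1) := Nat.pow_le_pow_right (by norm_num) (by omega)

/-- The replacement inequality. -/
theorem relIndex_le_of_max {A V : Subgroup G} (hA : A ∈ maxElementaryAbelianSubgroups p G)
    (hV : IsElementaryAbelian p V) :
    (centralizer (A : Set G)).relIndex V ≤ (centralizer (V : Set G)).relIndex A := by
  set C := centralizer (V : Set G) with hC
  have hel : IsElementaryAbelian p (A ⊓ C ⊔ V) :=
    IsElementaryAbelian.sup (IsElementaryAbelian.mono hA.1 inf_le_left) hV inf_le_right
  have hle := hA.2 _ hel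
  have hcard := GlaubermanReplacement.card_sup_mul_card_inf
    (A := A ⊓ C) (B := V) (inf_le_right.trans (Subgroup.centralizer_le_normalizer _))
  have hinf : Nat.card ↥(A ⊓ C ⊓ V) ≤ Nat.card ↥(V ⊓ centralizer (A : Set G)) := by
    refine card_le_of_le (le_inf inf_le_right (inf_le_left.trans (inf_le_left.trans ?_)))
    exact fun a ha b hb => (isElementaryAbelian_iff.mp hA.1).1 b hb a ha
  have h1 := relIndex_mul_card_inf C A
  have h2 := relIndex_mul_card_inf (centralizer (A : Set G)) V
  refine Nat.le_of_mul_le_mul_right ?_ (Nat.mul_pos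
    (Nat.card_pos (α := ↥(V ⊓ centralizer (A : Set G)))) (Nat.card_pos (α := ↥(A ⊓ C))))
  calc (centralizer (A : Set G)).relIndex V * (Nat.card ↥(V ⊓ centralizer (A : Set G)) * Nat.card ↥(A ⊓ C))
      = Nat.card V * Nat.card ↥(A ⊓ C) := by rw [← mul_assoc, h2]
    _ = Nat.card ↥(A ⊓ C ⊔ V) * Nat.card ↥(A ⊓ C ⊓ V) := by rw [hcard, mul_comm]
    _ ≤ Nat.card A * Nat.card ↥(V ⊓ centralizer (A : Set G)) := Nat.mul_le_mul hle hinf
    _ = _ := by rw [← h1]; ring

theorem four_pow_bound : ∀ j : ℕ, j + 3 ≤ 4 ^ (j + 1) := by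
  intro j
  induction j with
  | zero => norm_num
  | succ j ih => rw [pow_succ]; omega

/-- The module of a block. -/
abbrev moduleOf (p : ℕ) (X : Subgroup G) : Subgroup G := ⁅omegaOneCenter p (pCoreOf p X), X⁆

/-- Elementary abelian subgroups of largest order normalize the members of a commuting family. -/
theorem max_le_normalizer (hG : centralizer (pCore p G : Set G) ≤ pCore p G)
    (hE : IsBaumannBlock p (T : Subgroup G) E) (hfam : ∀ g : G, cj g E = E ∨ ⁅cj g E, E⁆ = ⊥)
    {A : Subgroup G} (hA : A ∈ maxElementaryAbelianSubgroups p G) : A ≤ NE := by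
  classical
  by_contra hnot
  obtain ⟨a₀, ha₀, ha₀N⟩ := SetLike.not_le_iff_exists.mp hnot
  have hA' := isElementaryAbelian_iff.mp hA.1
  have hcomm : ∀ a ∈ UR, ∀ b ∈ UR, a * b = b * a := fun a ha b hb => BlockLocation.omegaCenter_comm _ ha hb
  have hUR : ∀ g : G, moduleOf p (cj g E) ≤ UR := fun g => WC_le_omega hG (block_cj hE g)
  -- members of the family centralize each other
  have hc : ∀ a b : G, cj a E ≠ cj b E → cj a E ≤ centralizer ((cj b E : Subgroup G) : Set G) := by
    intro a b hne
    rcases hfam (b⁻¹ * a) with h | h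
    · exact absurd (cj_eq_cj.mpr (cj_eq_self.mp h)) hne
    · have h' := congrArg (cj b) h
      rw [cj_commutator, cj_cj, mul_inv_cancel_left, cj_bot] at h'
      exact commutator_eq_bot_iff_le_centralizer.mp h'
  haveI : Fintype ↥A := Fintype.ofFinite _
  let s : Finset (Subgroup G) := (Finset.univ : Finset ↥A).image fun a : ↥A => cj (a : G) E
  let Cn : Subgroup G → Subgroup G := fun X => centralizer (X : Set G)
  have hs : ∀ X ∈ s, ∃ a ∈ A, cj a E = X := fun X hX => by
    obtain ⟨a, -, ha⟩ := Finset.mem_image.mp hX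
    exact ⟨a, a.2, ha⟩
  have hs' : ∀ a ∈ A, cj a E ∈ s := fun a ha => Finset.mem_image.mpr ⟨⟨a, ha⟩, Finset.mem_univ _, rfl⟩
  have hEs : E ∈ s := by simpa [cj_one] using hs' 1 (one_mem _)
  set m := (centralizer (E : Set G)).relIndex WC with hm
  -- the family spans a product
  have hprod : ∀ t : Finset (Subgroup G), t ⊆ s →
      m ^ t.card ≤ (t.inf Cn).relIndex (t.sup (moduleOf p)) := by
    intro t
    induction t using Finset.induction_on with
    | empty =>
      intro _
      rw [Finset.card_empty, pow_zero]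
      exact Nat.pos_of_ne_zero index_ne_zero_of_finite
    | insert X t hX ih =>
      intro hsub
      obtain ⟨a, -, rfl⟩ := hs X (hsub (Finset.mem_insert_self _ _))
      rw [Finset.card_insert_of_notMem hX, pow_succ, Finset.inf_insert, Finset.sup_insert]
      set D := Cn (cj a E)
      set C' := t.inf Cn
      set L := moduleOf p (cj a E) ⊔ t.sup (moduleOf p) with hL
      have hY : t.sup (moduleOf p) ≤ D ⊓ L := le_inf (Finset.sup_le fun X' hX' => by
        obtain ⟨b, -, rfl⟩ := hs X' (hsub (Finset.mem_insert_of_mem hX'))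
        exact (WC_le_block _).trans (hc b a fun e => hX (e ▸ hX'))) le_sup_right
      have h1 : (D ⊓ C').relIndex L = C'.relIndex (D ⊓ L) * D.relIndex L := by
        rw [← inf_relIndex_right (D ⊓ C') L, ← relIndex_mul_relIndex (D ⊓ C' ⊓ L) (D ⊓ L) L
          (le_inf (inf_le_left.trans inf_le_left) inf_le_right) inf_le_right, inf_relIndex_right D L,
          ← inf_relIndex_right C' (D ⊓ L)]
        congr 2
        rw [inf_comm D C', inf_assoc]
      rw [h1]
      refine Nat.mul_le_mul ((ih fun y hy => hsub (Finset.mem_insert_of_mem hy)).trans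
        (relIndex_le_of_le_right hY index_ne_zero_of_finite)) ?_
      rw [hm, ← cj_relIndex a E]
      exact relIndex_le_of_le_right le_sup_left index_ne_zero_of_finite
  set Y := s.sup (moduleOf p) with hYdef
  set A₀ := A ⊓ NE with hA₀
  set CA := centralizer (A : Set G)
  set k := (NE).relIndex A with hk
  set a₁ := (centralizer ((WC : Subgroup G) : Set G)).relIndex A₀ with ha₁
  have hYUR : Y ≤ UR := Finset.sup_le fun X hX => by
    obtain ⟨a, -, rfl⟩ := hs X hX; exact hUR a
  have hYel : IsElementaryAbelian p Y := isElementaryAbelian_iff.mpr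
    ⟨fun a ha b hb => hcomm a (hYUR ha) b (hYUR hb),
      fun a ha => BlockLocation.pow_eq_one_of_mem_omegaCenter _ (hYUR ha)⟩
  have hWY : (WC : Subgroup G) ≤ Y := Finset.le_sup (f := moduleOf p) hEs
  have hk' : k = s.card := by
    let f : ↥A ⧸ ((NE).subgroupOf A) → {X // X ∈ s} := fun q =>
      Quotient.liftOn' q (fun a => ⟨cj (a : G) E, hs' a a.2⟩) fun a b h =>
        Subtype.ext (cj_eq_cj.mpr (by
          have := inv_mem (QuotientGroup.leftRel_apply.mp h)
          simpa [mem_subgroupOf] using this))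
    have hf : Function.Bijective f := by
      constructor
      · intro q r h
        induction q using Quotient.inductionOn'
        induction r using Quotient.inductionOn'
        refine Quotient.sound' (QuotientGroup.leftRel_apply.mpr ?_)
        have := inv_mem (cj_eq_cj.mp (congrArg Subtype.val h))
        simpa [mem_subgroupOf] using this
      · rintro ⟨X, hX⟩
        obtain ⟨a, ha, rfl⟩ := hs X hX
        exact ⟨Quotient.mk'' ⟨a, ha⟩, rfl⟩
    rw [hk, Subgroup.relIndex, Subgroup.index, Nat.card_congr (Equiv.ofBijective f hf),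
      Nat.card_eq_fintype_card, Fintype.card_coe]
  -- the centralizer of the span in `A`
  have hCY : centralizer (Y : Set G) ⊓ A = centralizer ((WC : Subgroup G) : Set G) ⊓ A₀ := by
    refine le_antisymm ?_ ?_
    · rintro a ⟨ha, haA⟩
      have haW : a ∈ centralizer ((WC : Subgroup G) : Set G) := centralizer_le hWY ha
      refine ⟨haW, haA, ?_⟩
      by_contra haN
      have h1 : cj a (WC : Subgroup G) = (WC : Subgroup G) :=
        cj_eq_self.mpr (Subgroup.centralizer_le_normalizer _ haW)
      rw [cj_WC] at h1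
      refine not_WC_le_centralizer hE (h1.ge.trans ((WC_le_block _).trans ?_))
      have := hc a 1 (by rw [cj_one]; exact fun e => haN (cj_eq_self.mp e))
      rwa [cj_one] at this
    · rintro a ⟨ha, haA, haN⟩
      refine ⟨?_, haA⟩
      refine (le_centralizer_iff.mp (Finset.sup_le fun X hX => ?_ : Y ≤ centralizer (zpowers a : Set G))) (mem_zpowers a)
      obtain ⟨b, hb, rfl⟩ := hs X hX
      show moduleOf p (cj b E) ≤ _
      rw [show moduleOf p (cj b E) = cj b (WC : Subgroup G) from (cj_WC b E).symm, le_centralizer_iff]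
      refine zpowers_le.mpr ?_
      rw [← cj_centralizer]
      refine mem_cj_iff.mpr ?_
      rwa [mul_assoc, hA'.1 a haA b hb, inv_mul_cancel_left]
  have hsplitA : (centralizer (Y : Set G)).relIndex A = a₁ * k := by
    rw [← inf_relIndex_right (centralizer (Y : Set G)) A, hCY, ha₁, hk,
      ← inf_relIndex_right (centralizer ((WC : Subgroup G) : Set G)) A₀, ← inf_relIndex_right (NE) A,
      inf_comm (NE) A]
    exact (relIndex_mul_relIndex _ _ _ inf_le_right inf_le_left).symm
  have hrep : CA.relIndex Y ≤ a₁ * k := (relIndex_le_of_max hA hYel).trans hsplitA.le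
  -- the other members
  set t := s.erase E with ht
  set Y' := t.sup (moduleOf p) with hY'
  have hY'Y : Y' ≤ Y := Finset.sup_mono (Finset.erase_subset _ _)
  have hY'C : Y' ≤ centralizer (E : Set G) := Finset.sup_le fun X hX => by
    obtain ⟨hne, hXs⟩ := Finset.mem_erase.mp hX
    obtain ⟨b, -, rfl⟩ := hs X hXs
    have := hc b 1 (by rw [cj_one]; exact hne)
    rw [cj_one] at this
    exact (WC_le_block _).trans this
  have hfix : CA ⊓ Y' ≤ t.inf Cn := Finset.le_inf fun X hX => by
    obtain ⟨b, hb, rfl⟩ := hs X (Finset.mem_of_mem_erase hX)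
    rintro y ⟨hyA, hy⟩
    show y ∈ centralizer ((cj b E : Subgroup G) : Set G)
    rw [← cj_centralizer]
    refine mem_cj_iff.mpr ?_
    rw [mul_assoc, ← mem_centralizer_iff.mp hyA b hb, inv_mul_cancel_left]
    exact hY'C hy
  have hlow : m ^ (k - 1) ≤ CA.relIndex Y' := by
    rw [hk', ← Finset.card_erase_of_mem hEs]
    refine (hprod t (Finset.erase_subset _ _)).trans ?_
    rw [← inf_relIndex_right CA Y']
    exact Nat.le_of_dvd (Nat.pos_of_ne_zero index_ne_zero_of_finite) (relIndex_dvd_of_le_left _ hfix)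
  have hmm : m = (ZE).relIndex WE := relIndex_WC_eq hE
  have ha₁m : a₁ < m := hmm ▸ relIndex_lt hE (IsElementaryAbelian.mono hA.1 inf_le_left) inf_le_right
  have hm4 : 4 ≤ m := hmm ▸ four_le_relIndex hE
  have hk2 : 2 ≤ k := by
    rw [hk']
    refine Finset.one_lt_card.mpr ⟨E, hEs, cj a₀ E, hs' a₀ ha₀, fun e => ha₀N (cj_eq_self.mp e.symm)⟩
  rcases Nat.lt_or_ge k 3 with hk3 | hk3
  · -- two members
    have hkeq : k = 2 := by omega
    rw [hkeq, show 2 - 1 = 1 from rfl, pow_one] at hlow
    rw [hkeq] at hrep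
    by_cases ha1 : a₁ = 1
    · have := hlow.trans ((relIndex_le_of_le_right hY'Y index_ne_zero_of_finite).trans hrep)
      rw [ha1] at this
      omega
    set L := (CA ⊓ Y) ⊔ Y' with hLdef
    have hL : L ≠ Y := by
      intro hLY
      refine ha1 (relIndex_eq_one.mpr fun a ha => ?_)
      have haA : a ∈ A := ha.1
      have haN : a ∈ NE := ha.2
      have haC : a ∈ normalizer ((centralizer (E : Set G) : Subgroup G) : Set G) :=
        CharP.normalizer_le_normalizer_centralizer _ haN
      have haU : ∀ u ∈ UR, a * u * a⁻¹ ∈ UR := fun u hu => by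
        have := BlockModule.le_normalizer_omegaCenter (p := p) (pCore p G)
          (show a ∈ normalizer (pCore p G : Set G) by rw [normalizer_eq_top]; exact mem_top a)
        exact (mem_normalizer_iff.mp this u).mp hu
      refine mem_centralizer_of_trivial hE haN fun w hw => ?_
      have hsplit : ∀ u ∈ (WC : Subgroup G), a * u * a⁻¹ * u⁻¹ ∈ centralizer (E : Set G) := by
        intro u hu
        have hu' : u ∈ L := hLY.ge (hWY hu)
        rw [← SetLike.mem_coe, Subgroup.coe_mul_of_left_le_normalizer_right] at hu'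
        rotate_left
        · intro c hc
          refine Subgroup.centralizer_le_normalizer _ fun y hy => ?_
          exact hcomm _ (hYUR (hY'Y hy)) _ (hYUR hc.2)
        obtain ⟨c, hc, y, hy, rfl⟩ := hu'
        have hyU : y ∈ UR := hYUR (hY'Y hy)
        have hca : a * c * a⁻¹ = c := by rw [mem_centralizer_iff.mp hc.1 a haA, mul_inv_cancel_right]
        show a * (c * y) * a⁻¹ * (c * y)⁻¹ ∈ _
        rw [show a * (c * y) * a⁻¹ * (c * y)⁻¹ = (a * c * a⁻¹) * (a * y * a⁻¹ * y⁻¹) * c⁻¹ by simp [mul_assoc],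
          hca, hcomm _ (hYUR hc.2) _ (mul_mem (haU y hyU) (inv_mem hyU)), mul_inv_cancel_right]
        exact mul_mem ((mem_normalizer_iff.mp haC y).mp (hY'C hy)) (inv_mem (hY'C hy))
      refine mem_inf.mpr ⟨mul_mem (conj_mem_WE haN hw) (inv_mem hw), ?_⟩
      rw [← BlockModule.sup_ZE hE, ← SetLike.mem_coe, Subgroup.coe_mul_of_left_le_normalizer_right] at hw
      rotate_left
      · intro u hu
        exact Subgroup.centralizer_le_normalizer _ fun z hz => BlockLocation.omegaCenter_comm _ hz.1 (commutator_WE_le hu)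
      obtain ⟨u, hu, z, hz, rfl⟩ := hw
      show a * (u * z) * a⁻¹ * (u * z)⁻¹ ∈ centralizer (E : Set G)
      have hzz : a * z * a⁻¹ * z⁻¹ ∈ ZE := mul_mem (conj_mem_ZE haN hz) (inv_mem hz)
      rw [show a * (u * z) * a⁻¹ * (u * z)⁻¹ = (a * u * a⁻¹) * (a * z * a⁻¹ * z⁻¹) * u⁻¹ by simp [mul_assoc],
        BlockLocation.omegaCenter_comm _ (conj_mem_WE haN (commutator_WE_le hu)) hzz.1, mul_assoc]
      exact mul_mem hzz.2 (hsplit u hu)
    have hLY : L ≤ Y := sup_le inf_le_right hY'Y
    have hLidx : 2 ≤ L.relIndex Y := by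
      have h0 : L.relIndex Y ≠ 0 := index_ne_zero_of_finite
      have h1 : L.relIndex Y ≠ 1 := fun h => hL (le_antisymm hLY (relIndex_eq_one.mp h))
      omega
    have : m * 2 ≤ CA.relIndex Y := by
      rw [← inf_relIndex_right CA Y, ← relIndex_mul_relIndex (CA ⊓ Y) L Y le_sup_left hLY]
      refine Nat.mul_le_mul (hlow.trans ?_) hLidx
      have : (CA ⊓ Y).relIndex Y' = CA.relIndex Y' := by
        rw [← inf_relIndex_right CA Y', ← inf_relIndex_right (CA ⊓ Y) Y', inf_assoc, inf_eq_right.mpr hY'Y]
      rw [← this]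
      exact relIndex_le_of_le_right le_sup_right index_ne_zero_of_finite
    nlinarith
  · obtain ⟨j, hj⟩ : ∃ j, k = j + 3 := ⟨k - 3, by omega⟩
    have h1 : m ^ (j + 2) ≤ a₁ * k := by
      have := hlow.trans ((relIndex_le_of_le_right hY'Y index_ne_zero_of_finite).trans hrep)
      rwa [hj, show j + 3 - 1 = j + 2 by omega, ← hj] at this
    have h2 : k ≤ m ^ (j + 1) := hj ▸ (four_pow_bound j).trans (Nat.pow_le_pow_left hm4 _)
    have h3 : m ^ (j + 2) ≤ a₁ * m ^ (j + 1) := h1.trans (Nat.mul_le_mul_left _ h2)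
    have h4 : m ^ (j + 2) = m * m ^ (j + 1) := pow_succ' m (j + 1)
    rw [h4] at h3
    exact absurd (Nat.le_of_mul_le_mul_right h3 (pow_pos (by omega) _)) (not_le.mpr ha₁m)

end Cfsg.Agent.PLocal.Blocks
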