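import Cfsg.Agent.Lib.PLocal.Blocks.SL2Sub

/-!
Small facts on `SL₂` and its natural module used to compare two blocks.
-/

set_option linter.all false
set_option autoImplicit false

namespace Cfsg.Agent.PLocal.Blocks.SL2

open Subgroup
open scoped MatrixGroups commutatorElement
open Cfsg.Agent.PLocal.BlockModule (tU tL dg wl)

variable {F : Type*} [Field F]

/-- A normal subgroup is central or everything. -/
theorem normal_le_center_or_top [Fintype F] (h4 : 4 ≤ Fintype.card F) (N : Subgroup SL(2, F)) [N.Normal] :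
    N ≤ center SL(2, F) ∨ N = ⊤ := by
  haveI : IsSimpleGroup (SL(2, F) ⧸ center SL(2, F)) :=
    Classical.Linear.isSimpleGroup_PSL_fin le_rfl fun _ => h4
  have hn : (N.map (QuotientGroup.mk' (center SL(2, F)))).Normal :=
    Subgroup.Normal.map inferInstance _ (QuotientGroup.mk'_surjective _)
  rcases hn.eq_bot_or_eq_top with h | h
  · left
    rwa [Subgroup.map_eq_bot_iff, QuotientGroup.ker_mk'] at h
  · right
    have hsplit : ∀ s : SL(2, F), ∃ n ∈ N, ∃ z ∈ center SL(2, F), n * z = s := fun s => by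
      obtain ⟨n, hn, e⟩ := (h ▸ mem_top _ : (QuotientGroup.mk' (center SL(2, F))) s ∈ N.map _)
      exact ⟨n, hn, n⁻¹ * s, QuotientGroup.eq.mp e, by simp⟩
    refine top_le_iff.mp ((commutator_eq_top (exists_sq_ne_one h4)).ge.trans ?_)
    rw [commutator_def, commutator_le]
    intro a _ b _
    obtain ⟨n, hn, z, hz, rfl⟩ := hsplit a
    obtain ⟨m, hm, w, hw, rfl⟩ := hsplit b
    have e : ⁅n * z, m * w⁆ = ⁅n, m⁆ := by
      rw [mem_center_iff] at hz hw
      simp only [commutatorElement_def, mul_inv_rev]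
      calc n * z * (m * w) * (z⁻¹ * n⁻¹) * (w⁻¹ * m⁻¹)
          = n * (z * (m * w) * z⁻¹) * (n⁻¹ * w⁻¹) * m⁻¹ := by simp [mul_assoc]
        _ = n * (m * w) * (n⁻¹ * w⁻¹) * m⁻¹ := by rw [← hz (m * w), mul_inv_cancel_right]
        _ = n * m * (w * n⁻¹ * w⁻¹) * m⁻¹ := by simp [mul_assoc]
        _ = n * m * n⁻¹ * m⁻¹ := by rw [← hw n⁻¹, mul_inv_cancel_right]
    rw [e, commutatorElement_def]
    exact mul_mem (mul_mem (mul_mem hn hm) (inv_mem hn)) (inv_mem hm)

/-- Additive permutations commuting with `SL₂` are scalars. -/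
theorem scalar_of_commute_all {g : Equiv.Perm (Fin 2 → F)} (hg : IsAdd g)
    (h : ∀ (s : SL(2, F)) (v : Fin 2 → F), g (lin s v) = lin s (g v)) :
    ∃ c : F, ∀ v, g v = c • v := by
  have hfix : lin (tU (1 : F)) (g ![1, 0]) = g ![1, 0] := by
    rw [← h]; congr 1; rw [tU_apply]; ext i; fin_cases i <;> simp
  have h1 : g ![1, 0] 1 = 0 := by
    have := congr_fun hfix 0
    rw [tU_apply] at this
    simpa using this
  have he : g ![1, 0] = g ![1, 0] 0 • ![1, 0] := by
    ext i; fin_cases i <;> simp [h1]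
  refine ⟨g ![1, 0] 0, fun v => ?_⟩
  by_cases hv : v = 0
  · rw [hv, hg.zero, smul_zero]
  obtain ⟨s, rfl⟩ := exists_lin_apply_eq v hv
  rw [h, lin_apply, lin_apply]
  conv_lhs => rw [he, Matrix.mulVec_smul]

/-- Elements of order prime to three in `SL₂(3)`. -/
theorem trichotomy [Fintype F] [CharP F 3] (h3 : Fintype.card F = 3) {s : SL(2, F)}
    (hs : (orderOf s).Coprime 3) :
    s = 1 ∨ (∀ v, lin s v = -v) ∨ ∀ v, lin (s * s) v = -v := by
  have h2 : (2 : F) ≠ 0 := fun h => by
    have := (CharP.cast_eq_zero_iff F 3 2).mp (by exact_mod_cast h)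
    omega
  set t := s.1 0 0 + s.1 1 1 with ht
  by_cases ht0 : t = 0
  · right; right; intro v
    rw [eq_neg_one ht ht0, neg_one_apply]
  have htt : t * t = 1 := by
    have := FiniteField.pow_card_sub_one_eq_one t ht0
    rwa [h3, show 3 - 1 = 2 from rfl, pow_two] at this
  have hd : s.1 0 0 * s.1 1 1 - s.1 0 1 * s.1 1 0 = 1 := by rw [← Matrix.det_fin_two]; exact s.2
  have hCH : s.1 * s.1 = t • s.1 - 1 := by
    ext i j
    fin_cases i <;> fin_cases j <;> simp [Matrix.mul_apply, Fin.sum_univ_two, ht]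
    · linear_combination -hd
    · ring
    · ring
    · linear_combination -hd
  have h3' : s.1 * s.1 * s.1 = (-t) • (1 : Matrix (Fin 2) (Fin 2) F) := by
    rw [hCH, sub_mul, smul_mul_assoc, hCH, smul_sub, smul_smul, htt, one_smul, one_mul, neg_smul]
    abel
  have h6 : s ^ 6 = 1 := by
    refine Subtype.ext ?_
    rw [Matrix.SpecialLinearGroup.coe_pow, show 6 = 3 + 3 from rfl, pow_add, pow_three', h3']
    rw [smul_mul_smul_comm, neg_mul_neg, htt, one_smul, one_mul, Matrix.SpecialLinearGroup.coe_one]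
  have hdvd : orderOf s ∣ 2 :=
    hs.dvd_of_dvd_mul_left (orderOf_dvd_of_pow_eq_one (n := 3 * 2) h6)
  have hss : s * s = 1 := by
    rw [← pow_two]; exact orderOf_dvd_iff_pow_eq_one.mp hdvd
  by_cases h1 : s = 1
  · exact Or.inl h1
  · exact Or.inr (Or.inl (involution_apply h2 hss h1))

theorem fix_pow : ∀ (g : Equiv.Perm (Fin 4)) (i : Fin 4), g i = i → g ^ 3 = 1 ∨ g ^ 2 = 1 := by decide

set_option maxHeartbeats 4000000 in
theorem three_cycles : ∀ (g h : Equiv.Perm (Fin 4)) (i : Fin 4),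
    g i = i → h i = i → g ^ 3 = 1 → h ^ 3 = 1 → h ≠ 1 → g = 1 ∨ g = h ∨ g = h * h := by decide

/-- Over two elements, additive permutations of odd order form the image of the derived group. -/
theorem mem_img_of_odd_two [Fintype F] (h2 : Fintype.card F = 2) (hne : img F ≠ ⊥)
    (himg : ∀ σ ∈ img F, σ ^ 3 = 1) {g : Equiv.Perm (Fin 2 → F)} (hg : IsAdd g)
    (hodd : Odd (orderOf g)) : g ∈ img F := by
  classical
  have hcard : Fintype.card (Fin 2 → F) = 4 := by rw [Fintype.card_fun, h2, Fintype.card_fin]; rfl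
  let e : (Fin 2 → F) ≃ Fin 4 := Fintype.equivFinOfCardEq hcard
  let c := e.permCongrHom
  obtain ⟨⟨h, hh⟩, hh1⟩ := (img F).ne_bot_iff_exists_ne_one.mp hne
  have hfix : ∀ σ : Equiv.Perm (Fin 2 → F), IsAdd σ → c σ (e 0) = e 0 := fun σ hσ => by
    show e (σ (e.symm (e 0))) = e 0
    rw [Equiv.symm_apply_apply, hσ.zero]
  have hh0 : IsAdd h := by obtain ⟨s, -, rfl⟩ := hh; exact isAdd_lin s
  have hg3 : g ^ 3 = 1 := by
    rcases fix_pow (c g) (e 0) (hfix g hg) with h' | h'
    · exact c.injective (by rw [map_pow, h', map_one])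
    · have h'' : g ^ 2 = 1 := c.injective (by rw [map_pow, h', map_one])
      have h1 : g = 1 := by
        obtain ⟨k, hk⟩ := hodd
        have := pow_orderOf_eq_one g
        rwa [hk, pow_succ, pow_mul, h'', one_pow, one_mul] at this
      rw [h1, one_pow]
  have := three_cycles (c g) (c h) (e 0) (hfix g hg) (hfix h hh0) (by rw [← map_pow, hg3, map_one])
    (by rw [← map_pow, himg h hh, map_one]) (fun hc => hh1 (Subtype.ext (c.injective (hc.trans (map_one c).symm))))
  rcases this with h' | h' | h'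
  · rw [c.injective (h'.trans (map_one c).symm)]; exact one_mem _
  · rw [c.injective h']; exact hh
  · rw [← map_mul] at h'; rw [c.injective h']; exact mul_mem hh hh

end Cfsg.Agent.PLocal.Blocks.SL2
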