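import Cfsg.Agent.Lib.PLocal.BlockModule
import Mathlib.GroupTheory.PGroup
import Mathlib.GroupTheory.SpecificGroups.Alternating
import Mathlib.Algebra.BigOperators.Fin

/-!
Additive permutations of the even module normalizing the alternating group of odd degree.
-/

set_option linter.all false
set_option autoImplicit false

namespace Cfsg.Agent.PLocal.Blocks.AltModule

open Subgroup Finset
open Cfsg.Agent.PLocal.BlockModule (permAct pair z2 z2')

/-- The even vectors. -/
def EvenMod (n : ℕ) : AddSubgroup (Fin n → ZMod 2) where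
  carrier := {v | ∑ i, v i = 0}
  zero_mem' := by simp
  add_mem' := fun {v w} hv hw => by
    show ∑ i, (v + w) i = 0
    simp only [Pi.add_apply, Finset.sum_add_distrib]
    rw [hv, hw, add_zero]
  neg_mem' := fun {v} hv => by
    show ∑ i, (-v) i = 0
    simp only [Pi.neg_apply, Finset.sum_neg_distrib]
    rw [hv, neg_zero]

variable {n : ℕ}

theorem permAct_mem (σ : Equiv.Perm (Fin n)) {v : Fin n → ZMod 2} (hv : v ∈ EvenMod n) :
    permAct σ v ∈ EvenMod n := by
  show ∑ i, v (σ⁻¹ i) = 0
  rw [Equiv.sum_comp]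
  exact hv

/-- The action on the even module. -/
def act : Equiv.Perm (Fin n) →* Equiv.Perm (EvenMod n) where
  toFun σ :=
    { toFun := fun v => ⟨permAct σ v, permAct_mem σ v.2⟩
      invFun := fun v => ⟨permAct σ⁻¹ v, permAct_mem σ⁻¹ v.2⟩
      left_inv := fun v => Subtype.ext (funext fun i => by simp [permAct])
      right_inv := fun v => Subtype.ext (funext fun i => by simp [permAct]) }
  map_one' := Equiv.ext fun v => Subtype.ext (funext fun i => by simp [permAct])
  map_mul' σ τ := Equiv.ext fun v => Subtype.ext (funext fun i => by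
    simp [permAct, Equiv.Perm.mul_apply])

theorem act_apply (σ : Equiv.Perm (Fin n)) (v : EvenMod n) :
    ((act σ v : EvenMod n) : Fin n → ZMod 2) = permAct σ v := rfl

theorem act_injective (hn : 3 ≤ n) : Function.Injective (act : _ →* Equiv.Perm (EvenMod n)) := by
  rw [injective_iff_map_eq_one]
  intro σ h
  refine BlockModule.perm_faithful hn σ fun v hv => ?_
  exact congrArg Subtype.val (Equiv.congr_fun h ⟨v, hv⟩)

/-- The image of the alternating group. -/
def img (n : ℕ) : Subgroup (Equiv.Perm (EvenMod n)) := (alternatingGroup (Fin n)).map act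

theorem act_mem_normalizer (σ : Equiv.Perm (Fin n)) : act σ ∈ normalizer (img n : Set _) := by
  refine le_normalizer_map act ⟨σ, ?_, rfl⟩
  rw [normalizer_eq_top]; exact mem_top σ

/-- An additive permutation of the even module. -/
def IsAdd (g : Equiv.Perm (EvenMod n)) : Prop := ∀ v w, g (v + w) = g v + g w

theorem IsAdd.zero {g : Equiv.Perm (EvenMod n)} (h : IsAdd g) : g 0 = 0 := by
  have := h 0 0
  rw [add_zero] at this
  exact add_eq_left.mp this.symm

theorem pair_mem (a b : Fin n) : pair a b ∈ EvenMod n := BlockModule.sum_pair a b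

/-- The vectors of weight two. -/
def P (a b : Fin n) : EvenMod n := ⟨pair a b, pair_mem a b⟩

theorem z_cancel : ∀ x y z : ZMod 2, x + y + (x + z) = y + z := by decide

theorem P_add (a b c : Fin n) : P a b + P a c = P b c :=
  Subtype.ext (funext fun i => z_cancel _ _ _)

theorem P_self (a : Fin n) : P a a = 0 := Subtype.ext (funext fun i => z2' _)

/-- The support of a vector. -/
def supp (v : EvenMod n) : Finset (Fin n) :=
  Finset.univ.filter fun i => (v : Fin n → ZMod 2) i ≠ 0

theorem mem_supp {v : EvenMod n} {i : Fin n} : i ∈ supp v ↔ (v : Fin n → ZMod 2) i ≠ 0 := by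
  show i ∈ Finset.univ.filter (fun i => (v : Fin n → ZMod 2) i ≠ 0) ↔ _
  rw [Finset.mem_filter]
  exact ⟨And.right, fun h => ⟨Finset.mem_univ _, h⟩⟩

theorem supp_injective : Function.Injective (supp : EvenMod n → Finset (Fin n)) := fun v w h =>
  Subtype.ext (funext fun i => by
    have h' : (v : Fin n → ZMod 2) i ≠ 0 ↔ (w : Fin n → ZMod 2) i ≠ 0 := by rw [← mem_supp, ← mem_supp, h]
    by_cases hv : (v : Fin n → ZMod 2) i = 0
    · rw [hv, eq_comm]; by_contra hw; exact h'.mpr hw hv
    · rw [z2 _ hv, eq_comm]; exact z2 _ (h'.mp hv))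

theorem supp_zero : supp (0 : EvenMod n) = ∅ :=
  Finset.eq_empty_of_forall_notMem fun i hi => mem_supp.mp hi rfl

theorem even_card_supp (v : EvenMod n) : Even (supp v).card := by
  have h : ∑ i, (v : Fin n → ZMod 2) i = ((supp v).card : ZMod 2) := by
    rw [← Finset.sum_filter_ne_zero,
      show (Finset.univ.filter fun i => (v : Fin n → ZMod 2) i ≠ 0) = supp v from rfl,
      Finset.card_eq_sum_ones, Nat.cast_sum]
    refine Finset.sum_congr rfl fun i hi => ?_
    rw [z2 _ (mem_supp.mp hi), Nat.cast_one]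
  rw [show ∑ i, (v : Fin n → ZMod 2) i = 0 from v.2] at h
  exact ZMod.natCast_eq_zero_iff_even.mp h.symm

theorem two_le_card_supp {v : EvenMod n} (hv : v ≠ 0) : 2 ≤ (supp v).card := by
  obtain ⟨k, hk⟩ := even_card_supp v
  have h0 : (supp v).card ≠ 0 := fun h0 => hv (supp_injective (by
    rw [Finset.card_eq_zero.mp h0, supp_zero]))
  omega

theorem supp_act (σ : Equiv.Perm (Fin n)) (v : EvenMod n) :
    supp (act σ v) = (supp v).map σ.toEmbedding := by
  ext i
  rw [mem_supp, Finset.mem_map, act_apply]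
  constructor
  · exact fun h => ⟨σ⁻¹ i, mem_supp.mpr h, by simp⟩
  · rintro ⟨j, hj, rfl⟩
    simpa [permAct] using mem_supp.mp hj

theorem supp_P {a b : Fin n} (hab : a ≠ b) : supp (P a b) = {a, b} := by
  ext i
  rw [mem_supp]
  show (pair a b : Fin n → ZMod 2) i ≠ 0 ↔ _
  simp only [pair, Pi.add_apply, Finset.mem_insert, Finset.mem_singleton]
  by_cases hia : i = a
  · subst hia; simp [hab]
  · by_cases hib : i = b
    · subst hib; simp [hia]
    · simp [hia, hib]

theorem P_ne_zero {a b : Fin n} (hab : a ≠ b) : P a b ≠ 0 := fun h => by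
  have h' := congrArg (fun v => (supp v).card) h
  simp only [supp_P hab, supp_zero, Finset.card_pair hab, Finset.card_empty] at h'
  omega

/-- The alternating group is transitive on subsets with at least two points. -/
theorem exists_alt_map {s t : Finset (Fin n)} (h : s.card = t.card) (h2 : 2 ≤ s.card) :
    ∃ σ ∈ alternatingGroup (Fin n), s.map σ.toEmbedding = t := by
  classical
  obtain ⟨σ, hσ⟩ : ∃ σ : Equiv.Perm (Fin n), s.map σ.toEmbedding = t := by
    refine ⟨(Finset.equivOfCardEq h).extendSubtype, Finset.eq_of_subset_of_card_le ?_ (by rw [Finset.card_map, h])⟩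
    intro i hi
    obtain ⟨j, hj, rfl⟩ := Finset.mem_map.mp hi
    exact Equiv.extendSubtype_mem _ j hj
  rcases Int.units_eq_one_or (Equiv.Perm.sign σ) with h1 | h1
  · exact ⟨σ, Equiv.Perm.mem_alternatingGroup.mpr h1, hσ⟩
  · obtain ⟨a, ha, b, hb, hab⟩ := Finset.one_lt_card.mp h2
    refine ⟨σ * Equiv.swap a b, ?_, ?_⟩
    · rw [Equiv.Perm.mem_alternatingGroup, map_mul, h1, Equiv.Perm.sign_swap hab]; rfl
    · rw [← hσ]
      refine Finset.eq_of_subset_of_card_le (fun i hi => ?_) (by simp)
      obtain ⟨j, hj, rfl⟩ := Finset.mem_map.mp hi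
      refine Finset.mem_map.mpr ⟨Equiv.swap a b j, ?_, rfl⟩
      rcases eq_or_ne j a with rfl | hja
      · simpa using hb
      rcases eq_or_ne j b with rfl | hjb
      · simpa using ha
      · rwa [Equiv.swap_apply_of_ne_of_ne hja hjb]

/-- The orbit of an even vector under the alternating group. -/
theorem card_orbit (v : EvenMod n) (hv : v ≠ 0) :
    Nat.card {w : EvenMod n // ∃ g ∈ img n, g v = w} = n.choose (supp v).card := by
  classical
  have key : Nat.card {w : EvenMod n // ∃ g ∈ img n, g v = w} =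
      Nat.card {t : Finset (Fin n) // t.card = (supp v).card} := by
    refine Nat.card_congr (Equiv.ofBijective (fun w => ⟨supp w.1, ?_⟩) ⟨?_, ?_⟩)
    · obtain ⟨_, ⟨σ, -, rfl⟩, hw⟩ := w.2
      rw [← hw, supp_act, Finset.card_map]
    · intro a b h
      exact Subtype.ext (supp_injective (congrArg Subtype.val h))
    · rintro ⟨t, ht⟩
      obtain ⟨σ, hσ, hst⟩ := exists_alt_map ht.symm (two_le_card_supp hv)
      refine ⟨⟨act σ v, act σ, ⟨σ, hσ, rfl⟩, rfl⟩, Subtype.ext ?_⟩
      show supp _ = t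
      rw [supp_act, hst]
  rw [key, Nat.card_eq_fintype_card, Fintype.card_finset_len, Fintype.card_fin]

theorem eq_two_of_choose {k : ℕ} (hn : Odd n) (hk : Even k) (h2 : 2 ≤ k) (hkn : k ≤ n)
    (h : n.choose k = n.choose 2) : k = 2 := by
  obtain ⟨a, ha⟩ := hn
  obtain ⟨b, hb⟩ := hk
  by_contra hne
  have hstep : ∀ j, 3 ≤ j → j ≤ n / 2 → n.choose 3 ≤ n.choose j := by
    intro j hj
    induction j, hj using Nat.le_induction with
    | base => exact fun _ => le_rfl
    | succ j hj ih => exact fun hle => (ih (by omega)).trans (Nat.choose_le_succ_of_lt_half_left (by omega))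
  rcases (show k = n - 1 ∨ k + 3 ≤ n by omega) with hk1 | hk3
  · rw [hk1, Nat.choose_symm (by omega), Nat.choose_one_right, Nat.choose_two_right] at h
    have h6 : n * (n - 1) = n * (2 * a) := by rw [show n - 1 = 2 * a by omega]
    rw [h6, show n * (2 * a) = 2 * (n * a) by ring, Nat.mul_div_cancel_left _ (by norm_num)] at h
    have : n * 1 < n * a := Nat.mul_lt_mul_of_pos_left (by omega) (by omega)
    omega
  · have hlt : n.choose 2 < n.choose 3 := by
      have h3 : n.choose 3 * 3 = n.choose 2 * (n - 2) := Nat.choose_succ_right_eq n 2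
      have hpos : 0 < n.choose 2 := Nat.choose_pos (by omega)
      have : n.choose 2 * 5 ≤ n.choose 2 * (n - 2) := Nat.mul_le_mul_left _ (by omega)
      omega
    rcases le_or_gt k (n / 2) with hle | hle
    · have := hstep k (by omega) hle; omega
    · have := hstep (n - k) (by omega) (by omega)
      rw [Nat.choose_symm hkn] at this
      omega

theorem card_supp_image (hodd : Odd n) {g : Equiv.Perm (EvenMod n)} (hg : IsAdd g)
    (hnorm : g ∈ normalizer (img n : Set _)) {a b : Fin n} (hab : a ≠ b) :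
    (supp (g (P a b))).card = 2 := by
  classical
  have hne := P_ne_zero hab
  have hgne : g (P a b) ≠ 0 := fun h => hne (g.injective (h.trans hg.zero.symm))
  have e : Nat.card {w : EvenMod n // ∃ h ∈ img n, h (g (P a b)) = w} =
      Nat.card {w : EvenMod n // ∃ h ∈ img n, h (P a b) = w} := by
    refine Nat.card_congr (Equiv.subtypeEquiv g⁻¹ fun w => ?_)
    constructor
    · rintro ⟨h, hh, rfl⟩
      exact ⟨g⁻¹ * h * g, by simpa using (mem_normalizer_iff.mp (inv_mem hnorm) h).mp hh, rfl⟩
    · rintro ⟨h, hh, e⟩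
      refine ⟨g * h * g⁻¹, (mem_normalizer_iff.mp hnorm h).mp hh, ?_⟩
      rw [Equiv.Perm.mul_apply, Equiv.Perm.mul_apply,
        show g⁻¹ (g (P a b)) = P a b from g.symm_apply_apply _, e]
      exact g.apply_symm_apply w
  rw [card_orbit _ hgne, card_orbit _ hne, supp_P hab, Finset.card_pair hab] at e
  exact eq_two_of_choose hodd (even_card_supp _) (two_le_card_supp hgne)
    ((Finset.card_le_univ _).trans (by simp)) e

theorem z_sum : ∀ x y : ZMod 2, x + y ≠ 0 ↔ (x ≠ 0 ∧ y = 0) ∨ (y ≠ 0 ∧ x = 0) := by decide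

theorem supp_add (v w : EvenMod n) : supp (v + w) = (supp v \ supp w) ∪ (supp w \ supp v) := by
  ext i
  simp only [Finset.mem_union, Finset.mem_sdiff, mem_supp, not_not]
  exact z_sum _ _

theorem pair_of_mem {s : Finset (Fin n)} (hs : s.card = 2) {x y : Fin n} (hx : x ∈ s) (hy : y ∈ s)
    (hxy : x ≠ y) : s = {x, y} :=
  (Finset.eq_of_subset_of_card_le (by
    intro z hz; simp only [Finset.mem_insert, Finset.mem_singleton] at hz
    rcases hz with rfl | rfl <;> assumption) (by rw [hs, Finset.card_pair hxy])).symm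

/-- Pairs meeting pairwise in exactly one point, no three forming a triangle, share a point. -/
theorem exists_common {ι : Type*} (I : Set ι) (S : ι → Finset (Fin n)) {i j : ι} (hi : i ∈ I) (hj : j ∈ I)
    (hij : i ≠ j) (h2 : ∀ b ∈ I, (S b).card = 2) (h1 : ∀ b ∈ I, ∀ c ∈ I, b ≠ c → (S b ∩ S c).card = 1)
    (htri : ∀ b ∈ I, b ≠ i → b ≠ j → S b ≠ (S i \ S j) ∪ (S j \ S i)) : ∃ c, ∀ b ∈ I, c ∈ S b := by
  classical
  obtain ⟨c, hc⟩ := Finset.card_eq_one.mp (h1 i hi j hj hij)
  have hc0 : c ∈ S i ∩ S j := by rw [hc]; simp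
  refine ⟨c, fun b hb => ?_⟩
  by_contra hcb
  have hb0 : b ≠ i := fun e => hcb (e ▸ (Finset.mem_inter.mp hc0).1)
  have hb1 : b ≠ j := fun e => hcb (e ▸ (Finset.mem_inter.mp hc0).2)
  obtain ⟨x, hx⟩ := Finset.card_eq_one.mp (h1 b hb i hi hb0)
  obtain ⟨y, hy⟩ := Finset.card_eq_one.mp (h1 b hb j hj hb1)
  obtain ⟨hxb, hxi⟩ := Finset.mem_inter.mp (show x ∈ S b ∩ S i by rw [hx]; simp)
  obtain ⟨hyb, hyj⟩ := Finset.mem_inter.mp (show y ∈ S b ∩ S j by rw [hy]; simp)
  have hxy : x ≠ y := fun e => hcb (by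
    have h : x ∈ S i ∩ S j := Finset.mem_inter.mpr ⟨hxi, e ▸ hyj⟩
    rw [hc, Finset.mem_singleton] at h
    exact h ▸ hxb)
  have hxc : x ≠ c := fun e => hcb (e ▸ hxb)
  have hyc : y ≠ c := fun e => hcb (e ▸ hyb)
  refine htri b hb hb0 hb1 ?_
  rw [pair_of_mem (h2 b hb) hxb hyb hxy, pair_of_mem (h2 i hi) (Finset.mem_inter.mp hc0).1 hxi hxc.symm,
    pair_of_mem (h2 j hj) (Finset.mem_inter.mp hc0).2 hyj hyc.symm]
  ext z
  simp only [Finset.mem_insert, Finset.mem_singleton, Finset.mem_union, Finset.mem_sdiff]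
  constructor
  · rintro (rfl | rfl)
    · exact Or.inl ⟨Or.inr rfl, by simp [hxc, hxy]⟩
    · exact Or.inr ⟨Or.inr rfl, by simp [hyc, hxy.symm]⟩
  · rintro (⟨h | h, h'⟩ | ⟨h | h, h'⟩)
    · exact absurd (Or.inl h) h'
    · exact Or.inl h
    · exact absurd (Or.inl h) h'
    · exact Or.inr h

/-- Normalizing additive permutations come from permutations. -/
theorem exists_perm (hn : 3 ≤ n) (hodd : Odd n) {g : Equiv.Perm (EvenMod n)} (hg : IsAdd g)
    (hnorm : g ∈ normalizer (img n : Set _)) : ∃ π : Equiv.Perm (Fin n), g = act π := by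
  classical
  set o : Fin n := ⟨0, by omega⟩
  set S : Fin n → Finset (Fin n) := fun b => supp (g (P o b)) with hS
  have hS2 : ∀ b ∈ {b | b ≠ o}, (S b).card = 2 := fun b hb => card_supp_image hodd hg hnorm (Ne.symm hb)
  have hinter : ∀ b ∈ {b | b ≠ o}, ∀ c ∈ {b | b ≠ o}, b ≠ c → (S b ∩ S c).card = 1 := by
    intro b hb c hc hbc
    have h := card_supp_image hodd hg hnorm hbc
    rw [← P_add o b c, hg, supp_add, Finset.card_union_of_disjoint disjoint_sdiff_sdiff] at h
    have e1 := Finset.card_sdiff_add_card_inter (S b) (S c)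
    have e2 := Finset.card_sdiff_add_card_inter (S c) (S b)
    rw [Finset.inter_comm (S c) (S b), hS2 c hc] at e2
    rw [hS2 b hb] at e1
    change (S b \ S c).card + (S c \ S b).card = 2 at h
    omega
  obtain ⟨c, hc⟩ : ∃ c, ∀ b ∈ {b | b ≠ o}, c ∈ S b := by
    refine exists_common _ S (i := ⟨1, by omega⟩) (j := ⟨2, by omega⟩) (by simp [o, Fin.ext_iff])
      (by simp [o, Fin.ext_iff]) (by simp [Fin.ext_iff]) hS2 hinter fun b hb hb0 hb1 h => ?_
    have h' : supp (g (P o b)) = supp (g (P o ⟨1, by omega⟩ + P o ⟨2, by omega⟩)) := by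
      rw [hg, supp_add]; exact h
    have e := congrArg supp (g.injective (supp_injective h'))
    rw [P_add, supp_P (Ne.symm hb), supp_P (by simp [Fin.ext_iff])] at e
    have ho : o ∈ ({⟨1, by omega⟩, ⟨2, by omega⟩} : Finset (Fin n)) := by rw [← e]; simp
    simp [o, Fin.ext_iff] at ho
  have hex : ∀ b, ∃ d, b ≠ o → d ≠ c ∧ S b = {c, d} := by
    intro b
    by_cases hb : b = o
    · exact ⟨c, fun h => absurd hb h⟩
    have h2 := hS2 b hb
    rw [← Finset.insert_erase (hc b hb), Finset.card_insert_of_notMem (Finset.notMem_erase _ _)] at h2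
    obtain ⟨d, hd⟩ := Finset.card_eq_one.mp (show ((S b).erase c).card = 1 by omega)
    refine ⟨d, fun _ => ⟨fun e => ?_, ?_⟩⟩
    · have : d ∈ (S b).erase c := by rw [hd]; simp
      exact (Finset.mem_erase.mp this).1 e
    · rw [← hd, Finset.insert_erase (hc b hb)]
  choose f hf using hex
  set φ : Fin n → Fin n := fun b => if b = o then c else f b with hφ
  have hφinj : Function.Injective φ := by
    intro a b hab
    simp only [hφ] at hab
    by_cases ha : a = o <;> by_cases hb : b = o
    · rw [ha, hb]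
    · rw [if_pos ha, if_neg hb] at hab; exact absurd hab.symm (hf b hb).1
    · rw [if_neg ha, if_pos hb] at hab; exact absurd hab (hf a ha).1
    · rw [if_neg ha, if_neg hb] at hab
      by_contra hne
      have h := hinter a ha b hb hne
      rw [(hf a ha).2, (hf b hb).2, hab, Finset.inter_self, Finset.card_pair (hf b hb).1.symm] at h
      omega
  let π : Equiv.Perm (Fin n) := Equiv.ofBijective φ (Finite.injective_iff_bijective.mp hφinj)
  refine ⟨π, Equiv.ext fun v => ?_⟩
  have hgen : ∀ b, g (P o b) = act π (P o b) := by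
    intro b
    by_cases hb : b = o
    · rw [hb, P_self, hg.zero]
      exact Subtype.ext (funext fun i => rfl)
    refine supp_injective ?_
    show S b = _
    rw [supp_act, supp_P (Ne.symm hb), (hf b hb).2, Finset.map_insert, Finset.map_singleton]
    show _ = insert (φ o) {φ b}
    simp [hφ, hb]
  have hv : v = ∑ b, ((v : Fin n → ZMod 2) b).val • P o b := Subtype.ext (by
    rw [AddSubgroup.val_finsetSum]
    funext x
    simp only [AddSubgroup.coe_nsmul, Finset.sum_apply, Pi.smul_apply]
    simp only [P, pair, Pi.add_apply, nsmul_eq_mul, ZMod.natCast_val, ZMod.cast_id, id]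
    have hsum : ∑ b, (v : Fin n → ZMod 2) b = 0 := v.2
    simp only [mul_add, Finset.sum_add_distrib, ← Finset.sum_mul, hsum, zero_mul, zero_add]
    simp [Pi.single_apply])
  let gh : EvenMod n →+ EvenMod n := AddMonoidHom.mk' g hg
  let ah : EvenMod n →+ EvenMod n := AddMonoidHom.mk' (act π) fun a b => Subtype.ext (funext fun i => rfl)
  show gh v = ah v
  rw [hv, map_sum, map_sum]
  refine Finset.sum_congr rfl fun b _ => ?_
  rw [map_nsmul, map_nsmul]
  exact congrArg _ (hgen b)

/-- Normalizing elements of odd order are even permutations. -/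
theorem mem_img_of_odd (hn : 3 ≤ n) (hodd : Odd n) {g : Equiv.Perm (EvenMod n)} (hg : IsAdd g)
    (hnorm : g ∈ normalizer (img n : Set _)) {m : ℕ} (hm : Odd m) (hpow : g ^ m = 1) : g ∈ img n := by
  obtain ⟨π, rfl⟩ := exists_perm hn hodd hg hnorm
  refine ⟨π, Equiv.Perm.mem_alternatingGroup.mpr ?_, rfl⟩
  have h1 : π ^ m = 1 := act_injective hn (by rw [map_pow, map_one]; exact hpow)
  have h2 := congrArg Equiv.Perm.sign h1
  rw [map_pow, map_one] at h2
  rcases Int.units_eq_one_or (Equiv.Perm.sign π) with h | h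
  · exact h
  · rw [h, Odd.neg_one_pow hm] at h2; exact absurd h2 (by decide)

theorem card_evenMod (hn : 1 ≤ n) : Nat.card (EvenMod n) = 2 ^ (n - 1) := by
  obtain ⟨k, rfl⟩ := Nat.exists_eq_add_of_le' hn
  rw [show k + 1 - 1 = k by omega]
  refine (Nat.card_congr (Equiv.ofBijective (fun v : EvenMod (k + 1) => fun i : Fin k => (v : Fin (k + 1) → ZMod 2) i.succ)
    ⟨?_, ?_⟩)).trans (by rw [Nat.card_fun, Nat.card_zmod, Nat.card_eq_fintype_card, Fintype.card_fin])
  · intro v w h
    refine Subtype.ext (funext fun i => ?_)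
    refine Fin.cases ?_ (fun j => congr_fun h j) i
    have hv : ∑ i, (v : Fin (k + 1) → ZMod 2) i = 0 := v.2
    have hw : ∑ i, (w : Fin (k + 1) → ZMod 2) i = 0 := w.2
    rw [Fin.sum_univ_succ] at hv hw
    rw [Finset.sum_congr rfl fun j _ => congr_fun h j] at hv
    exact add_right_cancel (hv.trans hw.symm)
  · intro u
    refine ⟨⟨Fin.cons (∑ i, u i) u, ?_⟩, funext fun i => by simp⟩
    show ∑ i, _ = 0
    rw [Fin.sum_univ_succ]; simp [z2']

/-- A `2`-group of normalizing additive permutations fixes a nonzero vector. -/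
theorem exists_fixed (hn : 3 ≤ n) (Q : Subgroup (Equiv.Perm (EvenMod n))) (hQ : IsPGroup 2 Q)
    (hadd : ∀ a ∈ Q, IsAdd a) : ∃ v : EvenMod n, v ≠ 0 ∧ ∀ a ∈ Q, a v = v := by
  haveI : Fact (Nat.Prime 2) := ⟨Nat.prime_two⟩
  have hdvd : 2 ∣ Nat.card (EvenMod n) := by
    rw [card_evenMod (by omega)]; exact dvd_pow_self 2 (by omega)
  obtain ⟨v, hv, hv0⟩ := hQ.exists_fixed_point_of_prime_dvd_card_of_fixed_point (EvenMod n) hdvd
    (a := 0) (fun a => (hadd a a.2).zero)
  exact ⟨v, hv0.symm, fun a ha => hv ⟨a, ha⟩⟩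

/-- An abelian permutation group of exponent two is small. -/
theorem card_elementary (A : Subgroup (Equiv.Perm (Fin n))) (hc : ∀ a ∈ A, ∀ b ∈ A, a * b = b * a)
    (he : ∀ a ∈ A, a ^ 2 = 1) (hodd : Odd n) : Nat.card A ≤ 2 ^ (n - 2) ∨ n = 1 := by
  classical
  set O := MulAction.orbitRel.Quotient A (Fin n)
  have hinj : Function.Injective (fun (a : A) (o : O) => (⟨a • o.out, by
      rw [MulAction.orbitRel.Quotient.orbit_eq_orbit_out o Quotient.out_eq']
      exact MulAction.mem_orbit _ a⟩ : o.orbit)) := by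
    intro a b h
    refine Subtype.ext (Equiv.ext fun x => ?_)
    set o : O := Quotient.mk'' x
    obtain ⟨c, hc'⟩ : x ∈ MulAction.orbit A o.out := by
      rw [← MulAction.orbitRel.Quotient.orbit_eq_orbit_out o Quotient.out_eq']
      exact MulAction.orbitRel.Quotient.mem_orbit.mpr rfl
    have h' : a • o.out = b • o.out := congrArg Subtype.val (congr_fun h o)
    have hca : ∀ d : A, d * c = c * d := fun d => Subtype.ext (hc d d.2 c c.2)
    show a • x = b • x
    rw [← show c • o.out = x from hc', ← mul_smul, ← mul_smul, hca a, hca b, mul_smul, mul_smul, h']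
  have hsum : ∑ o : O, Nat.card o.orbit = n := by
    have := Nat.card_congr (MulAction.selfEquivSigmaOrbits' A (Fin n))
    rw [Nat.card_eq_fintype_card, Fintype.card_fin, Nat.card_sigma] at this
    exact this.symm
  have hpos : ∀ o : O, 1 ≤ Nat.card o.orbit := fun o => by
    haveI : Nonempty o.orbit := ⟨⟨o.out, by
      rw [MulAction.orbitRel.Quotient.orbit_eq_orbit_out o Quotient.out_eq']
      exact MulAction.mem_orbit_self _⟩⟩
    exact Nat.card_pos
  have hle : Nat.card A ≤ 2 ^ (n - Fintype.card O) := by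
    refine (Nat.card_le_card_of_injective _ hinj).trans ?_
    rw [Nat.card_pi]
    refine (Finset.prod_le_prod (fun o _ => Nat.zero_le _) (g := fun o : O => 2 ^ (Nat.card o.orbit - 1)) fun o _ => ?_).trans ?_
    · have h1 := hpos o
      have h2 : Nat.card o.orbit - 1 < 2 ^ (Nat.card o.orbit - 1) := Nat.lt_two_pow_self
      show Nat.card o.orbit ≤ 2 ^ (Nat.card o.orbit - 1)
      exact Nat.le_of_pred_lt h2
    · rw [Finset.prod_pow_eq_pow_sum, Finset.sum_tsub_distrib _ fun o _ => hpos o, hsum]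
      simp
  by_cases hO : 2 ≤ Fintype.card O
  · exact Or.inl (hle.trans (Nat.pow_le_pow_right (by norm_num) (by omega)))
  · -- a single orbit would be a power of two of odd size
    right
    have hn0 : 0 < n := Odd.pos hodd
    have hO0 : 0 < Fintype.card O := Fintype.card_pos_iff.mpr ⟨Quotient.mk'' ⟨0, hn0⟩⟩
    have hO1 : Fintype.card O = 1 := by omega
    obtain ⟨o, ho⟩ := Fintype.card_eq_one_iff.mp hO1
    rw [Fintype.sum_eq_single o fun x hx => absurd (ho x) hx] at hsum
    have hP : IsPGroup 2 A := fun a => ⟨1, Subtype.ext (by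
      rw [Subgroup.coe_pow, pow_one]; exact he a a.2)⟩
    haveI : Fact (Nat.Prime 2) := ⟨Nat.prime_two⟩
    obtain ⟨k, hk⟩ := hP.card_orbit o.out
    rw [show o.orbit = MulAction.orbit A o.out from MulAction.orbitRel.Quotient.orbit_eq_orbit_out o Quotient.out_eq', hk] at hsum
    rcases k with _ | k
    · simpa using hsum.symm
    · exact absurd hodd (Nat.not_odd_iff_even.mpr (hsum ▸ (Nat.even_pow.mpr ⟨even_two, k.succ_ne_zero⟩)))

/-- Elementary abelian groups of normalizing permutations are smaller than the module. -/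
theorem card_lt (hn : 3 ≤ n) (hodd : Odd n) (A : Subgroup (Equiv.Perm (EvenMod n)))
    (hadd : ∀ a ∈ A, IsAdd a) (hnorm : A ≤ normalizer (img n : Set _))
    (hc : ∀ a ∈ A, ∀ b ∈ A, a * b = b * a) (he : ∀ a ∈ A, a ^ 2 = 1) :
    Nat.card A < Nat.card (EvenMod n) := by
  have hle : A ≤ (act : _ →* Equiv.Perm (EvenMod n)).range := fun a ha => by
    obtain ⟨π, hπ⟩ := exists_perm hn hodd (hadd a ha) (hnorm ha)
    exact ⟨π, hπ.symm⟩
  have hcard : Nat.card (A.comap act) = Nat.card A := by
    rw [← card_map_of_injective (act_injective hn), map_comap_eq, inf_eq_right.mpr hle]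
  rw [card_evenMod (by omega), ← hcard]
  rcases card_elementary (A.comap act) (fun a ha b hb => act_injective hn (by
      rw [map_mul, map_mul]; exact hc _ ha _ hb)) (fun a ha => act_injective hn (by
      rw [map_pow, map_one]; exact he _ ha)) hodd with h | h
  · exact lt_of_le_of_lt h (Nat.pow_lt_pow_right (by norm_num) (by omega))
  · omega

/-- The stabilizer of a point in the alternating group has no quotient of exponent two. -/
theorem hom_stabilizer_eq_one {A : Type*} [Group A] (hA : ∀ x : A, x ^ 2 = 1) (a : Fin n)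
    (χ : ↥(alternatingGroup (Fin n) ⊓ MulAction.stabilizer (Equiv.Perm (Fin n)) a) →* A) : χ = 1 := by
  classical
  have hmem : ∀ σ : alternatingGroup {x : Fin n // x ≠ a},
      Equiv.Perm.ofSubtype (σ : Equiv.Perm {x : Fin n // x ≠ a}) ∈
        alternatingGroup (Fin n) ⊓ MulAction.stabilizer (Equiv.Perm (Fin n)) a := fun σ => by
    refine ⟨?_, ?_⟩
    · show _ ∈ alternatingGroup (Fin n)
      rw [Equiv.Perm.mem_alternatingGroup, Equiv.Perm.sign_ofSubtype]; exact σ.2
    · exact Equiv.Perm.ofSubtype_apply_of_not_mem _ (by simp)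
  let ι : alternatingGroup {x : Fin n // x ≠ a} →*
      ↥(alternatingGroup (Fin n) ⊓ MulAction.stabilizer (Equiv.Perm (Fin n)) a) :=
    { toFun := fun σ => ⟨_, hmem σ⟩
      map_one' := Subtype.ext (by simp)
      map_mul' := fun σ τ => Subtype.ext (by simp) }
  have hι : Function.Surjective ι := by
    rintro ⟨σ, hσa, hσs⟩
    have h : σ a = a := hσs
    have hs : ∀ x, σ x ≠ a ↔ x ≠ a := fun x =>
      not_congr ⟨fun e => σ.injective (e.trans h.symm), fun e => e ▸ h⟩
    refine ⟨⟨σ.subtypePerm hs, ?_⟩, Subtype.ext ?_⟩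
    · rw [Equiv.Perm.mem_alternatingGroup,
        Equiv.Perm.sign_subtypePerm (p := fun x => x ≠ a) σ hs fun x hx => show x ≠ a from fun e => hx (by rw [e, h])]
      exact hσa
    · exact Equiv.Perm.ofSubtype_subtypePerm (p := fun x => x ≠ a) hs fun x hx => show x ≠ a from fun e => hx (by rw [e, h])
  refine MonoidHom.ext fun x => ?_
  obtain ⟨σ, rfl⟩ := hι x
  have hσ : (σ : Equiv.Perm {x : Fin n // x ≠ a}) ∈ Subgroup.closure {c | Equiv.Perm.IsThreeCycle c} := by
    rw [Equiv.Perm.closure_three_cycles_eq_alternating]; exact σ.2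
  suffices h : ∀ τ ∈ Subgroup.closure {c : Equiv.Perm {x : Fin n // x ≠ a} | c.IsThreeCycle},
      ∃ hτ : τ ∈ alternatingGroup {x : Fin n // x ≠ a}, χ (ι ⟨τ, hτ⟩) = 1 by
    obtain ⟨_, h'⟩ := h _ hσ; exact h'
  intro τ hτ
  induction hτ using Subgroup.closure_induction with
  | mem c hc =>
    refine ⟨hc.mem_alternatingGroup, ?_⟩
    have h3 : (χ (ι ⟨c, hc.mem_alternatingGroup⟩)) ^ 3 = 1 := by
      rw [← map_pow, ← map_pow]
      have : (⟨c, hc.mem_alternatingGroup⟩ : alternatingGroup {x : Fin n // x ≠ a}) ^ 3 = 1 :=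
        Subtype.ext (by
          have := pow_orderOf_eq_one c
          rwa [hc.orderOf] at this)
      rw [this, map_one, map_one]
    rw [pow_succ, hA, one_mul] at h3
    exact h3
  | one => exact ⟨one_mem _, by rw [show (⟨1, _⟩ : alternatingGroup {x : Fin n // x ≠ a}) = 1 from rfl, map_one, map_one]⟩
  | mul x y _ _ hx hy =>
    obtain ⟨hx, hx'⟩ := hx
    obtain ⟨hy, hy'⟩ := hy
    refine ⟨mul_mem hx hy, ?_⟩
    rw [show (⟨x * y, mul_mem hx hy⟩ : alternatingGroup {x : Fin n // x ≠ a}) = ⟨x, hx⟩ * ⟨y, hy⟩ from rfl,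
      map_mul, map_mul, hx', hy', one_mul]
  | inv x _ hx =>
    obtain ⟨hx, hx'⟩ := hx
    refine ⟨inv_mem hx, ?_⟩
    rw [show (⟨x⁻¹, inv_mem hx⟩ : alternatingGroup {x : Fin n // x ≠ a}) = ⟨x, hx⟩⁻¹ from rfl,
      map_inv, map_inv, hx', inv_one]

end Cfsg.Agent.PLocal.Blocks.AltModule
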