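import Cfsg.Agent.Lib.PLocal.Blocks.Normalizer
import Cfsg.Prelude.Def_LocalStructure

/-!
Elementary abelian groups of normalizing permutations of the natural module.
-/

set_option linter.all false
set_option autoImplicit false

namespace Cfsg.Agent.PLocal.Blocks.SL2

open Subgroup
open scoped MatrixGroups commutatorElement
open Cfsg.Agent.PLocal.BlockModule (tU tL dg wl)

variable {F : Type*} [Field F]

local notation "M" => (Fin 2 → F)

/-- The common fixed points of a set of permutations. -/
def fixedSet (A : Subgroup (Equiv.Perm (Fin 2 → F))) : Set (Fin 2 → F) := {v | ∀ a ∈ A, a v = v}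

theorem card_mul_fixed_lt_aux {r h : ℕ} (hr : 2 ≤ r) (hh : 2 ≤ h) :
    h * r * r < r ^ h * r ^ h := by
  obtain ⟨k, rfl⟩ := Nat.exists_eq_add_of_le hh
  have h1 : 2 + k < r ^ k * r ^ k * r * r := by
    have h2 : k < r ^ k := Nat.lt_pow_self (by omega)
    have h3 : 1 ≤ r ^ k := Nat.one_le_pow _ _ (by omega)
    have h4 : r ^ k ≤ r ^ k * r ^ k := Nat.le_mul_of_pos_right _ h3
    have h5 : 4 ≤ r * r := Nat.mul_le_mul hr hr
    have h6 : r ^ k * 4 ≤ r ^ k * r ^ k * (r * r) := Nat.mul_le_mul h4 h5
    rw [mul_assoc]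
    omega
  calc (2 + k) * r * r < (r ^ k * r ^ k * r * r) * r * r :=
        Nat.mul_lt_mul_of_pos_right (Nat.mul_lt_mul_of_pos_right h1 (by omega)) (by omega)
    _ = r ^ (2 + k) * r ^ (2 + k) := by rw [pow_add, pow_two]; ring

/-- An elementary abelian group fixing the first basis vector is either inside the unitriangular group
or too small to be an offender. -/
theorem elementary_dichotomy [Fintype F] {p : ℕ} [Fact p.Prime] [CharP F p]
    (A : Subgroup (Equiv.Perm M)) (hadd : ∀ a ∈ A, IsAdd a)
    (hn : A ≤ normalizer (img F : Set _)) (hcomm : ∀ a ∈ A, ∀ b ∈ A, a * b = b * a)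
    (hexp : ∀ a ∈ A, a ^ p = 1) (hfix : ∀ a ∈ A, a ![1, 0] = ![1, 0]) :
    (∀ a ∈ A, ∃ s, a = lin (tU s)) ∨
      (Nat.card A * Nat.card (fixedSet A) < Nat.card M ∧ Nat.card A < Nat.card M) := by
  classical
  by_cases hall : ∀ a ∈ A, ∀ x, a ![x, 0] = ![x, 0]
  · exact Or.inl fun a ha => exists_tU_of_fix_line (p := p) (hadd a ha) (hn ha)
      ⟨1, by rw [pow_one]; exact hexp a ha⟩ (hall a ha)
  right
  rcases linear_dichotomy (F := F) with h4 | hlin
  swap
  · exfalso
    refine hall fun a ha x => ?_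
    rw [show (![x, 0] : M) = x • ![1, 0] by ext i; fin_cases i <;> simp, hlin a (hadd a ha), hfix a ha]
  have H := fun a : A => upper h4 (hadd a a.2) (hn a.2) (hfix a a.2)
  choose σ β c hc hv hconj hlin' using H
  have hβ0 : ∀ a, β a 0 = 0 := fun a => by
    have := congr_fun (hv a 0) 0
    rw [(hadd a a.2).zero] at this
    simpa using this.symm
  have hline : ∀ (a : A) x, (a : Equiv.Perm M) ![x, 0] = ![σ a x, 0] := fun a x => by
    rw [hv]; ext i; fin_cases i <;> simp [hβ0]
  let Φ : A →* (F ≃+* F) :=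
    { toFun := σ
      map_one' := RingEquiv.ext fun x => by
        have h : ![x, 0] = ![σ 1 x, 0] := hline 1 x
        exact (congr_fun h 0).symm
      map_mul' := fun a b => RingEquiv.ext fun x => by
        have h := congr_fun (hline (a * b) x) 0
        rw [Subgroup.coe_mul, Equiv.Perm.mul_apply, hline, hline] at h
        simp at h
        exact h.symm }
  set Hs := Φ.range with hHs
  haveI : Finite (F ≃+* F) := Finite.of_injective _ DFunLike.coe_injective
  haveI : Fintype Hs := Fintype.ofFinite _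
  haveI : FaithfulSMul Hs F := ⟨fun {a b} h => Subtype.ext (RingEquiv.ext h)⟩
  let K := FixedPoints.subfield Hs F
  have hK : ∀ x : F, x ∈ K ↔ ∀ a : A, σ a x = x := fun x => by
    constructor
    · exact fun h a => h ⟨_, a, rfl⟩
    · rintro h ⟨_, a, rfl⟩; exact h a
  have hq : Nat.card F = Nat.card K ^ Nat.card Hs := by
    rw [Module.natCard_eq_pow_finrank (K := K), FixedPoints.finrank_eq_card, Nat.card_eq_fintype_card (α := Hs)]
  have hr : 2 ≤ Nat.card K := Finite.one_lt_card
  have hh : 2 ≤ Nat.card Hs := by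
    by_contra hlt
    refine hall fun a ha x => ?_
    have hb : Hs = ⊥ := Subgroup.card_eq_one.mp (by
      have := Nat.card_pos (α := Hs); omega)
    have : Φ ⟨a, ha⟩ = 1 := by
      have h : Φ ⟨a, ha⟩ ∈ Hs := ⟨_, rfl⟩
      rwa [hb, mem_bot] at h
    have h' := hline ⟨a, ha⟩ x
    rw [show σ ⟨a, ha⟩ x = x from RingEquiv.congr_fun this x] at h'
    exact h'
  -- twisted fixed sets have at most `|K|` elements
  have hratio : ∀ (d : A → F), (∀ a, d a ≠ 0) → ∀ S : Set F, (∀ y ∈ S, ∀ a : A, d a * σ a y = y) →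
      Nat.card S ≤ Nat.card K := by
    intro d hd S hS
    by_cases hex : ∃ y ∈ S, y ≠ 0
    · obtain ⟨y₀, hy₀, h0⟩ := hex
      have hmem : ∀ y : S, (y : F) / y₀ ∈ K := fun y => (hK _).mpr fun a => by
        have h1 := hS y y.2 a
        have h2 := hS y₀ hy₀ a
        have hσ0 : σ a y₀ ≠ 0 := by simpa using h0
        rw [map_div₀]
        conv_rhs => rw [← h1, ← h2]
        rw [mul_div_mul_left _ _ (hd a)]
      refine Nat.card_le_card_of_injective (fun y : S => (⟨_, hmem y⟩ : K)) fun y z e => Subtype.ext ?_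
      have : (y : F) / y₀ = (z : F) / y₀ := congrArg Subtype.val e
      field_simp at this
      exact this
    · push Not at hex
      refine le_trans ?_ (le_trans one_le_two hr)
      refine Finite.card_le_one_iff_subsingleton.mpr ⟨fun y z => Subtype.ext ?_⟩
      rw [hex y y.2, hex z z.2]
  -- the fixed points
  let Fx : AddSubgroup M :=
    { carrier := fixedSet A
      zero_mem' := fun a ha => (hadd a ha).zero
      add_mem' := fun {v w} hv hw a ha => by rw [hadd a ha, hv a ha, hw a ha]
      neg_mem' := fun {v} hv a ha => by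
        have h : a (-v) + a v = 0 := by rw [← hadd a ha, neg_add_cancel, (hadd a ha).zero]
        rw [hv a ha] at h
        exact eq_neg_of_add_eq_zero_left h }
  let π : Fx →+ F :=
    { toFun := fun v => (v : M) 1, map_zero' := rfl, map_add' := fun _ _ => rfl }
  have hFix0 : Nat.card π.ker ≤ Nat.card K := by
    have hmem : ∀ v : π.ker, ((v : Fx) : M) 0 ∈ K := fun v => (hK _).mpr fun a => by
      have h1 : ((v : Fx) : M) 1 = 0 := v.2
      have h := congr_fun ((hv a _).symm.trans ((v : Fx).2 a a.2)) 0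
      rw [h1] at h
      simpa [hβ0] using h
    refine Nat.card_le_card_of_injective (fun v : π.ker => (⟨_, hmem v⟩ : K)) fun v w e =>
      Subtype.ext (Subtype.ext ?_)
    have h0 : ((v : Fx) : M) 0 = ((w : Fx) : M) 0 := congrArg Subtype.val e
    have h1 : ((v : Fx) : M) 1 = ((w : Fx) : M) 1 := (show _ = (0 : F) from v.2).trans (show _ = (0 : F) from w.2).symm
    rw [vec_eq ((v : Fx) : M), vec_eq ((w : Fx) : M), h0, h1]
  have hFix : Nat.card Fx ≤ Nat.card K * Nat.card K := by
    rw [← AddSubgroup.card_mul_index π.ker, AddSubgroup.index_ker]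
    refine Nat.mul_le_mul hFix0 (hratio c hc (π.range : Set F) ?_)
    rintro _ ⟨v, rfl⟩ a
    exact (congr_fun ((hv a _).symm.trans ((v : Fx).2 a a.2)) 1)
  -- the unitriangular part
  have hU : ∀ a : Φ.ker, ∃ s, ((a : A) : Equiv.Perm M) = lin (tU s) := fun a => by
    refine exists_tU_of_fix_line (p := p) (hadd _ (a : A).2) (hn (a : A).2)
      ⟨1, by rw [pow_one]; exact hexp _ (a : A).2⟩ fun x => ?_
    rw [hline, show σ (a : A) x = x from RingEquiv.congr_fun a.2 x]
  choose s hs using hU
  have hker : Nat.card Φ.ker ≤ Nat.card K := by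
    refine le_trans (Nat.card_le_card_of_injective (fun a => (⟨s a, Set.mem_range_self a⟩ : Set.range s))
      fun a b e => Subtype.ext (Subtype.ext (by rw [hs, hs, show s a = s b from congrArg Subtype.val e])))
      (hratio (fun b => (c b)⁻¹) (fun b => inv_ne_zero (hc b)) _ ?_)
    rintro _ ⟨a, rfl⟩ b
    have h := hconj b (s a)
    rw [← hs, hcomm _ b.2 _ (a : A).2, mul_inv_cancel_right, hs] at h
    have h' := congr_fun (Equiv.congr_fun h ![0, 1]) 0
    rw [tU_apply, tU_apply] at h'
    simp at h'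
    show (c b)⁻¹ * σ b (s a) = s a
    conv_rhs => rw [h']
    rw [div_eq_inv_mul]
  have hprod : Nat.card A * Nat.card Fx ≤ Nat.card Hs * Nat.card K * Nat.card K := by
    rw [← Φ.ker.card_mul_index, Subgroup.index_ker, ← hHs]
    by_cases htriv : Φ.ker = ⊥
    · rw [htriv, Subgroup.card_bot, one_mul, mul_assoc]
      exact Nat.mul_le_mul_left _ hFix
    · obtain ⟨a, ha, ha1⟩ := Φ.ker.ne_bot_iff_exists_ne_one.mp htriv |> fun ⟨a, ha⟩ => (⟨a, a.2, fun e => ha (Subtype.ext e)⟩ : ∃ a : A, a ∈ Φ.ker ∧ a ≠ 1)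
      have hs0 : s ⟨a, ha⟩ ≠ 0 := fun h0 => ha1 (Subtype.ext (by
        have := hs ⟨a, ha⟩
        rw [h0, tU_zero, map_one] at this
        exact this))
      have hπ : ∀ v : Fx, v ∈ π.ker := fun v => by
        have h := congr_fun ((v : Fx).2 a a.2) 0
        rw [show (a : Equiv.Perm M) = lin (tU (s ⟨a, ha⟩)) from hs ⟨a, ha⟩, tU_apply] at h
        simp at h
        exact h.resolve_left hs0
      have hFx : Nat.card Fx ≤ Nat.card K := le_trans
        (Nat.card_le_card_of_injective (fun v => (⟨v, hπ v⟩ : π.ker)) fun v w e => congrArg (fun x : π.ker => (x : Fx)) e)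
        hFix0
      calc Nat.card Φ.ker * Nat.card Hs * Nat.card Fx ≤ Nat.card K * Nat.card Hs * Nat.card K :=
            Nat.mul_le_mul (Nat.mul_le_mul_right _ hker) hFx
        _ = _ := by ring
  have hM : Nat.card M = Nat.card F * Nat.card F := by
    rw [Nat.card_fun, Nat.card_eq_fintype_card (α := Fin 2), Fintype.card_fin, pow_two]
  rw [hM, hq]
  have haux := card_mul_fixed_lt_aux hr hh
  refine ⟨lt_of_le_of_lt hprod haux, lt_of_le_of_lt ?_ haux⟩
  exact le_trans (Nat.le_mul_of_pos_right _ Nat.card_pos) hprod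

/-- Conjugating by elements of `SL₂` brings any nonzero vector to the first basis vector. -/
theorem exists_lin_apply_eq (v : M) (hv : v ≠ 0) : ∃ g : SL(2, F), lin g ![1, 0] = v := by
  by_cases h0 : v 0 = 0
  · have h1 : v 1 ≠ 0 := fun h1 => hv (by ext i; fin_cases i <;> assumption)
    refine ⟨(⟨!![0, -(v 1)⁻¹; v 1, 0], by rw [Matrix.det_fin_two_of, neg_mul, inv_mul_cancel₀ h1]; ring⟩ : SL(2, F)), ?_⟩
    show (!![0, -(v 1)⁻¹; v 1, 0] : Matrix (Fin 2) (Fin 2) F).mulVec ![1, 0] = v
    ext i
    fin_cases i <;> simp [Matrix.mulVec, dotProduct, Fin.sum_univ_two, h0]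
  · refine ⟨(⟨!![v 0, 0; v 1, (v 0)⁻¹], by rw [Matrix.det_fin_two_of, mul_inv_cancel₀ h0]; ring⟩ : SL(2, F)), ?_⟩
    show (!![v 0, 0; v 1, (v 0)⁻¹] : Matrix (Fin 2) (Fin 2) F).mulVec ![1, 0] = v
    ext i
    fin_cases i <;> simp [Matrix.mulVec, dotProduct, Fin.sum_univ_two]

/-- A `p`-group of additive permutations fixes a nonzero vector. -/
theorem exists_fixed [Fintype F] {p : ℕ} [Fact p.Prime] [CharP F p] (P : Subgroup (Equiv.Perm M))
    (hP : IsPGroup p P) (hadd : ∀ a ∈ P, IsAdd a) : ∃ v : M, v ≠ 0 ∧ ∀ a ∈ P, a v = v := by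
  have hdvd : p ∣ Nat.card M := by
    rw [Nat.card_fun, Nat.card_eq_fintype_card (α := Fin 2), Fintype.card_fin, Nat.card_eq_fintype_card]
    obtain ⟨n, hn⟩ := FiniteField.card F p
    rw [hn.2]
    exact dvd_pow (dvd_pow_self p n.pos.ne') two_ne_zero
  obtain ⟨v, hv, hv0⟩ := hP.exists_fixed_point_of_prime_dvd_card_of_fixed_point M hdvd
    (a := 0) (fun a => (hadd a a.2).zero)
  exact ⟨v, hv0.symm, fun a ha => hv ⟨a, ha⟩⟩

/-- Commutators with elements of `SL₂` are linear of determinant one. -/
theorem commutator_mem_range [Fintype F] {g : Equiv.Perm M} (hg : IsAdd g)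
    (hn : g ∈ normalizer (img F : Set _)) (s : SL(2, F)) :
    ⁅g, lin s⁆ ∈ (lin : SL(2, F) →* _).range := by
  suffices h : g * lin s * g⁻¹ ∈ (lin : SL(2, F) →* _).range by
    rw [commutatorElement_def]
    exact mul_mem h (inv_mem ⟨s, rfl⟩)
  rcases linear_dichotomy (F := F) with h4 | hlin
  · have hs : lin s ∈ img F := ⟨s, (commutator_eq_top (exists_sq_ne_one h4)).symm ▸ mem_top _, rfl⟩
    obtain ⟨u, -, hu⟩ := (mem_normalizer_iff.mp hn _).mp hs
    exact ⟨u, hu⟩
  · let L : Module.End F M :=
      { toFun := g, map_add' := hg, map_smul' := hlin g hg }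
    let L' : Module.End F M :=
      { toFun := g.symm, map_add' := hg.inv, map_smul' := hlin g⁻¹ hg.inv }
    let P := LinearMap.toMatrix' L
    let P' := LinearMap.toMatrix' L'
    have hPP : P * P' = 1 := by
      rw [← LinearMap.toMatrix'_mul, ← LinearMap.toMatrix'_one]
      congr 1
      exact LinearMap.ext fun v => g.apply_symm_apply v
    have hdet : (P * s.1 * P').det = 1 := by
      rw [Matrix.det_mul, Matrix.det_mul, s.2, mul_one, ← Matrix.det_mul, hPP, Matrix.det_one]
    refine ⟨⟨_, hdet⟩, Equiv.ext fun v => ?_⟩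
    show (P * s.1 * P').mulVec v = g (lin s (g.symm v))
    rw [← Matrix.mulVec_mulVec, ← Matrix.mulVec_mulVec, LinearMap.toMatrix'_mulVec,
      LinearMap.toMatrix'_mulVec]
    rfl

/-- Over three elements, square roots of the negative identity lie in the quaternion group. -/
theorem mem_img_of_sq [Fintype F] [CharP F 3] (h3 : Fintype.card F = 3) {g : Equiv.Perm M} (hg : IsAdd g)
    (hsq : ∀ v, g (g v) = -v) : g ∈ img F := by
  have hlin := hg.smul_of_prime (by rw [h3]; decide)
  let L : Module.End F M := { toFun := g, map_add' := hg, map_smul' := hlin }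
  set P := LinearMap.toMatrix' L with hP
  have hgP : ∀ v, g v = P.mulVec v := fun v => (LinearMap.toMatrix'_mulVec L v).symm
  have hall : ∀ x : F, x = 0 ∨ x = 1 ∨ x = -1 := by
    classical
    intro x
    by_contra hx
    push Not at hx
    have h01 : (1 : F) ≠ -1 := fun h => by
      have h2 : ((2 : ℕ) : F) = 0 := by push_cast; linear_combination h
      have := (CharP.cast_eq_zero_iff F 3 2).mp h2
      omega
    have := Finset.card_le_univ ({x, 0, 1, -1} : Finset F)
    rw [h3, Finset.card_insert_of_notMem (by simp [hx.1, hx.2.1, hx.2.2]), Finset.card_insert_of_notMem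
      (by simp), Finset.card_insert_of_notMem (by simp [h01]), Finset.card_singleton] at this
    omega
  have e1 := hsq ![1, 0]
  have e2 := hsq ![0, 1]
  simp only [hgP] at e1 e2
  have a1 := congr_fun e1 0
  have a2 := congr_fun e1 1
  have a3 := congr_fun e2 0
  have a4 := congr_fun e2 1
  simp [Matrix.mulVec, dotProduct, Fin.sum_univ_two] at a1 a2 a3 a4
  have hdet : P.det = 1 := by
    rw [Matrix.det_fin_two]
    by_cases ht : P 0 0 + P 1 1 = 0
    · linear_combination (P 0 0) * ht - a1
    · exfalso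
      have hb : P 0 1 = 0 := by
        have : P 0 1 * (P 0 0 + P 1 1) = 0 := by linear_combination a3
        exact (mul_eq_zero.mp this).resolve_right ht
      rw [hb] at a1
      rcases hall (P 0 0) with h | h | h <;> rw [h] at a1
      · simp at a1
      all_goals
        have h2 : ((2 : ℕ) : F) = 0 := by push_cast; linear_combination a1
        have := (CharP.cast_eq_zero_iff F 3 2).mp h2
        omega
  let Ps : SL(2, F) := ⟨P, hdet⟩
  have hpow : Ps ^ 4 = 1 := by
    refine lin_injective ?_
    have hg' : lin Ps = g := Equiv.ext fun v => (hgP v).symm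
    rw [map_pow, hg', map_one]
    refine Equiv.ext fun v => ?_
    show g (g (g (g v))) = v
    rw [hsq, hsq, neg_neg]
  exact ⟨Ps, mem_commutator_of_coprime (p := 3) (Nat.Coprime.coprime_dvd_left
    (orderOf_dvd_of_pow_eq_one hpow) (by decide)), Equiv.ext fun v => (hgP v).symm⟩

/-- An additive map preserving the determinant form is linear of determinant one. -/
theorem exists_lin_of_det {g : Equiv.Perm M} (hg : IsAdd g)
    (h : ∀ u v : M, g u 0 * g v 1 - g u 1 * g v 0 = u 0 * v 1 - u 1 * v 0) :
    ∃ s : SL(2, F), g = lin s := by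
  set a := g ![1, 0] 0
  set c := g ![1, 0] 1
  set b := g ![0, 1] 0
  set d := g ![0, 1] 1
  have hd : a * d - c * b = 1 := by have := h ![1, 0] ![0, 1]; simpa using this
  refine ⟨(⟨!![a, b; c, d], by rw [Matrix.det_fin_two_of]; linear_combination hd⟩ : SL(2, F)), Equiv.ext fun v => ?_⟩
  have h1 : g v 0 * d - g v 1 * b = v 0 := by have := h v ![0, 1]; simpa using this
  have h2 : a * g v 1 - c * g v 0 = v 1 := by have := h ![1, 0] v; simpa using this
  show g v = (!![a, b; c, d] : Matrix (Fin 2) (Fin 2) F).mulVec v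
  ext i
  fin_cases i <;> simp [Matrix.mulVec, dotProduct, Fin.sum_univ_two]
  · linear_combination a * h1 + b * h2 - (g v 0) * hd
  · linear_combination c * h1 + d * h2 - (g v 1) * hd

/-- An alternating form invariant under the derived group factors through the determinant. -/
theorem form_det [Fintype F] (h4 : 4 ≤ Fintype.card F) {A : Type*} [AddCommGroup A]
    (β : M →+ M →+ A) (halt : ∀ v, β v v = 0)
    (hinv : ∀ s ∈ commutator SL(2, F), ∀ u v, β (lin s u) (lin s v) = β u v) :
    ∀ u v : M, β u v = β ![u 0 * v 1 - u 1 * v 0, 0] ![0, 1] := by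
  have hmem : ∀ s : SL(2, F), s ∈ commutator SL(2, F) :=
    fun s => (commutator_eq_top (exists_sq_ne_one h4)).symm ▸ mem_top s
  have hskew : ∀ u v, β u v = - β v u := fun u v => by
    have := halt (u + v)
    simp only [map_add, AddMonoidHom.add_apply, halt, zero_add, add_zero] at this
    exact eq_neg_of_add_eq_zero_right this
  have hL : ∀ x y, β ![x, 0] ![y, 0] = 0 := fun x y => by
    have h := hinv _ (hmem (tU y)) ![x, 0] ![0, 1]
    rw [tU_apply, tU_apply] at h
    simp only [Matrix.cons_val_zero, Matrix.cons_val_one, mul_zero, add_zero, zero_add, mul_one] at h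
    rw [show (![y, 1] : M) = ![y, 0] + ![0, 1] by ext i; fin_cases i <;> simp, map_add] at h
    exact (add_eq_right.mp h)
  have hL' : ∀ x y, β ![0, x] ![0, y] = 0 := fun x y => by
    have h := hinv _ (hmem (tL y)) ![0, x] ![1, 0]
    rw [tL_apply, tL_apply] at h
    simp only [Matrix.cons_val_zero, Matrix.cons_val_one, mul_zero, add_zero, zero_add, mul_one] at h
    rw [show (![1, y] : M) = ![1, 0] + ![0, y] by ext i; fin_cases i <;> simp, map_add] at h
    exact (add_eq_left.mp h)
  have hmove : ∀ s x y, β ![s * x, 0] ![0, y] = β ![s * y, 0] ![0, x] := by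
    intro s x y
    have h := hinv _ (hmem (tU s)) ![0, x] ![0, y]
    rw [tU_apply, tU_apply] at h
    simp only [Matrix.cons_val_zero, Matrix.cons_val_one, zero_add] at h
    rw [show (![s * x, x] : M) = ![s * x, 0] + ![0, x] by ext i; fin_cases i <;> simp,
      show (![s * y, y] : M) = ![s * y, 0] + ![0, y] by ext i; fin_cases i <;> simp] at h
    simp only [map_add, AddMonoidHom.add_apply, hL, hL', zero_add, add_zero] at h
    rw [hskew ![0, x] ![s * y, 0]] at h
    exact add_neg_eq_zero.mp (by rw [add_comm]; exact h) |>.symm |>.symm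
  intro u v
  conv_lhs => rw [split u, split v]
  simp only [map_add, AddMonoidHom.add_apply, hL, hL', zero_add, add_zero]
  rw [hskew ![0, u 1] ![v 0, 0]]
  have h1 : β ![u 0, 0] ![0, v 1] = β ![u 0 * v 1, 0] ![0, 1] := by
    have := hmove (u 0) 1 (v 1); rwa [mul_one] at this
  have h2 : β ![v 0, 0] ![0, u 1] = β ![u 1 * v 0, 0] ![0, 1] := by
    have := hmove (v 0) 1 (u 1); rw [mul_one] at this; rw [this, mul_comm]
  rw [h1, h2, show (![u 0 * v 1 - u 1 * v 0, 0] : M) = ![u 0 * v 1, 0] - ![u 1 * v 0, 0] by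
    ext i; fin_cases i <;> simp, map_sub, AddMonoidHom.sub_apply]
  abel

end Cfsg.Agent.PLocal.Blocks.SL2
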