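import Cfsg.Agent.Lib.PLocal.Blocks.Rep

/-!
When a group centralizing `[W,E]` normalizes a block.
-/

set_option linter.all false
set_option autoImplicit false

namespace Cfsg.Agent.PLocal.Blocks

open Subgroup Cfsg
open scoped commutatorElement

variable {G : Type*} [Group G] [Finite G] {p : ℕ} [Fact p.Prime] {E : Subgroup G} {T : Sylow p G}

local notation "WE" => omegaOneCenter p (pCoreOf p E)
local notation "ZE" => omegaOneCenter p (pCoreOf p E) ⊓ Subgroup.centralizer (E : Set G)
local notation "WC" => ⁅omegaOneCenter p (pCoreOf p E), E⁆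

/-- The subgroup generated by the conjugates of `E` under `X`. -/
def conjClosure (E X : Subgroup G) : Subgroup G :=
  ⨆ c : X, E.map (MulAut.conj (c : G)).toMonoidHom

omit [Finite G] in
theorem le_conjClosure (E X : Subgroup G) : E ≤ conjClosure E X := by
  refine le_trans (le_of_eq ?_) (le_iSup (fun c : X => E.map (MulAut.conj (c : G)).toMonoidHom) 1)
  ext x; simp

omit [Finite G] in
theorem conjClosure_le {E X K : Subgroup G} (hE : E ≤ K) (hX : X ≤ normalizer (K : Set G)) :
    conjClosure E X ≤ K :=
  iSup_le fun c => (map_mono hE).trans (mem_normalizer_iff_map_conj_eq.mp (hX c.2)).le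

theorem le_normalizer_conjClosure {E X Y : Subgroup G} (hYX : Y ≤ normalizer (X : Set G))
    (hYE : Y ≤ normalizer (E : Set G)) : Y ≤ normalizer (conjClosure E X : Set G) := by
  intro y hy
  rw [mem_normalizer_iff_map_conj_eq]
  refine eq_of_le_of_card_ge ?_ (card_map_of_injective (MulAut.conj y).injective).ge
  rw [conjClosure, Subgroup.map_iSup]
  refine iSup_le fun c => ?_
  have hc : y * c * y⁻¹ ∈ X := (mem_normalizer_iff.mp (hYX hy) _).mp c.2
  refine le_trans (le_of_eq ?_)
    (le_iSup (fun d : X => E.map (MulAut.conj (d : G)).toMonoidHom) ⟨_, hc⟩)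
  have e : (MulAut.conj y).toMonoidHom.comp (MulAut.conj (c : G)).toMonoidHom =
      (MulAut.conj (y * c * y⁻¹)).toMonoidHom.comp (MulAut.conj y).toMonoidHom := by
    ext x; simp [mul_assoc]
  rw [map_map, show ((↑(MulAut.conj y) : G →* G)) = (MulAut.conj y).toMonoidHom from rfl, e, ← map_map,
    show E.map (MulAut.conj y).toMonoidHom = E from mem_normalizer_iff_map_conj_eq.mp (hYE hy)]

/-- A group `K` centralizing `[W,E]` normalizes the block if the `p'`-elements of the group
generated by the conjugates of the block centralize a suitable series. -/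
theorem le_normalizer_of_stab (hE : IsBaumannBlock p (T : Subgroup G) E) {K R S : Subgroup G}
    (hR : IsPGroup p R) (hC : centralizer (R : Set G) ≤ R)
    (hEK : E ≤ normalizer (K : Set G))
    (hBK : baumannSubgroupOf p (T : Subgroup G) ≤ normalizer (K : Set G))
    (hKR : K ≤ normalizer (R : Set G)) (hER : E ≤ normalizer (R : Set G))
    (hKS : K ≤ normalizer (S : Set G)) (hES : E ≤ normalizer (S : Set G)) (hRE : ⁅R, E⁆ ≤ S)
    (hD : ∀ x ∈ conjClosure E K ⊓ K, (orderOf x).Coprime p → x ∈ centralizer (S : Set G)) :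
    K ≤ normalizer (E : Set G) := by
  set M := conjClosure E K with hM
  set D := M ⊓ K with hDdef
  have hRM : ⁅R, M⁆ ≤ S := by
    let Q : Subgroup G :=
      { carrier := {m | m ∈ normalizer (R : Set G) ∧ m ∈ normalizer (S : Set G) ∧ ∀ r ∈ R, ⁅r, m⁆ ∈ S}
        one_mem' := ⟨one_mem _, one_mem _, fun r _ => by simp⟩
        mul_mem' := by
          rintro a b ⟨ha, ha', ha''⟩ ⟨hb, hb', hb''⟩
          refine ⟨mul_mem ha hb, mul_mem ha' hb', fun r hr => ?_⟩
          rw [show ⁅r, a * b⁆ = ⁅r, a⁆ * (a * ⁅r, b⁆ * a⁻¹) by simp [commutatorElement_def, mul_assoc]]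
          exact mul_mem (ha'' r hr) ((mem_normalizer_iff.mp ha' _).mp (hb'' r hr))
        inv_mem' := by
          rintro a ⟨ha, ha', ha''⟩
          refine ⟨inv_mem ha, inv_mem ha', fun r hr => ?_⟩
          have h1 := (mem_normalizer_iff''.mp ha' _).mp (inv_mem (ha'' r hr))
          convert h1 using 1
          simp [commutatorElement_def, mul_assoc] }
    have hQ : M ≤ Q := by
      refine conjClosure_le (fun e he => ⟨hER he, hES he, fun r hr => hRE (commutator_mem_commutator hr he)⟩) ?_
      intro k hk
      rw [mem_normalizer_iff_map_conj_eq]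
      refine eq_of_le_of_card_ge ?_ (card_map_of_injective (MulAut.conj k).injective).ge
      rintro _ ⟨m, ⟨hm, hm', hm''⟩, rfl⟩
      refine ⟨mul_mem (mul_mem (hKR hk) hm) (inv_mem (hKR hk)),
        mul_mem (mul_mem (hKS hk) hm') (inv_mem (hKS hk)), fun r hr => ?_⟩
      have h1 := hm'' _ ((mem_normalizer_iff''.mp (hKR hk) r).mp hr)
      have h2 := (mem_normalizer_iff.mp (hKS hk) _).mp h1
      convert h2 using 1
      simp [commutatorElement_def, mul_assoc]
    exact commutator_le.mpr fun r hr m hm => (hQ hm).2.2 r hr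
  have hDp : IsPGroup p D := by
    refine CharP.isPGroup_of_forall_coprime fun x hx hcop => ?_
    exact eq_one_of_stab hR hC hcop (hKR hx.2) (hD x hx hcop)
      fun r hr => hRM (commutator_mem_commutator hr hx.1)
  have hEM : E ≤ normalizer (M : Set G) := (le_conjClosure E K).trans Subgroup.le_normalizer
  have hBM : baumannSubgroupOf p (T : Subgroup G) ≤ normalizer (M : Set G) :=
    le_normalizer_conjClosure hBK (BlockBasic.baumann_le_normalizer hE)
  have hDN : D ≤ normalizer (E : Set G) := BlockBasic.le_normalizer_block hE hDp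
    ((le_inf hBM hBK).trans inf_normalizer_le_normalizer_inf)
    ((le_inf hEM hEK).trans inf_normalizer_le_normalizer_inf)
  have hMEK : M ≤ E ⊔ D := by
    have h1 : M ≤ E ⊔ K := conjClosure_le le_sup_left
      (le_sup_right.trans Subgroup.le_normalizer)
    intro m hm
    have h2 := h1 hm
    rw [← SetLike.mem_coe, Subgroup.coe_mul_of_left_le_normalizer_right _ _ hEK] at h2
    obtain ⟨e, he, x, hx, rfl⟩ := h2
    refine mul_mem (Subgroup.mem_sup_left he) (Subgroup.mem_sup_right ⟨?_, hx⟩)
    simpa using mul_mem (inv_mem (le_conjClosure E K he)) hm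
  intro c hc
  rw [mem_normalizer_iff_map_conj_eq]
  refine eq_of_le_of_card_ge (le_of_le_sup ?_ hDp hDN ?_) (card_map_of_injective (MulAut.conj c).injective).ge
  · rw [← CharP.map_resOf, BlockBasic.resOf_eq hE]
  · exact le_trans (le_iSup (fun d : K => E.map (MulAut.conj (d : G)).toMonoidHom) ⟨c, hc⟩) hMEK

theorem le_normalizer_centralizer_WC : Subgroup.normalizer (E : Set G) ≤
    normalizer (centralizer ((WC : Subgroup G) : Set G) : Set G) := by
  refine le_trans ?_ (CharP.normalizer_le_normalizer_centralizer _)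
  intro x hx
  rw [mem_normalizer_iff_map_conj_eq, Subgroup.map_commutator,
    mem_normalizer_iff_map_conj_eq.mp ((BlockLocation.le_normalizer_ZE (le_refl _)).1 hx),
    mem_normalizer_iff_map_conj_eq.mp hx]

/-- The facts on the core of the group relative to a block. -/
theorem core_facts (hG : centralizer (pCore p G : Set G) ≤ pCore p G)
    (hE : IsBaumannBlock p (T : Subgroup G) E) :
    pCore p G ≤ normalizer (E : Set G) ∧ ⁅pCore p G, E⁆ ≤ pCoreOf p E ⊓ pCore p G ∧
      pCore p G ≤ centralizer ((WC : Subgroup G) : Set G) := by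
  have hRp : IsPGroup p (pCore p G) := CharP.isPGroup_pCore p G
  have hn : ∀ X : Subgroup G, X ≤ normalizer (pCore p G : Set G) := fun X x _ => by
    rw [normalizer_eq_top]; exact mem_top x
  have hRE : pCore p G ≤ normalizer (E : Set G) := BlockBasic.le_normalizer_block hE hRp (hn _) (hn _)
  refine ⟨hRE, le_inf ?_ (le_normalizer_iff_commutator_le_left.mp (hn E)),
    le_centralizer_of_pgroup hE hRp hRE (hn _)⟩
  refine le_trans (le_inf ?_ (le_normalizer_iff_commutator_le_left.mp (hn E)))
    (CharP.le_pCoreOf (inf_le_left : E ⊓ pCore p G ≤ E)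
      ((le_inf Subgroup.le_normalizer (hn _)).trans inf_normalizer_le_normalizer_inf)
      (hRp.to_le inf_le_right))
  rw [Subgroup.commutator_comm]
  exact le_normalizer_iff_commutator_le_left.mp hRE

/-- `C(W_E)` normalizes the block unless the core of the block is inside the core of the group. -/
theorem le_normalizer_of_core_le (hG : centralizer (pCore p G : Set G) ≤ pCore p G)
    (hE : IsBaumannBlock p (T : Subgroup G) E) (h : pCoreOf p E ⊓ pCore p G ≤ WE) :
    centralizer ((WC : Subgroup G) : Set G) ≤ normalizer (E : Set G) := by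
  have hRp : IsPGroup p (pCore p G) := CharP.isPGroup_pCore p G
  have hn : ∀ X : Subgroup G, X ≤ normalizer (pCore p G : Set G) := fun X x _ => by
    rw [normalizer_eq_top]; exact mem_top x
  obtain ⟨hRE, hRQ, -⟩ := core_facts hG hE
  have hEW : E ≤ normalizer ((WC : Subgroup G) : Set G) := normalizer_commutator_ge_right _ _
  have hRW : ⁅pCore p G, E⁆ ≤ (WC : Subgroup G) :=
    commutator_le_of_commutator_commutator_le (BlockBasic.resOf_eq hE) hRp (hn E) hEW
      (commutator_mono (hRQ.trans h) le_rfl)
  refine le_normalizer_of_stab hE hRp hG (Subgroup.le_normalizer.trans le_normalizer_centralizer_WC)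
    ((BlockBasic.baumann_le_normalizer hE).trans le_normalizer_centralizer_WC) (hn _) (hn E)
    (centralizer_le_normalizer _) hEW hRW fun x hx _ => hx.2

end Cfsg.Agent.PLocal.Blocks
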