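import Cfsg.Agent.Lib.PLocal.Blocks.Rep
import Cfsg.Agent.Lib.PLocal.Blocks.Bound
import Cfsg.Agent.Lib.PLocal.Blocks.Alt

/-!
Coordinates for the modules of the two kinds of blocks.
-/

set_option linter.all false
set_option autoImplicit false

namespace Cfsg.Agent.PLocal.Blocks

open Subgroup Cfsg
open scoped commutatorElement MatrixGroups
open Cfsg.Agent.PLocal.BlockModule (tU tL dg wl permAct)

variable {G : Type*} [Group G] [Finite G] {p : ℕ} [Fact p.Prime] {E : Subgroup G} {T : Sylow p G}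

local notation "WE" => omegaOneCenter p (pCoreOf p E)
local notation "ZE" => omegaOneCenter p (pCoreOf p E) ⊓ Subgroup.centralizer (E : Set G)
local notation "NE" => Subgroup.normalizer (E : Set G)
local notation "WC" => ⁅omegaOneCenter p (pCoreOf p E), E⁆

namespace Rep

variable {M : Type*} [AddCommGroup M] (ρ : Rep p E M)

theorem onBlock_apply (e : ↥E) : ρ.onBlock e = ρ.act ⟨e, Subgroup.le_normalizer e.2⟩ := rfl

theorem onBlock_eq_of (e : ↥E) (f : Equiv.Perm M)
    (h : ∀ u : ↥WE, ∃ w : ↥WE, (w : G) = (e : G) * u * (e : G)⁻¹ ∧ ρ.coord w = f (ρ.coord u)) :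
    ρ.onBlock e = f := by
  refine Equiv.ext fun v => ?_
  obtain ⟨u, rfl⟩ := ρ.coord_surjective v
  obtain ⟨w, hw, hf⟩ := h u
  rw [onBlock_apply, act_coord, ← hf]
  congr 1
  exact Subtype.ext hw.symm

/-- Change of coordinates. -/
def trans (f : M ≃+ M) : Rep p E M where
  toHom := (AddMonoidHom.toMultiplicative f.toAddMonoidHom).comp ρ.toHom
  surj := fun v => by
    obtain ⟨u, hu⟩ := ρ.coord_surjective (f.symm (Multiplicative.toAdd v))
    refine ⟨u, ?_⟩
    show Multiplicative.ofAdd (f (ρ.coord u)) = v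
    rw [hu, AddEquiv.apply_symm_apply, ofAdd_toAdd]
  ker := fun u => by
    show Multiplicative.ofAdd (f (ρ.coord u)) = 1 ↔ _
    rw [show (1 : Multiplicative M) = Multiplicative.ofAdd 0 from rfl, Multiplicative.ofAdd.injective.eq_iff,
      AddEquiv.map_eq_zero_iff, coord_eq_zero]

theorem trans_act (f : M ≃+ M) (x : ↥NE) :
    (ρ.trans f).act x = f.toEquiv * ρ.act x * f.toEquiv⁻¹ := by
  refine Equiv.ext fun v => ?_
  obtain ⟨u, rfl⟩ := (ρ.trans f).coord_surjective v
  rw [act_coord]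
  show f (ρ.coord _) = f (ρ.act x (f.symm (f (ρ.coord u))))
  rw [AddEquiv.symm_apply_apply, act_coord]

include ρ in
theorem relIndex_eq_card : (ZE).relIndex WE = Nat.card M := by
  have hker : ρ.toHom.ker = (ZE).subgroupOf WE := by
    ext u; rw [MonoidHom.mem_ker, ρ.ker, mem_subgroupOf]
  rw [Subgroup.relIndex, ← hker, Subgroup.index_ker, MonoidHom.range_eq_top.mpr ρ.surj, Subgroup.card_top]
  exact Nat.card_congr Multiplicative.toAdd

end Rep

theorem charP_of_card {F : Type*} [Field F] [Fintype F] {n : ℕ} (h : Fintype.card F = p ^ n) :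
    CharP F p := by
  have hn : n ≠ 0 := by
    rintro rfl
    rw [pow_zero] at h
    exact absurd h (Fintype.one_lt_card).ne'
  obtain ⟨q, hq⟩ := CharP.exists F
  haveI := hq
  obtain ⟨m, hqp, hm⟩ := FiniteField.card F q
  have hp : p = q := by
    have h1 : p ∣ q ^ (m : ℕ) := by rw [← hm, h]; exact dvd_pow_self p hn
    exact (Nat.prime_dvd_prime_iff_eq Fact.out hqp).mp ((Fact.out : p.Prime).dvd_of_dvd_pow h1)
  exact hp ▸ hq

/-- The exceptional condition on a block. -/
def IsExceptional (p : ℕ) (T E : Subgroup G) (F : Type) [Field F] (n : ℕ) : Prop :=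
  p = 3 ∧
    ActsAsSL2OnSection F (commutator (Matrix.SpecialLinearGroup (Fin 2) F)) E
      (pCoreOf p E) (omegaOneCenter p (pCoreOf p E)) ∧
    ⁅pCoreOf p E, pCoreOf p E⁆ = omegaOneCenter p (pCoreOf p E) ⊓ Subgroup.centralizer (E : Set G) ∧
    (frattini ↥(pCoreOf p E)).map (pCoreOf p E).subtype =
      omegaOneCenter p (pCoreOf p E) ⊓ Subgroup.centralizer (E : Set G) ∧
    E ⊓ Subgroup.centralizer (E : Set G) =
      omegaOneCenter p (pCoreOf p E) ⊓ Subgroup.centralizer (E : Set G) ∧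
    Nat.card ↥(E ⊓ Subgroup.centralizer (E : Set G)) = 3 ^ n ∧
    ∀ b : G, b ∈ baumannSubgroupOf p T → b ∉ Subgroup.centralizer (omegaOneCenter p (pCoreOf p E) : Set G) →
      ¬ ⁅⁅pCoreOf p E, Subgroup.zpowers b⁆, Subgroup.zpowers b⁆ ≤ E ⊓ Subgroup.centralizer (E : Set G)

/-- The two kinds of blocks, with coordinates. -/
theorem block_cases (hE : IsBaumannBlock p (T : Subgroup G) E) :
    (∃ (F : Type) (_ : Field F) (_ : Fintype F) (_ : CharP F p) (n : ℕ) (ρ : Rep p E (Fin 2 → F)),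
      Fintype.card F = p ^ n ∧ ρ.onBlock.range = SL2.img F ∧
        (pCoreOf p E = WE ∨ IsExceptional p (T : Subgroup G) E F n)) ∨
    (p = 2 ∧ ∃ (n : ℕ) (ρ : Rep p E (AltModule.EvenMod n)), 3 ≤ n ∧ Odd n ∧
      ρ.onBlock.range = AltModule.img n ∧ pCoreOf p E = WE) := by
  rcases hE.2.2.2.2 with ⟨F, iF, iFt, n, hF, -, ⟨-, -, ρ, ψ, hρ, hψ, hker, heq⟩, hrest⟩ |
    ⟨hp, m, ⟨iso⟩, ⟨-, -, ρ, ψ, hρ, heven, hsurj, hker, heq⟩, hrest⟩
  · refine Or.inl ⟨F, iF, iFt, charP_of_card hF, n, ⟨ψ, hψ, hker⟩, hF, ?_, hrest⟩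
    have he : ∀ e : ↥E, (⟨ψ, hψ, hker⟩ : Rep p E (Fin 2 → F)).onBlock e = SL2.lin (ρ e) := fun e => by
      refine Rep.onBlock_eq_of _ e _ fun u => ?_
      obtain ⟨w, hw, h⟩ := heq e u
      exact ⟨w, hw, h⟩
    rw [SL2.img, ← hρ, ← MonoidHom.range_comp]
    ext σ
    constructor
    · rintro ⟨e, rfl⟩; exact ⟨e, (he e).symm⟩
    · rintro ⟨e, rfl⟩; exact ⟨e, he e⟩
  · have hn : 3 ≤ 2 * m + 1 := by
      by_contra hlt
      refine BlockModule.not_le_core hE fun x hx => ?_
      have hm : m = 0 := by omega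
      subst hm
      have : (⟨x, hx⟩ : ↥E) ∈ pCore p ↥E := (QuotientGroup.eq_one_iff _).mp (iso.injective (by
        haveI : Subsingleton (Equiv.Perm (Fin (2 * 0 + 1))) := inferInstanceAs (Subsingleton (Equiv.Perm (Fin 1)))
        exact Subsingleton.elim _ _))
      exact ⟨_, this, rfl⟩
    let ψ' : ↥WE →* Multiplicative (AltModule.EvenMod (2 * m + 1)) :=
      { toFun := fun u => Multiplicative.ofAdd ⟨Multiplicative.toAdd (ψ u), heven u⟩
        map_one' := by
          refine Multiplicative.toAdd.injective (Subtype.ext ?_)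
          show Multiplicative.toAdd (ψ 1) = 0
          rw [map_one]; rfl
        map_mul' := fun u v => by
          refine Multiplicative.toAdd.injective (Subtype.ext ?_)
          show Multiplicative.toAdd (ψ (u * v)) = Multiplicative.toAdd (ψ u) + Multiplicative.toAdd (ψ v)
          rw [map_mul]; rfl }
    have hψ' : Function.Surjective ψ' := fun v => by
      obtain ⟨u, hu⟩ := hsurj (Multiplicative.toAdd v).1 (Multiplicative.toAdd v).2
      exact ⟨u, Multiplicative.toAdd.injective (Subtype.ext hu)⟩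
    have hker' : ∀ u, ψ' u = 1 ↔ (u : G) ∈ ZE := fun u => by
      rw [← hker]
      constructor
      · intro h
        exact Multiplicative.toAdd.injective (congrArg Subtype.val (congrArg Multiplicative.toAdd h))
      · intro h
        exact Multiplicative.toAdd.injective (Subtype.ext (congrArg Multiplicative.toAdd h))
    refine Or.inr ⟨hp, 2 * m + 1, ⟨ψ', hψ', hker'⟩, hn, ⟨m, rfl⟩, ?_, hrest⟩
    have he : ∀ e : ↥E, (⟨ψ', hψ', hker'⟩ : Rep p E (AltModule.EvenMod (2 * m + 1))).onBlock e =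
        AltModule.act (ρ e) := fun e => by
      refine Rep.onBlock_eq_of _ e _ fun u => ?_
      obtain ⟨w, hw, h⟩ := heq e u
      exact ⟨w, hw, Subtype.ext (funext h)⟩
    rw [AltModule.img, ← hρ, ← MonoidHom.range_comp]
    ext σ
    constructor
    · rintro ⟨e, rfl⟩; exact ⟨e, (he e).symm⟩
    · rintro ⟨e, rfl⟩; exact ⟨e, he e⟩

namespace Rep

variable {F : Type} [Field F] [Fintype F] (ρ : Rep p E (Fin 2 → F))

theorem isAdd_act (x : ↥NE) : SL2.IsAdd (ρ.act x) := ρ.act_add x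

theorem act_mem_normalizer_img (hρ : ρ.onBlock.range = SL2.img F) (x : ↥NE) :
    ρ.act x ∈ normalizer (SL2.img F : Set (Equiv.Perm (Fin 2 → F))) := hρ ▸ ρ.act_mem_normalizer x

/-- In odd characteristic the block has an element of order four acting as the Weyl element. -/
theorem exists_wl (hE : IsBaumannBlock p (T : Subgroup G) E) [CharP F p] (hp : p ≠ 2)
    (hρ : ρ.onBlock.range = SL2.img F) :
    ∃ g : ↥E, (g : G) ^ 4 = 1 ∧ ρ.onBlock g = SL2.lin wl ∧
      ∀ v, ρ.onBlock (g * g) v = -v := by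
  have h2 : (2 : F) ≠ 0 := fun h => hp ((Nat.prime_dvd_prime_iff_eq Fact.out Nat.prime_two).mp
    ((CharP.cast_eq_zero_iff F p 2).mp (by exact_mod_cast h)))
  obtain ⟨g, hg⟩ : SL2.lin (wl : SL(2, F)) ∈ ρ.onBlock.range :=
    hρ ▸ ⟨wl, SL2.wl_mem_commutator h2, rfl⟩
  obtain ⟨a, m, hm, hN⟩ := Nat.exists_eq_two_pow_mul_odd (n := orderOf g) (orderOf_pos g).ne'
  obtain ⟨c, rfl⟩ := hm
  set k := (2 * c + 1) * (2 * c + 1) with hk
  have hw4 : (SL2.lin (wl : SL(2, F))) ^ 4 = 1 := by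
    refine Equiv.ext fun v => ?_
    show SL2.lin wl (SL2.lin wl (SL2.lin wl (SL2.lin wl v))) = v
    simp only [SL2.wl_apply]
    ext i; fin_cases i <;> simp
  have hgk : ρ.onBlock (g ^ k) = SL2.lin wl := by
    rw [map_pow, hg, show k = 4 * (c * c + c) + 1 by rw [hk]; ring, pow_add, pow_mul, hw4, one_pow,
      pow_one, one_mul]
  have hord : (g ^ k) ^ 2 ^ a = 1 := by
    rw [← pow_mul, ← orderOf_dvd_iff_pow_eq_one, hN, hk]
    exact Dvd.intro (2 * c + 1) (by ring)
  refine ⟨g ^ k, ?_, hgk, fun v => ?_⟩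
  · have h4 : ρ.onBlock ((g ^ k) ^ 4) = 1 := by rw [map_pow, hgk, hw4]
    have hmem : ((((g ^ k) ^ 4 : ↥E)) : G) ∈ pCoreOf p E := by
      rw [← inf_centralizer_eq_core hE]
      exact ⟨((g ^ k) ^ 4).2, (ρ.act_eq_one_iff hE _).mp h4⟩
    rw [← Subgroup.coe_pow]
    refine CharP.eq_one_of_mem_pgroup (CharP.isPGroup_pCoreOf p E) hmem ?_
    rw [Subgroup.orderOf_coe]
    refine Nat.Coprime.coprime_dvd_left (orderOf_dvd_of_pow_eq_one (n := 2 ^ a) ?_)
      (Nat.Coprime.pow_left _ ((Nat.coprime_primes Nat.prime_two Fact.out).mpr hp.symm))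
    rw [← pow_mul, mul_comm, pow_mul, hord, one_pow]
  · rw [map_mul, hgk, ← map_mul]
    exact SL2.neg_one_lin_apply v

end Rep

end Cfsg.Agent.PLocal.Blocks
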