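import Cfsg.Agent.Lib.PLocal.BlockBasic

/-!
A Frattini argument relative to the Baumann subgroup.
-/

set_option linter.all false
set_option autoImplicit false

namespace Cfsg.Agent.PLocal.Blocks

open Subgroup Cfsg
open Cfsg.Agent.PLocal.ThompsonSubgroup
open scoped commutatorElement Pointwise

variable {G : Type*} [Group G] [Finite G] {p : ℕ} [Fact p.Prime]

/-- A `p`-group containing the Baumann subgroup has normalizer normalizing it. -/
theorem normalizer_le_normalizer_baumann (T : Sylow p G) {P : Subgroup G} (hP : IsPGroup p P)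
    (hB : baumannSubgroupOf p (T : Subgroup G) ≤ P) :
    normalizer (P : Set G) ≤ normalizer (baumannSubgroupOf p (T : Subgroup G) : Set G) := by
  obtain ⟨S, hS⟩ := hP.exists_le_sylow
  have hJP : thompsonSubgroupOf p (T : Subgroup G) ≤ P := (BlockBasic.thompson_le_baumann _).trans hB
  have hJS := BlockBasic.thompson_eq T S (hJP.trans hS)
  have hPJ : thompsonSubgroupOf p P = thompsonSubgroupOf p (T : Subgroup G) := by
    rw [← hJS]
    exact thompsonSubgroupOf_eq_of_le_of_le (hJS.le.trans hJP) hS
  set C := centralizer (omegaOne p (centerThompsonOf p (T : Subgroup G)) : Set G) with hC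
  have hPC : normalizer (P : Set G) ≤ normalizer (C : Set G) := by
    refine le_trans ?_ (CharP.normalizer_le_normalizer_centralizer _)
    refine le_trans ?_ (BlockBasic.le_normalizer_omegaOne _)
    refine le_trans ?_ (BlockBasic.le_normalizer_centerThompsonOf _)
    rw [← hPJ]
    exact normalizer_le_normalizer_thompsonSubgroupOf P
  have hcard : Nat.card ↥(baumannSubgroupOf p (S : Subgroup G)) ≤
      Nat.card ↥(baumannSubgroupOf p (T : Subgroup G)) := by
    obtain ⟨g, rfl⟩ := MulAction.exists_smul_eq G T S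
    rw [Sylow.coe_subgroup_smul,
      show MulAut.conj g • (T : Subgroup G) = (T : Subgroup G).map (MulAut.conj g).toMonoidHom from rfl,
      ← BlockBasic.baumann_conj]
    exact (card_map_of_injective (MulAut.conj g).injective).le
  have hBS : baumannSubgroupOf p (S : Subgroup G) = (S : Subgroup G) ⊓ C := by
    simp only [baumannSubgroupOf, centerThompsonOf, hJS, hC]
  have hle : baumannSubgroupOf p (T : Subgroup G) ≤ (S : Subgroup G) ⊓ C :=
    le_inf (hB.trans hS) inf_le_right
  have he : baumannSubgroupOf p (T : Subgroup G) = (S : Subgroup G) ⊓ C := by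
    refine eq_of_le_of_card_ge hle ?_
    rw [← hBS]
    exact hcard
  have hBP : baumannSubgroupOf p (T : Subgroup G) = P ⊓ C :=
    le_antisymm (le_inf hB inf_le_right) ((inf_le_inf_right _ hS).trans he.ge)
  rw [hBP]
  exact (le_inf le_rfl hPC).trans inf_normalizer_le_normalizer_inf

/-- An element normalizing `K` and commuting with a `p`-group `B` modulo `K` has a translate by `K`
normalizing a `p`-group above `B`. -/
theorem exists_mul_normalizing {K B : Subgroup G} (hB : IsPGroup p B) (hBK : B ≤ normalizer (K : Set G))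
    {x : G} (hxK : x ∈ normalizer (K : Set G)) (hxB : ∀ b ∈ B, ⁅x, b⁆ ∈ K) :
    ∃ k ∈ K, ∃ P : Subgroup G, IsPGroup p P ∧ B ≤ P ∧ P ≤ K ⊔ B ∧ k * x ∈ normalizer (P : Set G) := by
  set H := K ⊔ B with hH
  have hBH : IsPGroup p (B.subgroupOf H) :=
    hB.of_equiv (subgroupOfEquivOfLe (le_sup_right : B ≤ H)).symm
  obtain ⟨S, hS⟩ := hBH.exists_le_sylow
  have hxH : x ∈ normalizer (H : Set G) := by
    rw [mem_normalizer_iff_map_conj_eq]
    refine eq_of_le_of_card_ge ?_ (card_map_of_injective (MulAut.conj x).injective).ge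
    rw [hH, Subgroup.map_sup]
    refine sup_le ((mem_normalizer_iff_map_conj_eq.mp hxK).le.trans le_sup_left) ?_
    rintro _ ⟨b, hb, rfl⟩
    show x * b * x⁻¹ ∈ H
    rw [show x * b * x⁻¹ = ⁅x, b⁆ * b by simp [commutatorElement_def]]
    exact mul_mem (mem_sup_left (hxB b hb)) (mem_sup_right hb)
  let P : Subgroup G := (S : Subgroup H).map H.subtype
  have hBP : B ≤ P := fun b hb => ⟨⟨b, mem_sup_right hb⟩, hS hb, rfl⟩
  have hPp : IsPGroup p P := S.2.map _
  -- the conjugate of `P` by `x` is again a Sylow subgroup of `H`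
  let P' : Subgroup G := P.map (MulAut.conj x).toMonoidHom
  have hP'H : P' ≤ H := (map_mono (map_subtype_le _)).trans (mem_normalizer_iff_map_conj_eq.mp hxH).le
  have hcard : Nat.card (P'.subgroupOf H) = Nat.card (S : Subgroup H) := by
    rw [Nat.card_congr (subgroupOfEquivOfLe hP'H).toEquiv,
      card_map_of_injective (MulAut.conj x).injective, card_map_of_injective H.subtype_injective]
  let S' : Sylow p H := Sylow.ofCard (P'.subgroupOf H) (by rw [hcard, S.card_eq_multiplicity])
  obtain ⟨h, hh⟩ := MulAction.exists_smul_eq H S' S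
  have hh' : P'.map (MulAut.conj (h : G)).toMonoidHom = P := by
    have e := congrArg (fun Q : Sylow p H => (Q : Subgroup H).map H.subtype) hh
    simp only [Sylow.coe_subgroup_smul] at e
    rw [show MulAut.conj h • (S' : Subgroup H) = (S' : Subgroup H).map (MulAut.conj h).toMonoidHom from rfl,
      map_map] at e
    rw [show P = (S : Subgroup H).map H.subtype from rfl, ← e]
    show P'.map _ = (P'.subgroupOf H).map _
    conv_lhs => rw [← map_subgroupOf_eq_of_le hP'H, map_map]
    rfl
  -- split `h` as an element of `B K`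
  have hhm : (h : G) ∈ H := h.2
  have hhm' : (h : G) ∈ ((B ⊔ K : Subgroup G) : Set G) := (le_of_eq (sup_comm K B)) (hH ▸ hhm : (h : G) ∈ K ⊔ B)
  rw [Subgroup.coe_mul_of_left_le_normalizer_right _ _ hBK] at hhm'
  obtain ⟨b, hb, k, hk, hbk⟩ := hhm'
  refine ⟨k, hk, P, hPp, hBP, (map_subtype_le _).trans le_rfl, ?_⟩
  have hb' : b ∈ normalizer (P : Set G) := Subgroup.le_normalizer (hBP hb)
  have hhx : (h : G) * x ∈ normalizer (P : Set G) := by
    rw [mem_normalizer_iff_map_conj_eq]
    have e : (MulAut.conj ((h : G) * x)).toMonoidHom =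
        (MulAut.conj (h : G)).toMonoidHom.comp (MulAut.conj x).toMonoidHom := by
      ext; simp [mul_assoc]
    rw [show (↑(MulAut.conj ((h : G) * x)) : G →* G) = (MulAut.conj ((h : G) * x)).toMonoidHom from rfl,
      e, ← map_map]
    exact hh'
  rw [show k * x = b⁻¹ * ((h : G) * x) by rw [← hbk]; simp [mul_assoc]]
  exact mul_mem (inv_mem hb') hhx

end Cfsg.Agent.PLocal.Blocks
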