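import Cfsg.Agent.Lib.PLocal.Blocks.ExcData
import Cfsg.Agent.Lib.PLocal.Blocks.Criterion
import Cfsg.Agent.Lib.PLocal.Blocks.Frattini

/-!
Centralizers of `[W,E]` normalizing the core of an exceptional block.
-/

set_option linter.all false
set_option autoImplicit false

namespace Cfsg.Agent.PLocal.Blocks

open Subgroup Cfsg
open scoped commutatorElement MatrixGroups
open Cfsg.Agent.PLocal.BlockModule (tU tL dg wl)

variable {G : Type*} [Group G] [Finite G] {p : ℕ} [Fact p.Prime] {E : Subgroup G} {T : Sylow p G}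

local notation "QE" => pCoreOf p E
local notation "WE" => omegaOneCenter p (pCoreOf p E)
local notation "ZE" => omegaOneCenter p (pCoreOf p E) ⊓ Subgroup.centralizer (E : Set G)
local notation "NE" => Subgroup.normalizer (E : Set G)
local notation "NQ" => Subgroup.normalizer ((pCoreOf p E : Subgroup G) : Set G)
local notation "WC" => ⁅omegaOneCenter p (pCoreOf p E), E⁆
local notation "BT" => baumannSubgroupOf p (T : Subgroup G)

theorem NE_le_NQ : NE ≤ NQ := CharP.normalizer_le_normalizer_pCoreOf p E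

theorem baumann_le_NQ (hE : IsBaumannBlock p (T : Subgroup G) E) : BT ≤ NQ :=
  (BlockBasic.baumann_le_normalizer hE).trans NE_le_NQ

/-- Powers of a quadratic map move vectors by multiples. -/
theorem quadratic_pow {M : Type*} [AddCommGroup M] {g : Equiv.Perm M} (hadd : ∀ v w, g (v + w) = g v + g w)
    (hq : ∀ v, g (g v) = g v + g v - v) (m : ℕ) (v : M) : (g ^ m) v = v + m • (g v - v) := by
  induction m with
  | zero => simp
  | succ m ih =>
    rw [pow_succ', Equiv.Perm.mul_apply, ih]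
    let gh : M →+ M := AddMonoidHom.mk' g hadd
    show gh (v + m • (g v - v)) = _
    rw [map_add, map_nsmul, map_sub]
    show g v + m • (g (g v) - g v) = _
    rw [hq, show g v + g v - v - g v = g v - v by abel, succ_nsmul]
    abel

theorem quadratic_pair {M : Type*} [AddCommGroup M] {g : Equiv.Perm M} (hadd : ∀ v w, g (v + w) = g v + g w)
    (hq : ∀ v, g (g v) = g v + g v - v) (m k : ℕ) (v : M) :
    (v - (g ^ m) v) - (g ^ k) (v - (g ^ m) v) = 0 := by
  rw [quadratic_pow hadd hq k]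
  let gh : M →+ M := AddMonoidHom.mk' g hadd
  have h : gh (v - (g ^ m) v) = v - (g ^ m) v := by
    rw [quadratic_pow hadd hq m, map_sub, map_add, map_nsmul, map_sub]
    show g v - (g v + m • (g (g v) - g v)) = _
    rw [hq, show g v + g v - v - g v = g v - v by abel]
    abel
  rw [show g (v - (g ^ m) v) = v - (g ^ m) v from h, sub_self, smul_zero, add_zero, sub_self]

namespace ExcData

variable {F : Type} [Field F] [Fintype F] [CharP F p] (D : ExcData p (T : Subgroup G) E F)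

/-- Elements of the normalizer of the block centralizing `[W,E]` act as scalars. -/
theorem scalar_of_normalizes (hE : IsBaumannBlock p (T : Subgroup G) E) {x : G} (hx : x ∈ NE)
    (hc : x ∈ centralizer ((WC : Subgroup G) : Set G)) :
    ∃ c : F, c ≠ 0 ∧ ∀ v, D.actV ⟨x, NE_le_NQ hx⟩ v = c • v := by
  have h2 : (2 : F) ≠ 0 := fun h => by
    have := (Nat.prime_dvd_prime_iff_eq Fact.out Nat.prime_two).mp
      ((CharP.cast_eq_zero_iff F p 2).mp (by exact_mod_cast h))
    rw [D.hp3] at this; omega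
  refine SL2.scalar_of_commute h2 (D.isAdd_actV _) fun s hs v => ?_
  obtain ⟨e, rfl⟩ := D.repV_range.ge hs
  have hq := commutator_mem_core hE hx hc e.2
  have h1 : D.actV ⁅(⟨e, NE_le_NQ (Subgroup.le_normalizer e.2)⟩ : ↥NQ), ⟨x, NE_le_NQ hx⟩⁆ = 1 := by
    have he : (⁅(⟨e, NE_le_NQ (Subgroup.le_normalizer e.2)⟩ : ↥NQ), ⟨x, NE_le_NQ hx⟩⁆ : ↥NQ) =
        ⟨_, CharP.le_normalizer_pCoreOf p E (CharP.pCoreOf_le p E hq)⟩ := Subtype.ext rfl
    rw [he]
    have := D.actV_block ⟨_, CharP.pCoreOf_le p E hq⟩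
    rw [D.core_trivial hq, map_one] at this
    exact this
  rw [map_commutatorElement, commutatorElement_eq_one_iff_mul_comm, D.actV_block] at h1
  exact (Equiv.congr_fun h1 v).symm

/-- The Baumann subgroup acts linearly on the top section. -/
theorem linear_of_baumann (hE : IsBaumannBlock p (T : Subgroup G) E) {b : G} (hb : b ∈ BT) (c : F)
    (v : Fin 2 → F) :
    D.actV ⟨b, baumann_le_NQ hE hb⟩ (c • v) = c • D.actV ⟨b, baumann_le_NQ hE hb⟩ v := by
  rcases SL2.linear_dichotomy (F := F) with h4 | hlin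
  swap
  · exact hlin _ (D.isAdd_actV _) c v
  obtain ⟨ρ, hρ, -, hU⟩ := exists_adapted hE D.modW D.modW_range
  obtain ⟨s, hs⟩ := hU b hb
  obtain ⟨e, he⟩ : SL2.lin (tU s) ∈ ρ.onBlock.range := hρ ▸ SL2.lin_tU_mem h4 s
  have hbN := BlockBasic.baumann_le_normalizer hE hb
  have heN : (e : G) ∈ NE := Subgroup.le_normalizer e.2
  have hx : (e : G)⁻¹ * b ∈ centralizer ((WC : Subgroup G) : Set G) := by
    refine (ρ.act_eq_one_iff hE ⟨_, mul_mem (inv_mem heN) hbN⟩).mp ?_
    rw [show (⟨(e : G)⁻¹ * b, mul_mem (inv_mem heN) hbN⟩ : ↥NE) = ⟨e, heN⟩⁻¹ * ⟨b, hbN⟩ from rfl,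
      map_mul, map_inv, hs, show ρ.act ⟨e, heN⟩ = SL2.lin (tU s) from he, inv_mul_cancel]
  obtain ⟨d, -, hd⟩ := D.scalar_of_normalizes hE (mul_mem (inv_mem heN) hbN) hx
  have hb' : ∀ w, D.actV ⟨b, baumann_le_NQ hE hb⟩ w = SL2.lin (D.repV e) (d • w) := fun w => by
    rw [show (⟨b, baumann_le_NQ hE hb⟩ : ↥NQ) = ⟨e, CharP.le_normalizer_pCoreOf p E e.2⟩ *
      ⟨(e : G)⁻¹ * b, NE_le_NQ (mul_mem (inv_mem heN) hbN)⟩ from Subtype.ext (by simp),
      map_mul, Equiv.Perm.mul_apply, hd, D.actV_block]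
  rw [hb', hb', SL2.lin_apply, SL2.lin_apply, smul_comm d c, Matrix.mulVec_smul]

/-- The kernel on both sections. -/
noncomputable def kerBoth : Subgroup G :=
  D.actV.ker.map (Subgroup.subtype _) ⊓ centralizer ((WC : Subgroup G) : Set G)

theorem kerBoth_le_centralizer (hE : IsBaumannBlock p (T : Subgroup G) E) :
    D.kerBoth ≤ centralizer (WE : Set G) := by
  rintro _ ⟨⟨y, hy, rfl⟩, hyW⟩
  have hle : WE ≤ centralizer ({(y : G)} : Set G) := by
    rw [← BlockModule.sup_ZE hE]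
    exact sup_le (fun w hw => mem_centralizer_singleton_iff.mpr (mem_centralizer_iff.mp hyW w hw))
      fun z hz => mem_centralizer_singleton_iff.mpr
        (mem_centralizer_iff.mp (D.mem_centralizer_ZE_of_trivial hy) z hz)
  exact fun w hw => mem_centralizer_singleton_iff.mp (hle hw)

theorem le_normalizer_kerBoth {X : Subgroup G} (hXQ : X ≤ NQ)
    (hXC : X ≤ normalizer (centralizer ((WC : Subgroup G) : Set G) : Set G)) :
    X ≤ normalizer (D.kerBoth : Set G) := by
  refine le_trans (le_inf (fun x hx => ?_) hXC) inf_normalizer_le_normalizer_inf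
  refine le_normalizer_map (Subgroup.subtype _) ⟨⟨x, hXQ hx⟩, ?_, rfl⟩
  exact (normalizer_eq_top_iff.mpr (inferInstance : D.actV.ker.Normal)).ge (mem_top _)

/-- No element centralizing `[W,E]` induces a nontrivial scalar on the top section. -/
theorem scalar_eq_one (hG : centralizer (pCore p G : Set G) ≤ pCore p G)
    (hE : IsBaumannBlock p (T : Subgroup G) E) {x : G} (hxQ : x ∈ NQ)
    (hxW : x ∈ centralizer ((WC : Subgroup G) : Set G)) {c : F}
    (hc : ∀ v, D.actV ⟨x, hxQ⟩ v = c • v) : c = 1 := by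
  by_contra hc1
  have hBn : BT ≤ normalizer (centralizer ((WC : Subgroup G) : Set G) : Set G) :=
    (BlockBasic.baumann_le_normalizer hE).trans le_normalizer_centralizer_WC
  have hcomm : ∀ (y : G) (hyQ : y ∈ NQ), y ∈ centralizer ((WC : Subgroup G) : Set G) → ∀ d : F,
      (∀ v, D.actV ⟨y, hyQ⟩ v = d • v) → ∀ b ∈ BT, ⁅y, b⁆ ∈ D.kerBoth := by
    intro y hyQ hyW d hy b hb
    refine ⟨⟨⁅(⟨y, hyQ⟩ : ↥NQ), ⟨b, baumann_le_NQ hE hb⟩⁆, ?_, rfl⟩, ?_⟩
    · show D.actV _ = 1
      rw [map_commutatorElement, commutatorElement_eq_one_iff_mul_comm]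
      refine Equiv.ext fun v => ?_
      rw [Equiv.Perm.mul_apply, Equiv.Perm.mul_apply, hy, hy, D.linear_of_baumann hE hb]
    · rw [SetLike.mem_coe, show ⁅y, b⁆ = y * (b * y⁻¹ * b⁻¹) by simp [commutatorElement_def, mul_assoc]]
      exact mul_mem hyW ((mem_normalizer_iff.mp (hBn hb) _).mp (inv_mem hyW))
  have hxK : x ∈ normalizer (D.kerBoth : Set G) := by
    have h := D.le_normalizer_kerBoth (X := zpowers x) (zpowers_le.mpr hxQ)
      (zpowers_le.mpr (Subgroup.le_normalizer hxW))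
    exact h (mem_zpowers x)
  obtain ⟨k, hk, P, hP, hBP, -, hkx⟩ := exists_mul_normalizing (T.2.to_le (BlockBasic.baumann_le _))
    (D.le_normalizer_kerBoth (baumann_le_NQ hE) hBn) hxK (hcomm x hxQ hxW c hc)
  obtain ⟨⟨k', hk', rfl⟩, hkW⟩ := hk
  obtain ⟨a, ha⟩ := Cfsg.Agent.Transfer.NormalPComplement.exists_pow_coprime (p := p)
    (g := (k' : G) * x) (orderOf_pos _).ne'
  set y := ((k' : G) * x) ^ p ^ a with hy
  have hyQ : y ∈ NQ := pow_mem (mul_mem k'.2 hxQ) _
  have hyW : y ∈ centralizer ((WC : Subgroup G) : Set G) := pow_mem (mul_mem hkW hxW) _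
  set d := c ^ p ^ a with hd
  have hyd : ∀ v, D.actV ⟨y, hyQ⟩ v = d • v := by
    have h0 : ∀ v, D.actV (k' * ⟨x, hxQ⟩) v = c • v := fun v => by
      rw [map_mul, Equiv.Perm.mul_apply, hc, show D.actV k' = 1 from hk', Equiv.Perm.one_apply]
    have h1 : ∀ (m : ℕ) v, (D.actV (k' * ⟨x, hxQ⟩) ^ m) v = c ^ m • v := by
      intro m
      induction m with
      | zero => intro v; simp
      | succ m ih => intro v; rw [pow_succ', Equiv.Perm.mul_apply, ih, h0, smul_smul, pow_succ']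
    intro v
    rw [show (⟨y, hyQ⟩ : ↥NQ) = (k' * ⟨x, hxQ⟩) ^ p ^ a from Subtype.ext (by simp [hy]), map_pow, h1]
  have hd1 : d - 1 ≠ 0 := by
    intro h
    have h0 : (c - 1) ^ p ^ a = 0 := by rw [sub_pow_char_pow, one_pow, ← hd, h]
    exact hc1 (sub_eq_zero.mp (pow_eq_zero_iff (pow_ne_zero _ (Fact.out : p.Prime).ne_zero) |>.mp h0))
  have hyB : y ∈ normalizer (BT : Set G) :=
    normalizer_le_normalizer_baumann T hP hBP (pow_mem hkx _)
  -- some fixed point of `y` in the Baumann subgroup is nontrivial on the module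
  obtain ⟨b, ⟨hb, hby⟩, hbW⟩ : ∃ b, (b ∈ BT ∧ b ∈ centralizer (zpowers y : Set G)) ∧
      b ∉ centralizer (WE : Set G) := by
    by_contra hno
    push Not at hno
    refine (BlockLocation.main hG hE).2.2 ?_
    have hBp : IsPGroup p ↥(BT : Subgroup G) := T.2.to_le (BlockBasic.baumann_le _)
    have hBW : BT ≤ centralizer (WE : Set G) := by
      rw [← Cfsg.Agent.Coprime.commutator_sup_inf_centralizer (A := zpowers y) (K := BT)
        (zpowers_le.mpr hyB) (CharP.coprime_zpowers_of_isPGroup hBp ha) (.inl (solvable_zpowers y))]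
      refine sup_le (le_trans (commutator_le.mpr ?_) (D.kerBoth_le_centralizer hE))
        fun b hb => hno b hb
      intro b hb z hz
      obtain ⟨m, rfl⟩ := mem_powers_iff_mem_zpowers.mpr hz
      rw [← commutatorElement_inv]
      refine inv_mem (hcomm _ (pow_mem hyQ m) (pow_mem hyW m) (d ^ m) (fun v => ?_) b hb)
      have h1 : ∀ (m : ℕ) w, (D.actV ⟨y, hyQ⟩ ^ m) w = d ^ m • w := by
        intro m
        induction m with
        | zero => intro w; simp
        | succ m ih => intro w; rw [pow_succ', Equiv.Perm.mul_apply, ih, hyd, smul_smul, pow_succ']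
      rw [← h1, ← map_pow]
      rfl
    rw [commutator_eq_bot_iff_le_centralizer]
    refine commutator_WE_le.trans (le_trans ?_ (centralizer_le (BlockBasic.thompson_le_baumann _)))
    exact le_centralizer_iff.mp hBW
  -- it acts quadratically on the core modulo the centre
  refine D.exc.2.2.2.2.2.2 b hb hbW ?_
  rw [D.exc.2.2.2.2.1]
  have hZq : ∀ u ∈ QE, ∀ v ∈ QE, u * v * u⁻¹ * v⁻¹ ∈ (ZE : Subgroup G) := fun u hu v hv =>
    D.commutator_eq ▸ commutator_mem_commutator hu hv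
  have hnZ : NQ ≤ normalizer ((ZE : Subgroup G) : Set G) := by
    rw [← D.commutator_eq]
    intro g hg
    rw [mem_normalizer_iff_map_conj_eq, Subgroup.map_commutator, mem_normalizer_iff_map_conj_eq.mp hg]
  obtain ⟨M, iM, ⟨σ⟩⟩ := exists_sect QE (ZE : Subgroup G) (Subgroup.le_normalizer.trans hnZ) hZq
  have hZQ : ∀ z ∈ (ZE : Subgroup G), z ∈ QE := fun z hz => BlockModule.omegaCenter_le _ hz.1
  have hbQ : zpowers b ≤ NQ := zpowers_le.mpr (baumann_le_NQ hE hb)
  have hbB : zpowers b ≤ BT := zpowers_le.mpr hb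
  let mk : ∀ g, g ∈ NQ → ↥(normalizer (QE : Set G) ⊓ normalizer ((ZE : Subgroup G) : Set G)) :=
    fun g hg => ⟨g, hg, hnZ hg⟩
  have key : ∀ u ∈ QE, ∀ z ∈ zpowers b, ∀ z' ∈ zpowers b, ⁅⁅u, z⁆, z'⁆ ∈ (ZE : Subgroup G) := by
    intro u hu z hz z' hz'
    obtain ⟨i, rfl⟩ := mem_powers_iff_mem_zpowers.mpr hz
    obtain ⟨j, rfl⟩ := mem_powers_iff_mem_zpowers.mpr hz'
    have hc1 : ∀ w ∈ QE, ∀ g ∈ NQ, ⁅w, g⁆ ∈ QE := fun w hw g hg => by
      rw [commutatorElement_def, mul_assoc (w * g), mul_assoc w, ← mul_assoc g]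
      exact mul_mem hw ((mem_normalizer_iff.mp hg _).mp (inv_mem hw))
    set τ := σ.act (mk _ (hbQ hz)) with hτ
    set τ' := σ.act (mk _ (hbQ hz')) with hτ'
    set τy := σ.act (mk y hyQ) with hτy
    let Φ : M → M := fun v => (v - τ v) - τ' (v - τ v)
    have hΦ : ∀ w (hw : w ∈ QE), σ.coord ⟨⁅⁅w, b ^ i⁆, b ^ j⁆, hc1 _ (hc1 w hw _ (hbQ hz)) _ (hbQ hz')⟩ =
        Φ (σ.coord ⟨w, hw⟩) := fun w hw => by
      rw [σ.coord_commutator (mk _ (hbQ hz')) (hc1 w hw _ (hbQ hz)),
        σ.coord_commutator (mk _ (hbQ hz)) hw]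
    have hΦadd : ∀ v v', Φ (v + v') = Φ v + Φ v' := fun v v' => by
      simp only [Φ, hτ, hτ', σ.act_add, σ.act_sub]
      abel
    -- values lie in the module, which `y` fixes
    have hfixW : ∀ w, ∀ hw : w ∈ WE, τy (σ.coord ⟨w, BlockModule.omegaCenter_le _ hw⟩) =
        σ.coord ⟨w, BlockModule.omegaCenter_le _ hw⟩ := by
      intro w hw
      rw [hτy, Sect.act_coord, Sect.coord_eq_iff]
      show y * w * y⁻¹ * w⁻¹ ∈ (ZE : Subgroup G)
      have hw' := hw
      rw [← BlockModule.sup_ZE hE, ← SetLike.mem_coe, Subgroup.coe_mul_of_left_le_normalizer_right] at hw'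
      rotate_left
      · intro a ha
        refine centralizer_le_normalizer _ fun z hz => ?_
        exact BlockLocation.omegaCenter_comm _ hz.1 (commutator_WE_le ha)
      obtain ⟨w0, hw0, z0, hz0, rfl⟩ := hw'
      show y * (w0 * z0) * y⁻¹ * (w0 * z0)⁻¹ ∈ (ZE : Subgroup G)
      rw [show y * (w0 * z0) * y⁻¹ * (w0 * z0)⁻¹ = (y * w0 * y⁻¹) * ((y * z0 * y⁻¹) * z0⁻¹) * w0⁻¹ by simp [mul_assoc],
        show y * w0 * y⁻¹ = w0 by rw [← mem_centralizer_iff.mp hyW w0 hw0, mul_inv_cancel_right]]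
      have hm : y * z0 * y⁻¹ * z0⁻¹ ∈ (ZE : Subgroup G) :=
        mul_mem ((mem_normalizer_iff.mp (hnZ hyQ) _).mp hz0) (inv_mem hz0)
      rw [BlockLocation.omegaCenter_comm _ (commutator_WE_le hw0) hm.1, mul_inv_cancel_right]
      exact hm
    have hq : ∀ v, D.actV ⟨b, baumann_le_NQ hE hb⟩ (D.actV ⟨b, baumann_le_NQ hE hb⟩ v) =
        D.actV ⟨b, baumann_le_NQ hE hb⟩ v + D.actV ⟨b, baumann_le_NQ hE hb⟩ v - v := by
      refine SL2.unipotent_quadratic (p := p) (D.isAdd_actV _) (D.linear_of_baumann hE hb) ?_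
      obtain ⟨m, hm⟩ := (T.2.to_le (BlockBasic.baumann_le _) : IsPGroup p ↥(BT : Subgroup G)) ⟨b, hb⟩
      refine ⟨m, ?_⟩
      rw [← map_pow, show (⟨b, baumann_le_NQ hE hb⟩ : ↥NQ) ^ p ^ m = 1 from
        Subtype.ext (by simpa using congrArg Subtype.val hm), map_one]
    have hvalW : ∀ w ∈ QE, ⁅⁅w, b ^ i⁆, b ^ j⁆ ∈ WE := by
      intro w hw
      refine (D.modV.coord_eq_zero (u := ⟨_, hc1 _ (hc1 w hw _ (hbQ hz)) _ (hbQ hz')⟩)).mp ?_
      have e1 : ∀ (g : G) (hg : g ∈ NQ) (a : G) (ha : a ∈ QE),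
          D.modV.coord ⟨⁅a, g⁆, hc1 a ha g hg⟩ = D.modV.coord ⟨a, ha⟩ - D.actV ⟨g, hg⟩ (D.modV.coord ⟨a, ha⟩) :=
        fun g hg a ha => D.modV.coord_commutator ⟨g, normalizer_core_le hg⟩ ha _
      rw [e1 _ (hbQ hz') _ (hc1 w hw _ (hbQ hz)), e1 _ (hbQ hz) w hw,
        show (⟨b ^ i, hbQ hz⟩ : ↥NQ) = ⟨b, baumann_le_NQ hE hb⟩ ^ i from Subtype.ext (by simp),
        show (⟨b ^ j, hbQ hz'⟩ : ↥NQ) = ⟨b, baumann_le_NQ hE hb⟩ ^ j from Subtype.ext (by simp),
        map_pow, map_pow]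
      exact quadratic_pair (D.isAdd_actV _) hq i j _
    -- the module itself is moved quadratically
    have hW0 : ∀ w, ∀ hw : w ∈ WE, Φ (σ.coord ⟨w, BlockModule.omegaCenter_le _ hw⟩) = 0 := by
      intro w hw
      rw [← hΦ w (BlockModule.omegaCenter_le _ hw), σ.coord_eq_zero]
      obtain ⟨ρ, hρ, -, hU⟩ := exists_adapted hE D.modW D.modW_range
      have hin : ∀ (g : G), g ∈ NE → ∀ a ∈ WE, ⁅a, g⁆ ∈ WE := fun g hg a ha => by
        rw [commutatorElement_def, mul_assoc (a * g), mul_assoc a, ← mul_assoc g]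
        exact mul_mem ha (conj_mem_WE hg (inv_mem ha))
      have e1 : ∀ (g : G) (hg : g ∈ NE) (a : G) (ha : a ∈ WE),
          ρ.coord ⟨⁅a, g⁆, hin g hg a ha⟩ = ρ.coord ⟨a, ha⟩ - ρ.act ⟨g, hg⟩ (ρ.coord ⟨a, ha⟩) := by
        intro g hg a ha
        rw [eq_sub_iff_add_eq, ρ.act_coord, ← ρ.coord_mul]
        congr 1
        exact Subtype.ext (by simp [commutatorElement_def, mul_assoc])
      have hi := BlockBasic.baumann_le_normalizer hE (hbB hz)
      have hj := BlockBasic.baumann_le_normalizer hE (hbB hz')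
      refine (ρ.coord_eq_zero (u := ⟨_, hin _ hj _ (hin _ hi w hw)⟩)).mp ?_
      obtain ⟨s, hs⟩ := hU _ (hbB hz)
      obtain ⟨t, ht⟩ := hU _ (hbB hz')
      rw [e1 _ hj _ (hin _ hi w hw), e1 _ hi w hw, hs, ht]
      simp only [SL2.tU_apply]
      ext k
      fin_cases k <;> simp [Matrix.vecHead, Matrix.vecTail]
    have hfinal : Φ (σ.coord ⟨u, hu⟩) = 0 := by
      obtain ⟨u1, hu1⟩ := D.modV.coord_surjective ((d - 1)⁻¹ • D.modV.coord ⟨u, hu⟩)
      -- `τy` commutes with `Φ` and fixes its values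
      have heq1 : Φ (τy (σ.coord u1)) = Φ (σ.coord u1) := by
        rw [hτy, Sect.act_coord, ← hΦ _ ((mem_normalizer_iff.mp hyQ _).mp u1.2)]
        show σ.coord ⟨⁅⁅y * (u1 : G) * y⁻¹, b ^ i⁆, b ^ j⁆, _⟩ = _
        have hcb : ∀ g ∈ zpowers b, y * g * y⁻¹ = g := fun g hg => by
          have : g ∈ centralizer (zpowers y : Set G) := zpowers_le.mpr hby hg
          rw [mem_centralizer_iff.mp this y (mem_zpowers y), mul_inv_cancel_right]
        have e : ⁅⁅y * (u1 : G) * y⁻¹, b ^ i⁆, b ^ j⁆ = y * ⁅⁅(u1 : G), b ^ i⁆, b ^ j⁆ * y⁻¹ := by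
          conv_lhs => rw [show b ^ i = y * b ^ i * y⁻¹ from (hcb _ hz).symm, show b ^ j = y * b ^ j * y⁻¹ from (hcb _ hz').symm]
          simp [commutatorElement_def, mul_assoc]
        rw [← hΦ _ u1.2]
        refine Eq.trans ?_ (hfixW _ (hvalW _ u1.2))
        rw [hτy, Sect.act_coord]
        congr 1
        exact Subtype.ext e
      have hdiff : ∃ w, ∃ hw : w ∈ WE,
          τy (σ.coord u1) = σ.coord u1 + (σ.coord ⟨u, hu⟩ + σ.coord ⟨w, BlockModule.omegaCenter_le _ hw⟩) := by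
        refine ⟨(u : G)⁻¹ * (u1 : G)⁻¹ * (y * u1 * y⁻¹), ?_, ?_⟩
        · refine (D.modV.coord_eq_zero (u := ⟨_, mul_mem (mul_mem (inv_mem hu) (inv_mem u1.2))
            ((mem_normalizer_iff.mp hyQ _).mp u1.2)⟩)).mp ?_
          rw [show (⟨(u : G)⁻¹ * (u1 : G)⁻¹ * (y * u1 * y⁻¹), _⟩ : ↥QE) =
            ⟨u, hu⟩⁻¹ * u1⁻¹ * ⟨y * u1 * y⁻¹, (mem_normalizer_iff.mp hyQ _).mp u1.2⟩ from rfl,
            Sect.coord_mul, Sect.coord_mul, Sect.coord_inv, Sect.coord_inv, ← D.actV_coord ⟨y, hyQ⟩, hyd, hu1]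
          rw [smul_smul]
          ext k
          simp
          field_simp
          ring
        · rw [hτy, Sect.act_coord, ← Sect.coord_mul, ← Sect.coord_mul]
          congr 1
          exact Subtype.ext (by simp [mul_assoc, mk])
      obtain ⟨w, hw, hd'⟩ := hdiff
      rw [hd', hΦadd, hΦadd, hW0 w hw, add_zero] at heq1
      exact add_eq_left.mp heq1
    rw [← hΦ u hu, σ.coord_eq_zero] at hfinal
    exact hfinal
  let Q1 : Subgroup G :=
    { carrier := {v | v ∈ QE ∧ ∀ z ∈ zpowers b, ⁅v, z⁆ ∈ (ZE : Subgroup G)}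
      one_mem' := ⟨one_mem _, fun z _ => by simp⟩
      mul_mem' := by
        rintro u v ⟨hu, hu'⟩ ⟨hv, hv'⟩
        refine ⟨mul_mem hu hv, fun z hz => ?_⟩
        rw [commutatorElement_mul_left_eq_conj_mul]
        refine mul_mem ?_ (hu' z hz)
        have := hv' z hz
        exact (mem_normalizer_iff.mp (hnZ (Subgroup.le_normalizer hu)) _).mp this
      inv_mem' := by
        rintro u ⟨hu, hu'⟩
        refine ⟨inv_mem hu, fun z hz => ?_⟩
        have := (mem_normalizer_iff''.mp (hnZ (Subgroup.le_normalizer hu)) _).mp (inv_mem (hu' z hz))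
        convert this using 1
        simp [commutatorElement_def, mul_assoc] }
  have hQ1 : ⁅QE, zpowers b⁆ ≤ Q1 := commutator_le.mpr fun u hu z hz =>
    ⟨le_normalizer_iff_commutator_le_left.mp hbQ (commutator_mem_commutator hu hz),
      fun z' hz' => key u hu z hz z' hz'⟩
  exact commutator_le.mpr fun v hv z hz => (hQ1 hv).2 z hz

/-- A group centralizing `[W,E]` and normalizing the core normalizes the block. -/
theorem le_normalizer (D : ExcData p (T : Subgroup G) E F) (hG : centralizer (pCore p G : Set G) ≤ pCore p G)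
    (hE : IsBaumannBlock p (T : Subgroup G) E) (hQR : QE ≤ pCore p G) :
    NQ ⊓ centralizer ((WC : Subgroup G) : Set G) ≤ NE := by
  haveI hCp : CharP F p := charP_of_card D.card_field
  set K := NQ ⊓ centralizer ((WC : Subgroup G) : Set G) with hK
  set M := conjClosure E K with hM
  have hn : ∀ X : Subgroup G, X ≤ normalizer (pCore p G : Set G) := fun X x _ => by
    rw [normalizer_eq_top]; exact mem_top x
  have hEK : E ≤ normalizer (K : Set G) :=
    (le_inf ((CharP.le_normalizer_pCoreOf p E).trans Subgroup.le_normalizer)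
      (Subgroup.le_normalizer.trans le_normalizer_centralizer_WC)).trans inf_normalizer_le_normalizer_inf
  have hBK : BT ≤ normalizer (K : Set G) :=
    (le_inf ((baumann_le_NQ hE).trans Subgroup.le_normalizer)
      ((BlockBasic.baumann_le_normalizer hE).trans le_normalizer_centralizer_WC)).trans
      inf_normalizer_le_normalizer_inf
  have hRE : ⁅pCore p G, E⁆ ≤ QE := (core_facts hG hE).2.1.trans inf_le_left
  refine le_normalizer_of_stab hE (CharP.isPGroup_pCore p G) hG hEK hBK (hn _) (hn E) inf_le_left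
    (CharP.le_normalizer_pCoreOf p E) hRE ?_
  have hMQ : M ≤ NQ := conjClosure_le (CharP.le_normalizer_pCoreOf p E)
    ((inf_le_left : K ≤ NQ).trans Subgroup.le_normalizer)
  have hMZ : M ≤ centralizer ((ZE : Subgroup G) : Set G) := by
    refine conjClosure_le (le_centralizer_iff.mp inf_le_right) ?_
    refine ((inf_le_left : K ≤ NQ).trans ?_).trans (CharP.normalizer_le_normalizer_centralizer _)
    rw [← D.commutator_eq]
    intro g hg
    rw [mem_normalizer_iff_map_conj_eq, Subgroup.map_commutator, mem_normalizer_iff_map_conj_eq.mp hg]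
  let Y : Subgroup SL(2, F) :=
    { carrier := {s | ∃ d, ∃ hd : d ∈ M ⊓ K, D.actV ⟨d, hMQ hd.1⟩ = SL2.lin s}
      one_mem' := ⟨1, one_mem _, by rw [map_one]; exact map_one _⟩
      mul_mem' := by
        rintro s t ⟨d, hd, e1⟩ ⟨d', hd', e2⟩
        exact ⟨d * d', mul_mem hd hd', by rw [map_mul, ← e1, ← e2, ← map_mul]; rfl⟩
      inv_mem' := by
        rintro s ⟨d, hd, e1⟩
        exact ⟨d⁻¹, inv_mem hd, by rw [map_inv, ← e1, ← map_inv]; rfl⟩ }
  have hYn : commutator SL(2, F) ≤ normalizer (Y : Set SL(2, F)) := by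
    intro s hs
    obtain ⟨e, rfl⟩ := D.repV_range.ge hs
    rw [mem_normalizer_iff_map_conj_eq]
    refine eq_of_le_of_card_ge ?_ (card_map_of_injective (MulAut.conj (D.repV e)).injective).ge
    rintro _ ⟨t, ⟨d, hd, e1⟩, rfl⟩
    have hed : (e : G) * d * (e : G)⁻¹ ∈ M ⊓ K :=
      (mem_normalizer_iff.mp (((le_inf ((le_conjClosure E K).trans Subgroup.le_normalizer) hEK).trans
        inf_normalizer_le_normalizer_inf) e.2) _).mp hd
    refine ⟨_, hed, ?_⟩
    show D.actV (⟨e, CharP.le_normalizer_pCoreOf p E e.2⟩ * ⟨d, hMQ hd.1⟩ *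
      ⟨e, CharP.le_normalizer_pCoreOf p E e.2⟩⁻¹) = SL2.lin (D.repV e * t * (D.repV e)⁻¹)
    rw [map_mul, map_mul, map_inv, D.actV_block, e1, map_mul, map_mul, map_inv]
  have hYneg : (-1 : SL(2, F)) ∉ Y := by
    rintro ⟨d, hd, e1⟩
    have h1 := D.scalar_eq_one hG hE (hMQ hd.1) hd.2.2 (c := -1) fun v => by
      rw [e1, SL2.neg_one_apply, neg_smul, one_smul]
    have h3 : (3 : F) = 0 := by exact_mod_cast @CharP.cast_eq_zero F _ 3 D.charP
    exact one_ne_zero (α := F) (by linear_combination h1 + h3)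
  have hY := @SL2.eq_bot_of_normalized F _ _ D.charP Y hYn hYneg
  intro x hx hcop
  obtain ⟨s, hs⟩ := D.exists_lin_of_centralizes (x := ⟨x, hMQ hx.1⟩) (hMZ hx.1)
  have hs1 : s ∈ Y := ⟨x, hx, hs⟩
  rw [hY, mem_bot] at hs1
  rw [hs1, map_one] at hs
  exact D.mem_centralizer_core hE (hMQ hx.1) hx.2.2 hs hcop

/-- Such elements are trivial on the top section. -/
theorem actV_eq_one (D : ExcData p (T : Subgroup G) E F) (hG : centralizer (pCore p G : Set G) ≤ pCore p G)
    (hE : IsBaumannBlock p (T : Subgroup G) E) {x : G} (hxQ : x ∈ NQ)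
    (hxW : x ∈ centralizer ((WC : Subgroup G) : Set G)) (hxN : x ∈ NE) :
    D.actV ⟨x, hxQ⟩ = 1 := by
  haveI := charP_of_card (p := p) D.card_field
  obtain ⟨c, -, hc⟩ := D.scalar_of_normalizes hE hxN hxW
  have h1 := D.scalar_eq_one hG hE hxQ hxW hc
  refine Equiv.ext fun v => ?_
  rw [hc, h1, one_smul, Equiv.Perm.one_apply]

end ExcData

end Cfsg.Agent.PLocal.Blocks
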