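import Cfsg.Agent.Lib.PLocal.Blocks.Bound
import Cfsg.Agent.Lib.QuadraticPair.WordsField

/-!
Subgroups of `SL₂` normalized by the derived group, and unipotent linear maps of the plane.
-/

set_option linter.all false
set_option autoImplicit false

namespace Cfsg.Agent.PLocal.Blocks.SL2

open Subgroup
open scoped MatrixGroups commutatorElement
open Cfsg.Agent.PLocal.BlockModule (tU tL dg wl)

variable {F : Type*} [Field F]

theorem neg_one_apply (v : Fin 2 → F) : lin (-1 : SL(2, F)) v = -v := by
  rw [lin_apply, Matrix.SpecialLinearGroup.coe_neg, Matrix.neg_mulVec,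
    Matrix.SpecialLinearGroup.coe_one, Matrix.one_mulVec]

theorem eq_neg_one {a : SL(2, F)} {t : F} (ht : t = a.1 0 0 + a.1 1 1) (h : t = 0) : a * a = -1 := by
  have hd : a.1 0 0 * a.1 1 1 - a.1 0 1 * a.1 1 0 = 1 := by rw [← Matrix.det_fin_two]; exact a.2
  subst ht
  refine Subtype.ext ?_
  rw [Matrix.SpecialLinearGroup.coe_mul, Matrix.SpecialLinearGroup.coe_neg, Matrix.SpecialLinearGroup.coe_one]
  ext i j
  fin_cases i <;> fin_cases j <;> simp [Matrix.mul_apply, Fin.sum_univ_two]
  · linear_combination (a.1 0 0) * h - hd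
  · linear_combination (a.1 0 1) * h
  · linear_combination (a.1 1 0) * h
  · linear_combination (a.1 1 1) * h - hd

/-- The involution of `SL₂`. -/
theorem involution_apply (h2 : (2 : F) ≠ 0) {s : SL(2, F)} (hs : s * s = 1) (hs1 : s ≠ 1) (v : Fin 2 → F) :
    lin s v = -v := by
  have hd : s.1 0 0 * s.1 1 1 - s.1 0 1 * s.1 1 0 = 1 := by rw [← Matrix.det_fin_two]; exact s.2
  have h : ∀ i j, (s * s).1 i j = (1 : SL(2, F)).1 i j := fun i j => by rw [hs]
  have a1 := h 0 0
  have a2 := h 0 1
  have a3 := h 1 0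
  have a4 := h 1 1
  simp [Matrix.mul_apply, Fin.sum_univ_two] at a1 a2 a3 a4
  set t := s.1 0 0 + s.1 1 1 with ht
  have t1 : t * s.1 0 0 = 2 := by rw [ht]; linear_combination a1 + hd
  have t4 : t * s.1 1 1 = 2 := by rw [ht]; linear_combination a4 + hd
  have ht0 : t ≠ 0 := fun h0 => h2 (by rw [h0, zero_mul] at t1; exact t1.symm)
  have hb : s.1 0 1 = 0 := (mul_eq_zero.mp (show t * s.1 0 1 = 0 by rw [ht]; linear_combination a2)).resolve_left ht0
  have hc : s.1 1 0 = 0 := (mul_eq_zero.mp (show t * s.1 1 0 = 0 by rw [ht]; linear_combination a3)).resolve_left ht0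
  have had : s.1 0 0 = s.1 1 1 := mul_left_cancel₀ ht0 (t1.trans t4.symm)
  rw [hb, hc] at hd
  simp only [mul_zero, sub_zero] at hd
  rw [← had] at hd
  rcases mul_self_eq_one_iff.mp hd with h1 | h1
  · refine absurd (Subtype.ext ?_) hs1
    ext i j
    fin_cases i <;> fin_cases j <;> simp [hb, hc, ← had, h1]
  · rw [lin_apply]
    ext i
    fin_cases i <;> simp [Matrix.mulVec, dotProduct, Fin.sum_univ_two, hb, hc, ← had, h1]

/-- Subgroups normalized by the derived group and avoiding `-1` are trivial. -/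
theorem eq_bot_of_normalized [Fintype F] [CharP F 3] (Y : Subgroup SL(2, F))
    (hn : commutator SL(2, F) ≤ normalizer (Y : Set SL(2, F))) (hneg : (-1 : SL(2, F)) ∉ Y) : Y = ⊥ := by
  have h3 : (3 : F) = 0 := by exact_mod_cast CharP.cast_eq_zero F 3
  have h2 : (2 : F) ≠ 0 := fun h => by
    have : (1 : F) = 0 := by linear_combination h3 - h
    exact one_ne_zero this
  by_cases h4 : 4 ≤ Fintype.card F
  · haveI : Y.Normal := by
      rw [← normalizer_eq_top_iff]
      exact top_le_iff.mp ((commutator_eq_top (exists_sq_ne_one h4)).ge.trans hn)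
    rw [eq_bot_iff]
    intro y hy
    by_contra hy1
    refine hneg ?_
    rw [QuadraticPair.Generic.normal_eq_top (by rwa [Nat.card_eq_fintype_card]) h2 Y ⟨y, hy, ?_⟩]
    · exact mem_top _
    · intro h
      rw [← map_one (Forms.KleinPSL.pi F), Forms.KleinPSL.pi_eq_iff] at h
      rcases h with h | h
      · exact hy1 h
      · exact hneg (h ▸ hy)
  have hp := card_lt_four (not_le.mp h4)
  have hcard : Fintype.card F = 3 := by
    have hne : Fintype.card F ≠ 2 := fun h2' => h2 (by
      have := Nat.cast_card_eq_zero F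
      rw [h2'] at this; exact_mod_cast this)
    have := Fintype.one_lt_card (α := F); omega
  have hall : ∀ x : F, x = 0 ∨ x * x = 1 := fun x => by
    by_cases hx : x = 0
    · exact Or.inl hx
    · right
      have h := FiniteField.pow_card_sub_one_eq_one x hx
      rw [hcard] at h
      rw [← h]; ring
  have htr : ∀ y ∈ Y, y.1 0 0 + y.1 1 1 = 2 := by
    intro y hy
    by_contra hne
    refine hneg ?_
    rcases hall (y.1 0 0 + y.1 1 1) with h | h
    · rw [← eq_neg_one rfl h]; exact mul_mem hy hy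
    · rcases mul_self_eq_one_iff.mp h with h1 | h1
      swap
      · exact absurd (by linear_combination h1 - h3) hne
      -- trace one: the cube is the negative identity
      have hd : y.1 0 0 * y.1 1 1 - y.1 0 1 * y.1 1 0 = 1 := by rw [← Matrix.det_fin_two]; exact y.2
      have e : y * y * y = -1 := by
        refine Subtype.ext ?_
        rw [Matrix.SpecialLinearGroup.coe_mul, Matrix.SpecialLinearGroup.coe_mul,
          Matrix.SpecialLinearGroup.coe_neg, Matrix.SpecialLinearGroup.coe_one]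
        ext i j
        fin_cases i <;> fin_cases j <;> simp [Matrix.mul_apply, Fin.sum_univ_two]
        · linear_combination (y.1 0 0 * y.1 0 0 + y.1 0 1 * y.1 1 0 + y.1 0 0 - 0) * h1 + (-(y.1 0 0) - 1) * hd
        · linear_combination (y.1 0 1) * (y.1 0 0 + y.1 1 1 + 1) * h1 - (y.1 0 1) * hd
        · linear_combination (y.1 1 0) * (y.1 0 0 + y.1 1 1 + 1) * h1 - (y.1 1 0) * hd
        · linear_combination (y.1 1 1 * y.1 1 1 + y.1 0 1 * y.1 1 0 + y.1 1 1 - 0) * h1 + (-(y.1 1 1) - 1) * hd
      rw [← e]; exact mul_mem (mul_mem hy hy) hy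
  rw [eq_bot_iff]
  intro y hy
  have hw : (wl : SL(2, F)) * y * (wl : SL(2, F))⁻¹ ∈ Y :=
    (mem_normalizer_iff.mp (hn (wl_mem_commutator h2)) y).mp hy
  have t1 := htr y hy
  have t2 := htr _ (mul_mem hy hw)
  have hd : y.1 0 0 * y.1 1 1 - y.1 0 1 * y.1 1 0 = 1 := by rw [← Matrix.det_fin_two]; exact y.2
  simp only [Matrix.SpecialLinearGroup.coe_mul, Matrix.SpecialLinearGroup.coe_inv] at t2
  simp [wl, Matrix.mul_apply, Fin.sum_univ_two, Matrix.adjugate_fin_two_of, Matrix.vecMul, dotProduct] at t2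
  set a := y.1 0 0 - 1 with ha
  have hbc : y.1 0 1 = y.1 1 0 := by
    have : (y.1 0 1 - y.1 1 0) * (y.1 0 1 - y.1 1 0) = 0 := by
      linear_combination (-1 : F) * t2 + (2 : F) * hd
    exact sub_eq_zero.mp (mul_self_eq_zero.mp this)
  have hsum : a * a + y.1 0 1 * y.1 0 1 = 0 := by
    rw [ha]; linear_combination (y.1 0 0) * t1 - hd + (y.1 0 1) * hbc
  have hzero : a = 0 ∧ y.1 0 1 = 0 := by
    rcases hall a with h | h <;> rcases hall (y.1 0 1) with h' | h'
    · exact ⟨h, h'⟩
    · exfalso; rw [h, h'] at hsum; simp at hsum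
    · exfalso; rw [h, h'] at hsum; simp at hsum
    · exfalso
      rw [h, h'] at hsum
      exact h2 (by linear_combination hsum)
  have e0 : y.1 0 0 = 1 := by have := hzero.1; rw [ha, sub_eq_zero] at this; exact this
  have e1 : y.1 1 1 = 1 := by linear_combination t1 - e0
  rw [mem_bot]
  refine Subtype.ext ?_
  ext i j
  fin_cases i <;> fin_cases j <;> simp [e0, e1, hzero.2, ← hbc]

/-- Unipotent linear maps of the plane are quadratic. -/
theorem unipotent_quadratic {p : ℕ} [Fact p.Prime] [CharP F p] {g : Equiv.Perm (Fin 2 → F)}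
    (hg : IsAdd g) (hlin : ∀ (c : F) v, g (c • v) = c • g v) (hpow : ∃ k : ℕ, g ^ p ^ k = 1)
    (v : Fin 2 → F) : g (g v) = g v + g v - v := by
  obtain ⟨k, hk⟩ := hpow
  let L : Module.End F (Fin 2 → F) := { toFun := g, map_add' := hg, map_smul' := hlin }
  have hL : ∀ m : ℕ, ∀ u, (L ^ m) u = (g ^ m) u := by
    intro m
    induction m with
    | zero => intro u; rfl
    | succ m ih => intro u; rw [pow_succ, pow_succ, Module.End.mul_apply, ih]; rfl
  have hL1 : L ^ p ^ k = 1 := LinearMap.ext fun u => by rw [hL, hk]; rfl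
  haveI : CharP (Module.End F (Fin 2 → F)) p :=
    charP_of_injective_algebraMap' F p
  have hN : (L - 1) ^ p ^ k = 0 := by
    rw [sub_pow_char_pow_of_commute p k (Commute.one_right L), hL1, one_pow, sub_self]
  have h := Module.End.ker_pow_le_ker_pow_finrank (L - 1) (p ^ k) (show v ∈ LinearMap.ker ((L - 1) ^ p ^ k) by
    rw [hN, LinearMap.mem_ker]; rfl)
  rw [LinearMap.mem_ker, Module.finrank_fin_fun, pow_two, Module.End.mul_apply, LinearMap.sub_apply,
    LinearMap.sub_apply, map_sub] at h
  change g (g v) - g v - (g v - v) = 0 at h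
  rw [sub_sub, sub_eq_zero] at h
  rw [h]; abel

end Cfsg.Agent.PLocal.Blocks.SL2
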