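import Mathlib.Algebra.Group.TypeTags.Hom
import Mathlib.GroupTheory.Subgroup.Centralizer
import Mathlib.GroupTheory.QuotientGroup.Basic

/-!
Coordinates on an abelian section and the action of the common normalizer.
-/

set_option linter.all false
set_option autoImplicit false

namespace Cfsg.Agent.PLocal.Blocks

open Subgroup
open scoped commutatorElement

variable {G : Type*} [Group G]

/-- A coordinatisation of the section `U / U₀`. -/
structure Sect (U U₀ : Subgroup G) (M : Type*) [AddCommGroup M] where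
  toHom : ↥U →* Multiplicative M
  surj : Function.Surjective toHom
  ker : ∀ u, toHom u = 1 ↔ (u : G) ∈ U₀

namespace Sect

variable {U U₀ : Subgroup G} {M : Type*} [AddCommGroup M] (σ : Sect U U₀ M)

local notation "NN" => (Subgroup.normalizer (U : Set G) ⊓ Subgroup.normalizer (U₀ : Set G))

theorem conj_mem {x u : G} (hx : x ∈ NN) (hu : u ∈ U) : x * u * x⁻¹ ∈ U :=
  (mem_normalizer_iff.mp hx.1 u).mp hu

theorem conj_mem₀ {x u : G} (hx : x ∈ NN) (hu : u ∈ U₀) : x * u * x⁻¹ ∈ U₀ :=
  (mem_normalizer_iff.mp hx.2 u).mp hu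

/-- The coordinates. -/
def coord (u : ↥U) : M := Multiplicative.toAdd (σ.toHom u)

theorem coord_mul (u v : ↥U) : σ.coord (u * v) = σ.coord u + σ.coord v := by
  simp [coord]

theorem coord_inv (u : ↥U) : σ.coord u⁻¹ = -σ.coord u := by simp [coord]

theorem coord_surjective : Function.Surjective σ.coord := fun v => by
  obtain ⟨u, hu⟩ := σ.surj (Multiplicative.ofAdd v)
  exact ⟨u, by simp [coord, hu]⟩

theorem coord_eq_zero {u : ↥U} : σ.coord u = 0 ↔ (u : G) ∈ U₀ :=
  Iff.trans ⟨fun h => Multiplicative.toAdd.injective h, fun h => congrArg Multiplicative.toAdd h⟩ (σ.ker u)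

theorem coord_eq_iff {u v : ↥U} : σ.coord u = σ.coord v ↔ (u : G) * (v : G)⁻¹ ∈ U₀ := by
  rw [← Subgroup.coe_inv, ← Subgroup.coe_mul, ← σ.coord_eq_zero, coord_mul, coord_inv, ← sub_eq_add_neg,
    sub_eq_zero]

/-- Conjugation in coordinates. -/
noncomputable def mapAt (x : ↥NN) (v : M) : M :=
  σ.coord ⟨(x : G) * (Function.surjInv σ.coord_surjective v : ↥U) * (x : G)⁻¹,
    conj_mem x.2 (Function.surjInv σ.coord_surjective v).2⟩

theorem mapAt_coord (x : ↥NN) (u : ↥U) :
    σ.mapAt x (σ.coord u) = σ.coord ⟨(x : G) * u * (x : G)⁻¹, conj_mem x.2 u.2⟩ := by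
  rw [mapAt, coord_eq_iff]
  have h := conj_mem₀ x.2 (σ.coord_eq_iff.mp (Function.surjInv_eq σ.coord_surjective (σ.coord u)))
  convert h using 1
  simp [mul_assoc]

theorem mapAt_mapAt (x y : ↥NN) (v : M) : σ.mapAt x (σ.mapAt y v) = σ.mapAt (x * y) v := by
  obtain ⟨u, rfl⟩ := σ.coord_surjective v
  rw [mapAt_coord, mapAt_coord, mapAt_coord]
  congr 1
  exact Subtype.ext (by simp [mul_assoc])

theorem mapAt_one (v : M) : σ.mapAt 1 v = v := by
  obtain ⟨u, rfl⟩ := σ.coord_surjective v
  rw [mapAt_coord]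
  congr 1
  exact Subtype.ext (by simp)

/-- The action of the common normalizer. -/
noncomputable def act : ↥NN →* Equiv.Perm M where
  toFun x :=
    { toFun := σ.mapAt x
      invFun := σ.mapAt x⁻¹
      left_inv := fun v => by rw [mapAt_mapAt, inv_mul_cancel, mapAt_one]
      right_inv := fun v => by rw [mapAt_mapAt, mul_inv_cancel, mapAt_one] }
  map_one' := Equiv.ext σ.mapAt_one
  map_mul' x y := Equiv.ext fun v => (σ.mapAt_mapAt x y v).symm

theorem act_coord (x : ↥NN) (u : ↥U) :
    σ.act x (σ.coord u) = σ.coord ⟨(x : G) * u * (x : G)⁻¹, conj_mem x.2 u.2⟩ :=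
  σ.mapAt_coord x u

theorem act_add (x : ↥NN) (v w : M) : σ.act x (v + w) = σ.act x v + σ.act x w := by
  obtain ⟨u, rfl⟩ := σ.coord_surjective v
  obtain ⟨u', rfl⟩ := σ.coord_surjective w
  rw [← coord_mul, act_coord, act_coord, act_coord, ← coord_mul]
  congr 1
  exact Subtype.ext (by simp [mul_assoc])

theorem act_zero (x : ↥NN) : σ.act x 0 = 0 := by
  have h := σ.act_add x 0 0
  rw [add_zero] at h
  exact add_eq_left.mp h.symm

theorem act_neg (x : ↥NN) (v : M) : σ.act x (-v) = -σ.act x v := by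
  apply eq_neg_of_add_eq_zero_left
  rw [← σ.act_add, neg_add_cancel, act_zero]

theorem act_sub (x : ↥NN) (v w : M) : σ.act x (v - w) = σ.act x v - σ.act x w := by
  rw [sub_eq_add_neg, σ.act_add, act_neg, ← sub_eq_add_neg]

theorem mem_of_trivial {x : ↥NN} (h : σ.act x = 1) {u : G} (hu : u ∈ U) : ⁅(x : G), u⁆ ∈ U₀ := by
  have h' := Equiv.congr_fun h (σ.coord ⟨u, hu⟩)
  rw [act_coord, Equiv.Perm.one_apply, coord_eq_iff] at h'
  exact h'

theorem coord_commutator (x : ↥NN) {u : G} (hu : u ∈ U) (h : ⁅u, (x : G)⁆ ∈ U) :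
    σ.coord ⟨⁅u, (x : G)⁆, h⟩ = σ.coord ⟨u, hu⟩ - σ.act x (σ.coord ⟨u, hu⟩) := by
  rw [act_coord, sub_eq_add_neg, ← coord_inv, ← coord_mul]
  congr 1
  exact Subtype.ext (by simp [commutatorElement_def, mul_assoc])

end Sect

/-- The coordinatisation of an abelian section by the quotient itself. -/
noncomputable def Sect.quotient (U U₀ : Subgroup G) (hn : U ≤ Subgroup.normalizer (U₀ : Set G))
    (hab : ∀ u ∈ U, ∀ v ∈ U, u * v * u⁻¹ * v⁻¹ ∈ U₀) :
    haveI : (U₀.subgroupOf U).Normal := normal_subgroupOf_of_le_normalizer hn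
    letI : CommGroup (↥U ⧸ U₀.subgroupOf U) :=
      { (inferInstance : Group (↥U ⧸ U₀.subgroupOf U)) with
        mul_comm := fun a b => by
          induction a using QuotientGroup.induction_on with
          | H a =>
            induction b using QuotientGroup.induction_on with
            | H b =>
              rw [← QuotientGroup.mk_mul, ← QuotientGroup.mk_mul, QuotientGroup.eq_iff_div_mem,
                div_eq_mul_inv, mem_subgroupOf]
              simpa [mul_assoc] using hab a a.2 b b.2 }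
    Sect U U₀ (Additive (↥U ⧸ U₀.subgroupOf U)) :=
  haveI : (U₀.subgroupOf U).Normal := normal_subgroupOf_of_le_normalizer hn
  letI : CommGroup (↥U ⧸ U₀.subgroupOf U) :=
    { (inferInstance : Group (↥U ⧸ U₀.subgroupOf U)) with
      mul_comm := fun a b => by
        induction a using QuotientGroup.induction_on with
        | H a =>
          induction b using QuotientGroup.induction_on with
          | H b =>
            rw [← QuotientGroup.mk_mul, ← QuotientGroup.mk_mul, QuotientGroup.eq_iff_div_mem,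
              div_eq_mul_inv, mem_subgroupOf]
            simpa [mul_assoc] using hab a a.2 b b.2 }
  { toHom := MonoidHom.comp (MulEquiv.multiplicativeAdditive _).symm.toMonoidHom (QuotientGroup.mk' _)
    surj := fun v => by
      obtain ⟨u, hu⟩ := QuotientGroup.mk_surjective (Additive.toMul (Multiplicative.toAdd v))
      exact ⟨u, congrArg (fun q => Multiplicative.ofAdd (Additive.ofMul q)) hu⟩
    ker := fun u => by
      rw [← mem_subgroupOf (H := U₀), ← QuotientGroup.eq_one_iff]
      exact Iff.rfl }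

/-- Abelian sections have coordinates. -/
theorem exists_sect.{w} {G : Type w} [Group G] (U U₀ : Subgroup G)
    (hn : U ≤ Subgroup.normalizer (U₀ : Set G)) (hab : ∀ u ∈ U, ∀ v ∈ U, u * v * u⁻¹ * v⁻¹ ∈ U₀) :
    ∃ (M : Type w) (_ : AddCommGroup M), Nonempty (Sect U U₀ M) :=
  ⟨_, _, ⟨Sect.quotient U U₀ hn hab⟩⟩

end Cfsg.Agent.PLocal.Blocks
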