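import Cfsg.Agent.Lib.PLocal.Blocks.Linear
import Cfsg.Agent.Lib.PLocal.Blocks.Sect
import Cfsg.Agent.Lib.PLocal.Blocks.SL2Sub

/-!
The core of an exceptional block modulo its module.
-/

set_option linter.all false
set_option autoImplicit false

namespace Cfsg.Agent.PLocal.Blocks

open Subgroup Cfsg
open scoped commutatorElement MatrixGroups
open Cfsg.Agent.PLocal.BlockModule (tU tL dg wl)

variable {G : Type*} [Group G] [Finite G] {p : ℕ} [Fact p.Prime] {E : Subgroup G} {T : Sylow p G}

local notation "QE" => pCoreOf p E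
local notation "WE" => omegaOneCenter p (pCoreOf p E)
local notation "ZE" => omegaOneCenter p (pCoreOf p E) ⊓ Subgroup.centralizer (E : Set G)
local notation "NE" => Subgroup.normalizer (E : Set G)
local notation "WC" => ⁅omegaOneCenter p (pCoreOf p E), E⁆

/-- Coordinates for an exceptional block. -/
structure ExcData (p : ℕ) [Fact p.Prime] (T E : Subgroup G) (F : Type) [Field F] [Fintype F] where
  n : ℕ
  card_field : Fintype.card F = p ^ n
  exc : IsExceptional p T E F n
  modW : Rep p E (Fin 2 → F)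
  modW_range : modW.onBlock.range = SL2.img F
  modV : Sect (pCoreOf p E) (omegaOneCenter p (pCoreOf p E)) (Fin 2 → F)
  repV : ↥E →* SL(2, F)
  repV_range : repV.range = commutator SL(2, F)
  repV_spec : ∀ (e : ↥E) (u : ↥(pCoreOf p E)), ∃ w : ↥(pCoreOf p E),
    (w : G) = (e : G) * u * (e : G)⁻¹ ∧ modV.coord w = SL2.lin (repV e) (modV.coord u)

/-- The two possibilities for a block. -/
theorem core_eq_or_exc (hE : IsBaumannBlock p (T : Subgroup G) E) :
    pCoreOf p E = WE ∨ ∃ (F : Type) (_ : Field F) (_ : Fintype F) (_ : CharP F p),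
      p = 3 ∧ Nonempty (ExcData p (T : Subgroup G) E F) := by
  rcases block_cases hE with ⟨F, iF, iFt, iC, n, ρ, hF, hρ, h | hex⟩ | ⟨-, n, ρ, -, -, -, h⟩
  · exact Or.inl h
  · obtain ⟨hp, ⟨-, -, ρ', ψ, hρ', hψ, hker, heq⟩, hrest⟩ := hex
    refine Or.inr ⟨F, iF, iFt, iC, hp, ⟨n, hF, ⟨hp, ⟨?_, ?_, ρ', ψ, hρ', hψ, hker, heq⟩, hrest⟩,
      ρ, hρ, ⟨ψ, hψ, hker⟩, ρ', hρ', fun e u => heq e u⟩⟩
    · exact CharP.le_normalizer_pCoreOf p E
    · exact BlockModule.omegaCenter_le _
  · exact Or.inl h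

theorem normalizer_core_le : normalizer (QE : Set G) ≤
    normalizer (QE : Set G) ⊓ normalizer (WE : Set G) :=
  le_inf le_rfl (BlockModule.le_normalizer_omegaCenter _)

namespace ExcData

variable {F : Type} [Field F] [Fintype F] (D : ExcData p (T : Subgroup G) E F)

/-- The action on the top section. -/
noncomputable def actV : ↥(normalizer (QE : Set G)) →* Equiv.Perm (Fin 2 → F) :=
  D.modV.act.comp (Subgroup.inclusion normalizer_core_le)

theorem actV_coord (x : ↥(normalizer (QE : Set G))) (u : ↥(QE)) :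
    D.actV x (D.modV.coord u) =
      D.modV.coord ⟨(x : G) * u * (x : G)⁻¹, (mem_normalizer_iff.mp x.2 _).mp u.2⟩ :=
  D.modV.act_coord _ u

theorem isAdd_actV (x : ↥(normalizer (QE : Set G))) : SL2.IsAdd (D.actV x) := D.modV.act_add _

theorem actV_block (e : ↥E) :
    D.actV ⟨e, CharP.le_normalizer_pCoreOf p E e.2⟩ = SL2.lin (D.repV e) := by
  refine Equiv.ext fun v => ?_
  obtain ⟨u, rfl⟩ := D.modV.coord_surjective v
  obtain ⟨w, hw, h⟩ := D.repV_spec e u
  rw [actV_coord, ← h]
  congr 1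
  exact Subtype.ext hw.symm

theorem hp3 (D : ExcData p (T : Subgroup G) E F) : p = 3 := D.exc.1

theorem commutator_eq (D : ExcData p (T : Subgroup G) E F) : ⁅QE, QE⁆ = (ZE : Subgroup G) := D.exc.2.2.1

theorem charP (D : ExcData p (T : Subgroup G) E F) : CharP F 3 :=
  D.exc.1 ▸ charP_of_card D.card_field

theorem card_ZE (D : ExcData p (T : Subgroup G) E F) : Nat.card ↥(ZE : Subgroup G) = Fintype.card F := by
  obtain ⟨hp, -, -, -, h1, h2, -⟩ := D.exc
  rw [← h1, h2, D.card_field]
  exact congrArg (fun m => m ^ D.n) hp.symm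

theorem core_trivial {u : G} (hu : u ∈ QE) :
    D.repV ⟨u, CharP.pCoreOf_le p E hu⟩ = 1 := by
  refine SL2.lin_injective ?_
  rw [← actV_block, map_one]
  refine Equiv.ext fun v => ?_
  obtain ⟨w, rfl⟩ := D.modV.coord_surjective v
  rw [actV_coord, Equiv.Perm.one_apply, Sect.coord_eq_iff]
  have h : ⁅u, (w : G)⁆ ∈ (ZE : Subgroup G) := D.commutator_eq ▸ commutator_mem_commutator hu w.2
  exact h.1

theorem repV_eq_one_iff (hE : IsBaumannBlock p (T : Subgroup G) E) (e : ↥E) :
    D.repV e = 1 ↔ (e : G) ∈ QE := by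
  have h1 : (QE).subgroupOf E ≤ D.repV.ker := fun x hx => by
    rw [MonoidHom.mem_ker, ← D.core_trivial hx]
    rfl
  have hkW : D.modW.onBlock.ker = (QE).subgroupOf E := by
    ext x
    rw [MonoidHom.mem_ker, mem_subgroupOf, ← inf_centralizer_eq_core hE]
    exact ⟨fun h => ⟨x.2, (D.modW.act_eq_one_iff hE _).mp h⟩, fun h => (D.modW.act_eq_one_iff hE _).mpr h.2⟩
  have h2 : D.repV.ker.index = D.modW.onBlock.ker.index := by
    rw [index_ker, index_ker, D.repV_range, D.modW_range, SL2.img,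
      card_map_of_injective SL2.lin_injective]
  have h3 : (QE).subgroupOf E = D.repV.ker := by
    refine eq_of_le_of_card_ge h1 (le_of_eq ?_)
    rw [← hkW]
    have e1 := card_mul_index D.repV.ker
    have e2 := card_mul_index D.modW.onBlock.ker
    rw [h2] at e1
    exact Nat.eq_of_mul_eq_mul_right (Nat.pos_of_ne_zero index_ne_zero_of_finite) (e1.trans e2.symm)
  rw [← MonoidHom.mem_ker, ← h3, mem_subgroupOf]

/-- An element acting as the Weyl element on the module; its square inverts both sections. -/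
theorem exists_wl (hE : IsBaumannBlock p (T : Subgroup G) E) :
    ∃ g : ↥E, (g : G) ^ 4 = 1 ∧
      (∀ v, D.modW.onBlock (g * g) v = -v) ∧
      ∀ v, D.actV ⟨((g * g : ↥E) : G), CharP.le_normalizer_pCoreOf p E (g * g).2⟩ v = -v := by
  haveI := charP_of_card (p := p) D.card_field
  have hp : p ≠ 2 := by rw [D.hp3]; decide
  have h2 : (2 : F) ≠ 0 := fun h => hp ((Nat.prime_dvd_prime_iff_eq Fact.out Nat.prime_two).mp
    ((CharP.cast_eq_zero_iff F p 2).mp (by exact_mod_cast h)))
  obtain ⟨g, hg4, -, hneg⟩ := D.modW.exists_wl hE hp D.modW_range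
  refine ⟨g, hg4, hneg, fun v => ?_⟩
  rw [actV_block]
  refine SL2.involution_apply h2 ?_ ?_ v
  · rw [← map_mul, show g * g * (g * g) = 1 from Subtype.ext (by
      show ((g : G) * g) * ((g : G) * g) = 1
      rw [← hg4, pow_succ, pow_succ, pow_two]; simp [mul_assoc]), map_one]
  · intro h
    have h' := hneg ![1, 0]
    rw [(D.modW.act_eq_one_iff hE _).mpr (core_le_centralizer commutator_WE_le ((D.repV_eq_one_iff hE _).mp h)) |>
      fun h : D.modW.onBlock (g * g) = 1 => h, Equiv.Perm.one_apply] at h'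
    have h'' : (1 : F) = -1 := by have := congr_fun h' 0; simpa using this
    exact h2 (by linear_combination h'')

theorem mem_centralizer_ZE_of_trivial {x : ↥(normalizer (QE : Set G))} (h : D.actV x = 1) :
    (x : G) ∈ centralizer ((ZE : Subgroup G) : Set G) := by
  have hle : ⁅QE, QE⁆ ≤ centralizer ({(x : G)} : Set G) := by
    rw [commutator_le]
    intro u hu v hv
    rw [mem_centralizer_singleton_iff, eq_comm, ← mul_inv_eq_iff_eq_mul]
    have hc : ∀ a ∈ QE, ∃ c ∈ centralizer (QE : Set G), (x : G) * a * (x : G)⁻¹ = c * a := fun a ha => by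
      refine ⟨_, BlockModule.omegaCenter_le_centralizer (p := p) _ (D.modV.mem_of_trivial (x := Subgroup.inclusion normalizer_core_le x) h ha), ?_⟩
      simp [commutatorElement_def, mul_assoc]
    obtain ⟨a, ha, ea⟩ := hc u hu
    obtain ⟨b, hb, eb⟩ := hc v hv
    rw [show (x : G) * ⁅u, v⁆ * (x : G)⁻¹ = ⁅(x : G) * u * (x : G)⁻¹, (x : G) * v * (x : G)⁻¹⁆ by
      simp [commutatorElement_def, mul_assoc], ea, eb]
    have hxv : b * v ∈ QE := eb ▸ (mem_normalizer_iff.mp x.2 _).mp hv
    have hau : Commute a u := (mem_centralizer_iff.mp ha u hu).symm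
    have hav : Commute a v := (mem_centralizer_iff.mp ha v hv).symm
    have hbu : Commute b u := (mem_centralizer_iff.mp hb u hu).symm
    have hbv : Commute b v := (mem_centralizer_iff.mp hb v hv).symm
    have hbQ : b ∈ QE := by
      have := mul_mem hxv (inv_mem hv)
      rwa [mul_inv_cancel_right] at this
    have hab : Commute a b := (mem_centralizer_iff.mp ha b hbQ).symm
    rw [commutatorElement_mul_left_eq_conj_mul, (commutatorElement_eq_one_iff_commute).mpr (hab.mul_right hav),
      mul_one, show ⁅u, b * v⁆ = ⁅u, v⁆ by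
        rw [commutatorElement_mul_right_eq_mul_conj, (commutatorElement_eq_one_iff_commute).mpr hbu.symm, one_mul]
        rw [(show Commute b ⁅u, v⁆ from (hbu.mul_right hbv).mul_right hbu.inv_right |>.mul_right hbv.inv_right).eq, mul_inv_cancel_right]]
    rw [(show Commute a ⁅u, v⁆ from (hau.mul_right hav).mul_right hau.inv_right |>.mul_right hav.inv_right).eq, mul_inv_cancel_right]
  rw [D.commutator_eq] at hle
  exact fun z hz => mem_centralizer_singleton_iff.mp (hle hz)

/-- A `p'`-element trivial on both sections centralizes the core. -/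
theorem mem_centralizer_core (hE : IsBaumannBlock p (T : Subgroup G) E) {x : G}
    (hxQ : x ∈ normalizer (QE : Set G)) (hxW : x ∈ centralizer ((WC : Subgroup G) : Set G))
    (h : D.actV ⟨x, hxQ⟩ = 1) (hcop : (orderOf x).Coprime p) :
    x ∈ centralizer (QE : Set G) := by
  have hW : x ∈ centralizer (WE : Set G) := by
    have hle : WE ≤ centralizer ({x} : Set G) := by
      rw [← BlockModule.sup_ZE hE]
      exact sup_le (fun w hw => mem_centralizer_singleton_iff.mpr (mem_centralizer_iff.mp hxW w hw))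
        fun z hz => mem_centralizer_singleton_iff.mpr
          (mem_centralizer_iff.mp (D.mem_centralizer_ZE_of_trivial h) z hz)
    exact fun w hw => mem_centralizer_singleton_iff.mp (hle hw)
  refine mem_centralizer_of_stab (CharP.isPGroup_pCoreOf p E) hcop hxQ hW fun u hu => ?_
  rw [← commutatorElement_inv]
  exact inv_mem (D.modV.mem_of_trivial (x := Subgroup.inclusion normalizer_core_le ⟨x, hxQ⟩) h hu)

/-- Elements centralizing the centre act on the top section with determinant one. -/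
theorem exists_lin_of_centralizes [CharP F p] {x : ↥(normalizer (QE : Set G))}
    (hx : (x : G) ∈ centralizer ((ZE : Subgroup G) : Set G)) : ∃ s, D.actV x = SL2.lin s := by
  haveI := D.charP
  letI : CommGroup ↥(ZE : Subgroup G) :=
    { (inferInstance : Group ↥(ZE : Subgroup G)) with
      mul_comm := fun a b => Subtype.ext (BlockLocation.omegaCenter_comm (p := p) _ a.2.1 b.2.1) }
  have hmem : ∀ u ∈ QE, ∀ v ∈ QE, ⁅u, v⁆ ∈ (ZE : Subgroup G) := fun u hu v hv =>
    D.commutator_eq ▸ commutator_mem_commutator hu hv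
  have hcZ : ∀ c ∈ (ZE : Subgroup G), ∀ q ∈ QE, q * c * q⁻¹ = c := fun c hc q hq => by
    rw [mem_centralizer_iff.mp (BlockModule.omegaCenter_le_centralizer (p := p) _ hc.1) q hq, mul_inv_cancel_right]
  have hmulL : ∀ a ∈ QE, ∀ b ∈ QE, ∀ c ∈ QE, ⁅a * b, c⁆ = ⁅a, c⁆ * ⁅b, c⁆ := fun a ha b hb c hc => by
    rw [commutatorElement_mul_left_eq_conj_mul, hcZ _ (hmem b hb c hc) a ha]
    exact BlockLocation.omegaCenter_comm (p := p) _ (hmem b hb c hc).1 (hmem a ha c hc).1
  have hmulR : ∀ a ∈ QE, ∀ b ∈ QE, ∀ c ∈ QE, ⁅a, b * c⁆ = ⁅a, b⁆ * ⁅a, c⁆ := fun a ha b hb c hc => by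
    rw [commutatorElement_mul_right_eq_mul_conj, mul_assoc _ b, mul_assoc, hcZ _ (hmem a ha c hc) b hb]
  have hW : ∀ w ∈ WE, ∀ q ∈ QE, ⁅w, q⁆ = 1 ∧ ⁅q, w⁆ = 1 := fun w hw q hq => by
    have h := mem_centralizer_iff.mp (BlockModule.omegaCenter_le_centralizer (p := p) _ hw) q hq
    exact ⟨commutatorElement_eq_one_iff_mul_comm.mpr h.symm, commutatorElement_eq_one_iff_mul_comm.mpr h⟩
  let sv := Function.surjInv D.modV.coord_surjective
  have hsv : ∀ u : ↥(QE), ∃ w ∈ WE, (sv (D.modV.coord u) : G) = w * u := fun u => by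
    refine ⟨_, D.modV.coord_eq_iff.mp (Function.surjInv_eq D.modV.coord_surjective (D.modV.coord u)), ?_⟩
    simp [sv]
  let b : (Fin 2 → F) → (Fin 2 → F) → Additive ↥(ZE : Subgroup G) := fun u v =>
    Additive.ofMul ⟨⁅(sv u : G), (sv v : G)⁆, hmem _ (sv u).2 _ (sv v).2⟩
  have hb : ∀ u v : ↥(QE), b (D.modV.coord u) (D.modV.coord v) =
      Additive.ofMul ⟨⁅(u : G), (v : G)⁆, hmem _ u.2 _ v.2⟩ := by
    intro u v
    refine congrArg Additive.ofMul (Subtype.ext ?_)
    obtain ⟨w, hw, ew⟩ := hsv u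
    obtain ⟨w', hw', ew'⟩ := hsv v
    show ⁅(sv (D.modV.coord u) : G), (sv (D.modV.coord v) : G)⁆ = ⁅(u : G), (v : G)⁆
    have hwQ := BlockModule.omegaCenter_le (p := p) _ hw
    have hwQ' := BlockModule.omegaCenter_le (p := p) _ hw'
    rw [ew, ew', hmulL _ hwQ _ u.2 _ (mul_mem hwQ' v.2), (hW w hw _ (mul_mem hwQ' v.2)).1, one_mul,
      hmulR _ u.2 _ hwQ' _ v.2, (hW w' hw' _ u.2).2, one_mul]
  have haddL : ∀ a a' c, b (a + a') c = b a c + b a' c := by
    intro a a' c
    obtain ⟨a, rfl⟩ := D.modV.coord_surjective a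
    obtain ⟨a', rfl⟩ := D.modV.coord_surjective a'
    obtain ⟨c, rfl⟩ := D.modV.coord_surjective c
    rw [← Sect.coord_mul, hb, hb, hb, ← ofMul_mul]
    exact congrArg Additive.ofMul (Subtype.ext (hmulL _ a.2 _ a'.2 _ c.2))
  have haddR : ∀ a c c', b a (c + c') = b a c + b a c' := by
    intro a c c'
    obtain ⟨a, rfl⟩ := D.modV.coord_surjective a
    obtain ⟨c, rfl⟩ := D.modV.coord_surjective c
    obtain ⟨c', rfl⟩ := D.modV.coord_surjective c'
    rw [← Sect.coord_mul, hb, hb, hb, ← ofMul_mul]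
    exact congrArg Additive.ofMul (Subtype.ext (hmulR _ a.2 _ c.2 _ c'.2))
  let β : (Fin 2 → F) →+ (Fin 2 → F) →+ Additive ↥(ZE : Subgroup G) :=
    AddMonoidHom.mk' (fun a => AddMonoidHom.mk' (b a) (haddR a)) fun a a' =>
      AddMonoidHom.ext fun c => haddL a a' c
  have halt : ∀ v, β v v = 0 := fun v => by
    obtain ⟨u, rfl⟩ := D.modV.coord_surjective v
    show b _ _ = 0
    rw [hb]
    exact congrArg Additive.ofMul (Subtype.ext (commutatorElement_self (u : G)))
  have hinv : ∀ y : ↥(normalizer (QE : Set G)), (y : G) ∈ centralizer ((ZE : Subgroup G) : Set G) →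
      ∀ u v, β (D.actV y u) (D.actV y v) = β u v := by
    intro y hy u v
    obtain ⟨u, rfl⟩ := D.modV.coord_surjective u
    obtain ⟨v, rfl⟩ := D.modV.coord_surjective v
    show b _ _ = b _ _
    rw [actV_coord, actV_coord, hb, hb]
    refine congrArg Additive.ofMul (Subtype.ext ?_)
    show ⁅(y : G) * u * (y : G)⁻¹, (y : G) * v * (y : G)⁻¹⁆ = ⁅(u : G), (v : G)⁆
    rw [show ⁅(y : G) * u * (y : G)⁻¹, (y : G) * v * (y : G)⁻¹⁆ = (y : G) * ⁅(u : G), (v : G)⁆ * (y : G)⁻¹ by
      simp [commutatorElement_def, mul_assoc], ← mem_centralizer_iff.mp hy _ (hmem _ u.2 _ v.2),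
      mul_inv_cancel_right]
  have hdet : ∀ u v, β u v = β ![u 0 * v 1 - u 1 * v 0, 0] ![0, 1] := by
    rcases le_or_gt 4 (Fintype.card F) with h4 | h4
    · refine SL2.form_det h4 β halt fun s hs u v => ?_
      obtain ⟨e, rfl⟩ := D.repV_range.ge hs
      rw [← actV_block]
      exact hinv ⟨e, CharP.le_normalizer_pCoreOf p E e.2⟩ (fun z hz => (mem_centralizer_iff.mp hz.2 e e.2).symm) u v
    · intro u v
      have hnat : ∀ c : F, ∃ k : ℕ, ∀ a : Fin 2 → F, c • a = k • a := by
        intro c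
        obtain ⟨p', hc'⟩ := CharP.exists F
        haveI := hc'
        obtain ⟨m, hpp, hm⟩ := FiniteField.card F p'
        haveI : Fact p'.Prime := ⟨hpp⟩
        have hm1 : (m : ℕ) = 1 := by
          have hpr := SL2.card_lt_four h4
          rw [hm] at hpr
          exact hpr.eq_one_of_pow
        have hbij : Function.Bijective (ZMod.castHom (dvd_refl p') F) :=
          (Fintype.bijective_iff_injective_and_card _).mpr
            ⟨RingHom.injective _, by rw [ZMod.card, hm, hm1, pow_one]⟩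
        obtain ⟨k, rfl⟩ := hbij.2 c
        obtain ⟨j, rfl⟩ := ZMod.natCast_zmod_surjective k
        exact ⟨j, fun a => by rw [map_natCast, Nat.cast_smul_eq_nsmul]⟩
      have hsmul : ∀ (c : F) a a', β (c • a) a' = β a (c • a') := by
        intro c a a'
        obtain ⟨k, hk⟩ := hnat c
        rw [hk, hk, map_nsmul, map_nsmul, AddMonoidHom.nsmul_apply]
      have hskew : ∀ a a', β a a' = - β a' a := fun a a' => by
        have := halt (a + a')
        simp only [map_add, AddMonoidHom.add_apply, halt, zero_add, add_zero] at this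
        exact eq_neg_of_add_eq_zero_right this
      have hzero : ∀ (c : F) a, β (c • a) a = 0 := fun c a => by
        obtain ⟨k, hk⟩ := hnat c
        rw [hk, map_nsmul, AddMonoidHom.nsmul_apply, halt, smul_zero]
      have hprod : ∀ (c c' : F) a a', β (c • a) (c' • a') = β ((c' * c) • a) a' := fun c c' a a' => by
        rw [← hsmul, smul_smul]
      have hs : ∀ a : Fin 2 → F, a = (a 0) • ![1, 0] + (a 1) • ![0, 1] := fun a => by
        ext i; fin_cases i <;> simp
      conv_lhs => rw [hs u, hs v]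
      simp only [map_add, AddMonoidHom.add_apply, hprod, hzero, zero_add, add_zero]
      rw [hskew ((v 0 * u 1) • ![0, 1]) ![1, 0], ← hsmul,
        show (![u 0 * v 1 - u 1 * v 0, 0] : Fin 2 → F) = (v 1 * u 0) • ![1, 0] - (v 0 * u 1) • ![1, 0] by
          ext i; fin_cases i <;> simp <;> ring, map_sub, AddMonoidHom.sub_apply]
      abel
  let φ : F →+ Additive ↥(ZE : Subgroup G) :=
    AddMonoidHom.mk' (fun a => β ![a, 0] ![0, 1]) fun a a' => by
      rw [← AddMonoidHom.add_apply, ← map_add]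
      congr 2
      ext i; fin_cases i <;> simp
  have hsurj : Function.Surjective φ := by
    intro z
    have hle : ⁅QE, QE⁆ ≤ ((φ.range).toSubgroup'.map (ZE : Subgroup G).subtype) := by
      rw [commutator_le]
      intro u hu v hv
      refine ⟨⟨⁅u, v⁆, hmem u hu v hv⟩, ?_, rfl⟩
      show Additive.ofMul (⟨⁅u, v⁆, hmem u hu v hv⟩ : ↥(ZE : Subgroup G)) ∈ φ.range
      refine ⟨_, (hdet (D.modV.coord ⟨u, hu⟩) (D.modV.coord ⟨v, hv⟩)).symm.trans (hb ⟨u, hu⟩ ⟨v, hv⟩)⟩
    rw [D.commutator_eq] at hle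
    obtain ⟨z', hz', e⟩ := hle (Additive.toMul z).2
    have e' : z' = Additive.toMul z := Subtype.ext e
    rw [← ofMul_toMul z, ← e']
    exact hz'
  have hinj : Function.Injective φ := by
    haveI : Fintype (Additive ↥(ZE : Subgroup G)) := Fintype.ofFinite _
    refine ((Fintype.bijective_iff_surjective_and_card φ).mpr ⟨hsurj, ?_⟩).1
    rw [← D.card_ZE, ← Nat.card_eq_fintype_card]
    rfl
  refine SL2.exists_lin_of_det (D.isAdd_actV x) fun u v => hinj ?_
  show β _ _ = β _ _
  rw [← hdet, ← hdet, hinv x hx]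

end ExcData

end Cfsg.Agent.PLocal.Blocks
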