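import Cfsg.Agent.Lib.PLocal.Blocks.Linear

/-!
Facts about the module of a block, free of coordinates.
-/

set_option linter.all false
set_option autoImplicit false

namespace Cfsg.Agent.PLocal.Blocks

open Subgroup Cfsg
open Cfsg.Agent.PLocal.ThompsonSubgroup
open scoped commutatorElement MatrixGroups
open Cfsg.Agent.PLocal.BlockModule (tU tL dg wl permAct)

variable {G : Type*} [Group G] [Finite G] {p : ℕ} [Fact p.Prime] {E : Subgroup G} {T : Sylow p G}

local notation "WE" => omegaOneCenter p (pCoreOf p E)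
local notation "ZE" => omegaOneCenter p (pCoreOf p E) ⊓ Subgroup.centralizer (E : Set G)
local notation "NE" => Subgroup.normalizer (E : Set G)
local notation "WC" => ⁅omegaOneCenter p (pCoreOf p E), E⁆

/-- Elementary abelian groups acting on a block induce groups smaller than its module. -/
theorem relIndex_lt (hE : IsBaumannBlock p (T : Subgroup G) E) {A : Subgroup G}
    (hA : IsElementaryAbelian p A) (hAN : A ≤ NE) :
    (centralizer ((WC : Subgroup G) : Set G)).relIndex A < (ZE).relIndex WE := by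
  rcases block_cases hE with ⟨F, iF, iFt, iC, n, ρ₀, hF, hρ₀, -⟩ | ⟨rfl, n, ρ, hn, hodd, hρ, -⟩
  · obtain ⟨ρ, hρ, hfix⟩ := exists_fix_first ρ₀ hρ₀ (IsElementaryAbelian.isPGroup hA)
    obtain ⟨hcomm, hexp⟩ := ρ.image_elementary (p := p) hA
    rw [← ρ.card_image hE hAN, ρ.relIndex_eq_card]
    rcases SL2.elementary_dichotomy (p := p) (ρ.image A) (by rintro _ ⟨a, -, rfl⟩; exact ρ.isAdd_act a)
      (by rintro _ ⟨a, -, rfl⟩; exact ρ.act_mem_normalizer_img hρ a) hcomm hexp hfix with hU | ⟨-, hlt⟩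
    · choose s hs using fun a : ρ.image A => hU a a.2
      refine lt_of_le_of_lt (Nat.card_le_card_of_injective s fun a b e => Subtype.ext (by rw [hs, hs, e])) ?_
      rw [card_module]
      exact lt_mul_of_one_lt_right Nat.card_pos Finite.one_lt_card
    · exact hlt
  · obtain ⟨hcomm, hexp⟩ := ρ.image_elementary (p := 2) hA
    rw [← ρ.card_image hE hAN, ρ.relIndex_eq_card]
    refine AltModule.card_lt hn hodd _ (by rintro _ ⟨a, -, rfl⟩; exact ρ.act_add a) ?_ hcomm hexp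
    rintro _ ⟨a, -, rfl⟩
    exact hρ ▸ ρ.act_mem_normalizer a

/-- In odd characteristic `[W,E]` is a complement to the centralizer of the block. -/
theorem inf_eq_bot_of_odd (hE : IsBaumannBlock p (T : Subgroup G) E) (hp : p ≠ 2) :
    (WC : Subgroup G) ⊓ centralizer (E : Set G) = ⊥ := by
  rcases block_cases hE with ⟨F, iF, iFt, iC, n, ρ, hF, hρ, -⟩ | ⟨h2, -⟩
  swap
  · exact absurd h2 hp
  obtain ⟨g, hg4, -, hneg⟩ := ρ.exists_wl hE hp hρ
  set e : ↥E := g * g
  obtain ⟨k, hk⟩ : ∃ k, p = 2 * k + 1 := (Fact.out : p.Prime).odd_of_ne_two hp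
  have hpow : ∀ w ∈ WE, w = (w * w) ^ (k + 1) := fun w hw => by
    rw [← pow_two, ← pow_mul, show 2 * (k + 1) = p + 1 by omega, pow_succ,
      BlockLocation.pow_eq_one_of_mem_omegaCenter _ hw, one_mul]
  have hcomm := fun a (ha : a ∈ WE) b (hb : b ∈ WE) => BlockLocation.omegaCenter_comm (p := p) (pCoreOf p E) ha hb
  let D : Subgroup G :=
    { carrier := {w | w ∈ WE ∧ (e : G) * w * (e : G)⁻¹ = w⁻¹}
      one_mem' := ⟨one_mem _, by simp⟩
      mul_mem' := by
        rintro a b ⟨ha, ha'⟩ ⟨hb, hb'⟩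
        refine ⟨mul_mem ha hb, ?_⟩
        rw [show (e : G) * (a * b) * (e : G)⁻¹ = ((e : G) * a * (e : G)⁻¹) * ((e : G) * b * (e : G)⁻¹) by
          simp [mul_assoc], ha', hb', mul_inv_rev]
        exact hcomm _ (inv_mem ha) _ (inv_mem hb)
      inv_mem' := by
        rintro a ⟨ha, ha'⟩
        exact ⟨(omegaOneCenter p (pCoreOf p E)).inv_mem ha, by rw [inv_inv, show (e : G) * a⁻¹ * (e : G)⁻¹ = ((e : G) * a * (e : G)⁻¹)⁻¹ by simp [mul_assoc], ha', inv_inv]⟩ }
  have hneg' : ∀ u : ↥WE, ρ.onBlock e (ρ.coord u) = -ρ.coord u := fun u => hneg _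
  have hDn : E ≤ normalizer (D : Set G) := by
    refine Subgroup.le_normalizer_iff.mpr fun y hy w hw => ?_
    refine ⟨conj_mem_WE (Subgroup.le_normalizer hy) hw.1, ?_⟩
    have hc : ρ.onBlock ⁅e, ⟨y, hy⟩⁆ = 1 := by
      rw [map_commutatorElement, commutatorElement_eq_one_iff_mul_comm]
      refine Equiv.ext fun v => ?_
      rw [Equiv.Perm.mul_apply, Equiv.Perm.mul_apply]
      show ρ.onBlock e _ = ρ.onBlock ⟨y, hy⟩ (ρ.onBlock e v)
      rw [hneg, hneg]
      refine (eq_neg_of_add_eq_zero_left ?_).symm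
      rw [Rep.onBlock_apply, ← ρ.act_add, neg_add_cancel]
      have := ρ.act_add ⟨y, Subgroup.le_normalizer hy⟩ 0 0
      rw [add_zero] at this
      exact add_eq_left.mp this.symm
    have hq : ((⁅e, ⟨y, hy⟩⁆ : ↥E) : G) ∈ pCoreOf p E := by
      rw [← inf_centralizer_eq_core hE]
      exact ⟨(⁅e, ⟨y, hy⟩⁆ : ↥E).2, (ρ.act_eq_one_iff hE _).mp hc⟩
    have hcw := mem_centralizer_iff.mp (BlockModule.omegaCenter_le_centralizer (p := p) _
      (conj_mem_WE (Subgroup.le_normalizer hy) (inv_mem hw.1))) _ hq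
    have e1 : (e : G) * (y * w * y⁻¹) * (e : G)⁻¹ = ((⁅e, ⟨y, hy⟩⁆ : ↥E) : G) *
        (y * ((e : G) * w * (e : G)⁻¹) * y⁻¹) * ((⁅e, ⟨y, hy⟩⁆ : ↥E) : G)⁻¹ := by
      simp [commutatorElement_def, mul_assoc]
    rw [e1, hw.2, hcw, mul_inv_cancel_right]
    simp [mul_assoc]
  have hsplit : WE ≤ D ⊔ ZE := by
    intro w hw
    rw [hpow w hw]
    refine pow_mem ?_ _
    have hew : (e : G) * w * (e : G)⁻¹ ∈ WE := conj_mem_WE (Subgroup.le_normalizer e.2) hw
    have hee : (e : G) * ((e : G) * w * (e : G)⁻¹) * (e : G)⁻¹ = w := by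
      have h2 : (e : G) * (e : G) = 1 := by
        rw [← hg4]; show ((g : G) * g) * ((g : G) * g) = _
        rw [pow_succ, pow_succ, pow_two, mul_assoc, mul_assoc]
        simp [mul_assoc]
      rw [show (e : G) * ((e : G) * w * (e : G)⁻¹) * (e : G)⁻¹ = ((e : G) * e) * w * ((e : G) * e)⁻¹ by
        simp [mul_assoc], h2, one_mul, inv_one, mul_one]
    have m1 : w * ((e : G) * w * (e : G)⁻¹)⁻¹ ∈ D := by
      refine ⟨mul_mem hw (inv_mem hew), ?_⟩
      rw [show (e : G) * (w * ((e : G) * w * (e : G)⁻¹)⁻¹) * (e : G)⁻¹ =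
        ((e : G) * w * (e : G)⁻¹) * ((e : G) * ((e : G) * w * (e : G)⁻¹) * (e : G)⁻¹)⁻¹ by simp [mul_assoc],
        hee, mul_inv_rev, inv_inv]
    have m2 : w * ((e : G) * w * (e : G)⁻¹) ∈ ZE := by
      have hu : w * ((e : G) * w * (e : G)⁻¹) ∈ WE := mul_mem hw hew
      refine (ρ.coord_eq_zero (u := ⟨_, hu⟩)).mp ?_
      rw [show (⟨_, hu⟩ : ↥WE) = ⟨w, hw⟩ * ⟨_, hew⟩ from rfl, Rep.coord_mul,
        ← ρ.act_coord ⟨e, Subgroup.le_normalizer e.2⟩ ⟨w, hw⟩]
      show ρ.coord ⟨w, hw⟩ + ρ.onBlock e (ρ.coord ⟨w, hw⟩) = 0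
      rw [hneg, add_neg_cancel]
    have h := mul_mem (Subgroup.mem_sup_left (T := ZE) m1) (Subgroup.mem_sup_right (S := D) m2)
    convert h using 1
    rw [mul_assoc w, hcomm _ (inv_mem hew) _ (mul_mem hw hew)]
    simp [mul_assoc]
  refine eq_bot_iff.mpr fun x hx => ?_
  have hxD : x ∈ D := by
    refine (le_trans ?_ (le_normalizer_iff_commutator_le_left.mp hDn)) hx.1
    refine commutator_le.mpr fun w hw y hy => ?_
    obtain ⟨d, hd, z, hz, rfl⟩ : ∃ d ∈ D, ∃ z ∈ ZE, d * z = w := by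
      have hn : D ≤ normalizer ((ZE : Subgroup G) : Set G) := fun d hd => centralizer_le_normalizer _
        fun z hz => hcomm _ hz.1 _ hd.1
      have h := hsplit hw
      rw [← SetLike.mem_coe, Subgroup.coe_mul_of_left_le_normalizer_right _ _ hn] at h
      exact h
    rw [show ⁅d * z, y⁆ = ⁅d, y⁆ by
      rw [commutatorElement_def, commutatorElement_def, mul_assoc d z y, ← mem_centralizer_iff.mp hz.2 y hy]
      simp [mul_assoc]]
    exact commutator_mem_commutator hd hy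
  rw [mem_bot, hpow x hxD.1]
  have h1 : x = x⁻¹ := by
    rw [← hxD.2, mem_centralizer_iff.mp hx.2 e e.2, mul_inv_cancel_right]
  rw [show x * x = 1 by nth_rewrite 2 [h1]; rw [mul_inv_cancel], one_pow]

end Cfsg.Agent.PLocal.Blocks
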