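import Cfsg.Agent.Lib.PLocal.Blocks.Split

/-!
A conjugate of a block acting on a family of commuting conjugates fixes each of them.
-/

set_option linter.all false
set_option autoImplicit false

namespace Cfsg.Agent.PLocal.Blocks

open Subgroup Cfsg
open scoped commutatorElement MatrixGroups

variable {G : Type*} [Group G] [Finite G] {p : ℕ} [Fact p.Prime] {E : Subgroup G} {T : Sylow p G}

local notation "WE" => omegaOneCenter p (pCoreOf p E)
local notation "NE" => Subgroup.normalizer (E : Set G)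
local notation "WC" => ⁅omegaOneCenter p (pCoreOf p E), E⁆
local notation "UR" => omegaOneCenter p (pCore p G)

theorem WC_le_block (E : Subgroup G) :
    (⁅omegaOneCenter p (pCoreOf p E), E⁆ : Subgroup G) ≤ E :=
  commutator_WE_le.trans ((BlockModule.omegaCenter_le _).trans (CharP.pCoreOf_le p E))

theorem cj_WC (g : G) (E : Subgroup G) :
    cj g ⁅omegaOneCenter p (pCoreOf p E), E⁆ = ⁅omegaOneCenter p (pCoreOf p (cj g E)), cj g E⁆ := by
  rw [cj_commutator, cj_omegaOneCenter, show pCoreOf p (cj g E) = cj g (pCoreOf p E) from CharP.pCoreOf_conj g E]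

theorem cj_split (g : G) (E : Subgroup G) :
    cj g (⁅omegaOneCenter p (pCoreOf p E), E⁆ ⊓ centralizer (E : Set G)) =
      ⁅omegaOneCenter p (pCoreOf p (cj g E)), cj g E⁆ ⊓ centralizer ((cj g E : Subgroup G) : Set G) := by
  rw [cj_inf, cj_WC, cj_centralizer]

theorem comm_eq (u a : G) : ⁅u, a⁆ = u * (a * u⁻¹ * a⁻¹) := by simp [commutatorElement_def, mul_assoc]

theorem not_WC_le_centralizer (hE : IsBaumannBlock p (T : Subgroup G) E) :
    ¬ (WC : Subgroup G) ≤ centralizer (E : Set G) := fun h =>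
  BlockModule.not_le_core hE ((inf_centralizer_eq_core hE).le.trans' (le_inf le_rfl (le_centralizer_iff.mp h)))

theorem one_lt_relIndex (hE : IsBaumannBlock p (T : Subgroup G) E) :
    1 < (centralizer (E : Set G)).relIndex WC := by
  have h1 : (centralizer (E : Set G)).relIndex WC ≠ 0 := Subgroup.index_ne_zero_of_finite
  have h2 : (centralizer (E : Set G)).relIndex WC ≠ 1 := fun h =>
    not_WC_le_centralizer hE (relIndex_eq_one.mp h)
  omega

theorem cj_relIndex (g : G) (E : Subgroup G) :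
    (centralizer ((cj g E : Subgroup G) : Set G)).relIndex ⁅omegaOneCenter p (pCoreOf p (cj g E)), cj g E⁆ =
      (centralizer (E : Set G)).relIndex ⁅omegaOneCenter p (pCoreOf p E), E⁆ := by
  rw [← cj_centralizer, ← cj_WC]
  exact relIndex_map_map_of_injective _ _ (MulAut.conj g).injective

theorem alt_comm : ∀ k : ℕ, k ≤ 3 → ∀ a b : Equiv.Perm (Fin k),
    Equiv.Perm.sign a = 1 → Equiv.Perm.sign b = 1 → a * b = b * a := by
  intro k hk
  interval_cases k <;> decide

/-- Two independent translates of the module inject into the module of the acting block. -/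
theorem double_false (hG : centralizer (pCore p G : Set G) ≤ pCore p G)
    (hE : IsBaumannBlock p (T : Subgroup G) E) (x : G) {f f' : G} (hf : f ∈ cj x E) (hf' : f' ∈ cj x E)
    (hc : ∀ a ∈ cj x E, ∀ b ∈ cj x E, cj a E ≠ cj b E → cj a E ≤ centralizer ((cj b E : Subgroup G) : Set G))
    (h1 : cj f E ≠ E) (h2 : cj f' E ≠ E) (h3 : cj f E ≠ cj f' E)
    (hx : ∀ u ∈ (WC : Subgroup G), ∀ u' ∈ (WC : Subgroup G),
      ⁅u, f⁆ * ⁅u', f'⁆ ∈ centralizer ((cj x E : Subgroup G) : Set G) →
      ⁅u, f⁆ * ⁅u', f'⁆ ∈ centralizer ((cj f E : Subgroup G) : Set G) ⊓ centralizer ((cj f' E : Subgroup G) : Set G)) :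
    False := by
  have hF : IsBaumannBlock p ((x • T : Sylow p G) : Subgroup G) (cj x E) := block_cj hE x
  set F := cj x E with hFdef
  set W₀ := (WC : Subgroup G)
  set C := centralizer (E : Set G)
  set V := (⁅omegaOneCenter p (pCoreOf p F), F⁆ : Subgroup G)
  have hUn : ∀ (g : G) {u : G}, u ∈ UR → g * u * g⁻¹ ∈ UR := fun g u hu => by
    have := BlockModule.le_normalizer_omegaCenter (p := p) (pCore p G)
      (show g ∈ normalizer (pCore p G : Set G) by rw [normalizer_eq_top]; exact mem_top g)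
    exact (mem_normalizer_iff.mp this u).mp hu
  have hcomm : ∀ a ∈ UR, ∀ b ∈ UR, a * b = b * a := fun a ha b hb => BlockLocation.omegaCenter_comm _ ha hb
  have hW : W₀ ≤ UR := WC_le_omega hG hE
  have hV : ∀ u ∈ W₀, ∀ a ∈ F, ⁅u, a⁆ ∈ V := fun u hu a ha =>
    commutator_omega_le hG hF (commutator_mem_commutator (hW hu) ha)
  have hhom : ∀ u ∈ W₀, ∀ u' ∈ W₀, ∀ a : G, ⁅u * u', a⁆ = ⁅u, a⁆ * ⁅u', a⁆ := fun u hu u' hu' a => by
    have h : ⁅u', a⁆ ∈ UR := by
      rw [comm_eq]
      exact mul_mem (hW hu') (hUn a (inv_mem (hW hu')))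
    have h' : ⁅u, a⁆ ∈ UR := by
      rw [comm_eq]
      exact mul_mem (hW hu) (hUn a (inv_mem (hW hu)))
    rw [commutatorElement_mul_left_eq_conj_mul, hcomm _ (hW hu) _ h, mul_inv_cancel_right, hcomm _ h _ h']
  let φ : ↥W₀ × ↥W₀ →* ↥V :=
    { toFun := fun q => ⟨⁅(q.1 : G), f⁆ * ⁅(q.2 : G), f'⁆, mul_mem (hV _ q.1.2 _ hf) (hV _ q.2.2 _ hf')⟩
      map_one' := Subtype.ext (by simp)
      map_mul' := fun q r => Subtype.ext (by
        show ⁅(q.1 : G) * r.1, f⁆ * ⁅(q.2 : G) * r.2, f'⁆ = _
        rw [hhom _ q.1.2 _ r.1.2, hhom _ q.2.2 _ r.2.2]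
        show _ = ⁅(q.1 : G), f⁆ * ⁅(q.2 : G), f'⁆ * (⁅(r.1 : G), f⁆ * ⁅(r.2 : G), f'⁆)
        have hu : ∀ w : ↥V, (w : G) ∈ UR := fun w => WC_le_omega hG hF w.2
        rw [mul_assoc, ← mul_assoc ⁅(r.1 : G), f⁆, hcomm _ (hu ⟨_, hV _ r.1.2 _ hf⟩) _ (hu ⟨_, hV _ q.2.2 _ hf'⟩)]
        simp [mul_assoc]) }
  have hker : ((centralizer (F : Set G)).subgroupOf V).comap φ ≤
      ((C.subgroupOf W₀).prod (C.subgroupOf W₀)) := by
    rintro ⟨⟨u, hu⟩, ⟨u', hu'⟩⟩ hq
    have hxc := hx u hu u' hu' hq
    have key : ∀ {u u' f f' : G}, u ∈ W₀ → u' ∈ W₀ → f ∈ F → f' ∈ F → cj f E ≠ E → cj f E ≠ cj f' E →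
        ⁅u, f⁆ * ⁅u', f'⁆ ∈ centralizer ((cj f E : Subgroup G) : Set G) → u ∈ C := by
      intro u u' f f' hu hu' hf hf' h1 h3 hxf
      have hEc : E ≤ centralizer ((cj f E : Subgroup G) : Set G) := by
        have := hc 1 (one_mem _) f hf (by rw [cj_one]; exact Ne.symm h1)
        rwa [cj_one] at this
      have hf'c : cj f' E ≤ centralizer ((cj f E : Subgroup G) : Set G) := hc f' hf' f hf (Ne.symm h3)
      set K := centralizer ((cj f E : Subgroup G) : Set G)
      have ha : u ∈ K := hEc (WC_le_block E hu)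
      have hb : ⁅u', f'⁆ ∈ K := by
        rw [comm_eq]
        exact mul_mem (hEc (WC_le_block E hu')) (hf'c (conj_mem_cj (inv_mem (WC_le_block E hu'))))
      have h : f * u⁻¹ * f⁻¹ ∈ K := by
        have := mul_mem (mul_mem (inv_mem ha) hxf) (inv_mem hb)
        simpa [commutatorElement_def, mul_assoc] using this
      have h' : f * u⁻¹ * f⁻¹ ∈ cj f C := by rw [cj_centralizer]; exact h
      rw [mem_cj_iff] at h'
      simpa [mul_assoc] using inv_mem h'
    refine ⟨key hu hu' hf hf' h1 h3 hxc.1, key (u := u') (u' := u) hu' hu hf' hf h2 (Ne.symm h3) ?_⟩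
    rw [hcomm _ (WC_le_omega hG hF (hV _ hu' _ hf')) _ (WC_le_omega hG hF (hV _ hu _ hf))]
    exact hxc.2
  have h4 : (((centralizer (F : Set G)).subgroupOf V).comap φ).index ≤ (centralizer (F : Set G)).relIndex V := by
    rw [index_comap]
    calc ((centralizer (F : Set G)).subgroupOf V).relIndex φ.range
        ≤ ((centralizer (F : Set G)).subgroupOf V).relIndex ⊤ :=
          relIndex_le_of_le_right le_top (by rw [relIndex_top_right]; exact index_ne_zero_of_finite)
      _ = _ := relIndex_top_right _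
  have h5 := Nat.le_of_dvd (Nat.pos_of_ne_zero index_ne_zero_of_finite) (index_dvd_of_le hker)
  rw [index_prod] at h5
  have hm : (centralizer (F : Set G)).relIndex V = C.relIndex W₀ := cj_relIndex x E
  have hm1 : 1 < C.relIndex W₀ := one_lt_relIndex hE
  have h7 : C.relIndex W₀ * C.relIndex W₀ ≤ C.relIndex W₀ := h5.trans (h4.trans hm.le)
  exact absurd h7 (not_le.mpr (lt_mul_of_one_lt_right (by omega) hm1))

/-- A conjugate of a block acting on pairwise commuting conjugates of the block normalizes it. -/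
theorem family_fix (hG : centralizer (pCore p G : Set G) ≤ pCore p G)
    (hE : IsBaumannBlock p (T : Subgroup G) E) (x : G)
    (hfam : ∀ f ∈ cj x E, cj f E = E ∨ ⁅cj f E, E⁆ = ⊥) : cj x E ≤ NE := by
  have hF : IsBaumannBlock p ((x • T : Sylow p G) : Subgroup G) (cj x E) := block_cj hE x
  have hsplitF := cj_split (p := p) x E
  set F := cj x E with hFdef
  have hc : ∀ a ∈ F, ∀ b ∈ F, cj a E ≠ cj b E → cj a E ≤ centralizer ((cj b E : Subgroup G) : Set G) := by
    intro a ha b hb hne
    rcases hfam _ (mul_mem (inv_mem hb) ha) with h | h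
    · exact absurd (cj_eq_cj.mpr (cj_eq_self.mp h)) hne
    · have h' := congrArg (cj b) h
      rw [cj_commutator, cj_cj, mul_inv_cancel_left, cj_bot] at h'
      exact commutator_eq_bot_iff_le_centralizer.mp h'
  by_contra hnot
  obtain ⟨f, hf, hfN⟩ := SetLike.not_le_iff_exists.mp hnot
  have h1 : cj f E ≠ E := fun h => hfN (cj_eq_self.mp h)
  rcases inf_or_perfect hE with hZ | ⟨-, hperf, -⟩
  · -- the module meets the centralizer trivially
    have hZF : (⁅omegaOneCenter p (pCoreOf p F), F⁆ : Subgroup G) ⊓ centralizer (F : Set G) = ⊥ := by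
      rw [← hsplitF, hZ, cj_bot]
    by_cases hthree : ∃ f' ∈ F, cj f' E ≠ E ∧ cj f E ≠ cj f' E
    · obtain ⟨f', hf', h2, h3⟩ := hthree
      refine double_false hG hE x hf hf' hc h1 h2 h3 fun u hu u' hu' hxC => ?_
      have hmem : ⁅u, f⁆ * ⁅u', f'⁆ ∈ (⊥ : Subgroup G) := by
        rw [← hZF]
        exact ⟨mul_mem (commutator_omega_le hG hF (commutator_mem_commutator (WC_le_omega hG hE hu) hf))
          (commutator_omega_le hG hF (commutator_mem_commutator (WC_le_omega hG hE hu') hf')), hxC⟩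
      rw [mem_bot.mp hmem]
      exact one_mem _
    push Not at hthree
    have htwo : ∀ a ∈ F, cj a E = E ∨ cj a E = cj f E := fun a ha => by
      by_cases h : cj a E = E
      · exact Or.inl h
      · exact Or.inr (hthree a ha h).symm
    have hsq : ∀ a ∈ F, a * a ∈ NE := by
      intro a ha
      rw [← cj_eq_self, ← cj_cj]
      rcases htwo a ha with h | h
      · rw [h, h]
      · rw [h]
        rcases htwo (a * f) (mul_mem ha hf) with h' | h' <;> rw [← cj_cj] at h'
        · exact h'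
        · exact absurd (cj_injective a (h'.trans h.symm)) h1
    by_cases hp : p = 2
    · refine hfN (le_of_coprime_mem (BlockBasic.resOf_eq hF) (fun a ha hcop => ?_) hf)
      subst hp
      obtain ⟨k, hk⟩ := exists_pow_eq_self_of_coprime (n := 2) (x := a) hcop.symm
      rw [← hk, pow_two]
      exact pow_mem (hsq a ha) k
    rcases block_cases hF with ⟨K, iK, iKt, iC, n, ρ, -, hρ, -⟩ | ⟨h2, -⟩
    swap
    · exact hp h2
    obtain ⟨g, -, -, hneg⟩ := ρ.exists_wl hF hp hρ
    set V := (⁅omegaOneCenter p (pCoreOf p F), F⁆ : Subgroup G)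
    have hUn : ∀ (g : G) {u : G}, u ∈ UR → g * u * g⁻¹ ∈ UR := fun g u hu => by
      have := BlockModule.le_normalizer_omegaCenter (p := p) (pCore p G)
        (show g ∈ normalizer (pCore p G : Set G) by rw [normalizer_eq_top]; exact mem_top g)
      exact (mem_normalizer_iff.mp this u).mp hu
    have hcomm : ∀ a ∈ UR, ∀ b ∈ UR, a * b = b * a := fun a ha b hb => BlockLocation.omegaCenter_comm _ ha hb
    have hW : (WC : Subgroup G) ≤ UR := WC_le_omega hG hE
    have hEc : E ≤ centralizer ((cj f E : Subgroup G) : Set G) := by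
      have := hc 1 (one_mem _) f hf (by rw [cj_one]; exact Ne.symm h1)
      rwa [cj_one] at this
    have hVi : ∀ u ∈ (WC : Subgroup G), ⁅u, f⁆ ∈ V := fun u hu =>
      commutator_omega_le hG hF (commutator_mem_commutator (hW hu) hf)
    let φ : ↥(WC : Subgroup G) →* ↥V :=
      { toFun := fun u => ⟨⁅(u : G), f⁆, hVi u u.2⟩
        map_one' := Subtype.ext (by simp)
        map_mul' := fun u v => Subtype.ext (by
          show ⁅(u : G) * v, f⁆ = ⁅(u : G), f⁆ * ⁅(v : G), f⁆
          have hu := WC_le_omega hG hF (hVi u u.2)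
          have hv := WC_le_omega hG hF (hVi v v.2)
          rw [commutatorElement_mul_left_eq_conj_mul, hcomm _ (hW u.2) _ hv, mul_inv_cancel_right,
            hcomm _ hv _ hu]) }
    have hdisj : ∀ u ∈ (WC : Subgroup G), f * u * f⁻¹ ∈ (WC : Subgroup G) → u = 1 := by
      intro u hu hfu
      have h' : f * u * f⁻¹ ∈ cj f (centralizer (E : Set G)) := by
        rw [cj_centralizer]; exact hEc (WC_le_block E hfu)
      rw [mem_cj_iff] at h'
      have hmem : u ∈ (⊥ : Subgroup G) := hZ ▸ ⟨hu, by simpa [mul_assoc] using h'⟩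
      exact mem_bot.mp hmem
    have hφ : Function.Injective φ := (injective_iff_map_eq_one φ).mpr fun u hu => Subtype.ext (by
      have h : ⁅(u : G), f⁆ = 1 := congrArg Subtype.val hu
      refine inv_eq_one.mp (hdisj _ (inv_mem u.2) ?_)
      have h' : f * (u : G)⁻¹ * f⁻¹ = (u : G)⁻¹ := eq_inv_of_mul_eq_one_right
        (by rw [← h]; simp [commutatorElement_def, mul_assoc])
      rw [h']
      exact inv_mem u.2)
    have hφs : Function.Surjective φ := (Function.Injective.bijective_of_nat_card_le hφ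
      (by rw [show V = cj x (WC : Subgroup G) from (cj_WC x E).symm, card_cj])).2
    have hfix : ∀ b ∈ F, b ∈ NE → ∀ u ∈ (WC : Subgroup G), b * u * b⁻¹ = u := by
      intro b hb hbN u hu
      have hy : ⁅b, u⁆ ∈ (WC : Subgroup G) := by
        rw [commutatorElement_def]
        refine mul_mem ?_ (inv_mem hu)
        have hbW : b ∈ normalizer ((WC : Subgroup G) : Set G) := by
          rw [← cj_eq_self, cj_WC, cj_eq_self.mpr hbN]
        exact (mem_normalizer_iff.mp hbW u).mp hu
      have hy' : ⁅b, u⁆ ∈ V := by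
        rw [← commutatorElement_inv]
        exact inv_mem (commutator_omega_le hG hF (commutator_mem_commutator (hW hu) hb))
      obtain ⟨⟨v, hv⟩, hv'⟩ := hφs ⟨_, hy'⟩
      have hvy : ⁅v, f⁆ = ⁅b, u⁆ := congrArg Subtype.val hv'
      have : v⁻¹ = 1 := hdisj _ (inv_mem hv) (by
        rw [show f * v⁻¹ * f⁻¹ = v⁻¹ * ⁅v, f⁆ by simp [commutatorElement_def, mul_assoc], hvy]
        exact mul_mem (inv_mem hv) hy)
      rw [inv_eq_one.mp this, commutatorElement_one_left] at hvy
      rw [commutatorElement_def] at hvy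
      exact mul_inv_eq_one.mp hvy.symm
    have hk : ((g * g : ↥F) : G) ∈ centralizer (V : Set G) := by
      intro v hv
      obtain ⟨⟨u, hu⟩, hu'⟩ := hφs ⟨v, hv⟩
      have huv : ⁅u, f⁆ = v := congrArg Subtype.val hu'
      set k := ((g * g : ↥F) : G)
      have hkN : k ∈ NE := hsq _ g.2
      have hkf : f⁻¹ * k * f ∈ NE := by
        rw [← cj_eq_self, ← cj_cj, ← cj_cj]
        have hswap : cj k (cj f E) = cj f E := by
          rcases htwo (k * f) (mul_mem (g * g : ↥F).2 hf) with h | h
          · rw [← cj_cj] at h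
            exact absurd (cj_injective k (h.trans (cj_eq_self.mpr hkN).symm)) h1
          · rwa [← cj_cj] at h
        rw [hswap, cj_cj, inv_mul_cancel, cj_one]
      have e1 := hfix k (g * g : ↥F).2 hkN u hu
      have e2 := hfix _ (mul_mem (mul_mem (inv_mem hf) (g * g : ↥F).2) hf) hkf u⁻¹ (inv_mem hu)
      have e3 : k * (f * u⁻¹ * f⁻¹) * k⁻¹ = f * u⁻¹ * f⁻¹ := by
        calc k * (f * u⁻¹ * f⁻¹) * k⁻¹ = f * (f⁻¹ * k * f * u⁻¹ * (f⁻¹ * k * f)⁻¹) * f⁻¹ := by
              simp [mul_assoc]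
          _ = _ := by rw [e2]
      refine (mul_inv_eq_iff_eq_mul.mp ?_).symm
      calc k * v * k⁻¹ = (k * u * k⁻¹) * (k * (f * u⁻¹ * f⁻¹) * k⁻¹) := by
            rw [← huv]; simp [commutatorElement_def, mul_assoc]
        _ = u * (f * u⁻¹ * f⁻¹) := by rw [e1, e3]
        _ = v := by rw [← huv]; simp [commutatorElement_def, mul_assoc]
    have hk' := (ρ.act_eq_one_iff hF ⟨_, Subgroup.le_normalizer (g * g : ↥F).2⟩).mpr hk
    have h10 := hneg ![1, 0]
    rw [Rep.onBlock_apply, hk', Equiv.Perm.one_apply] at h10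
    have h11 : (1 : K) = -1 := by simpa using congr_fun h10 0
    refine hp ((Nat.prime_dvd_prime_iff_eq Fact.out Nat.prime_two).mp ((CharP.cast_eq_zero_iff K p 2).mp ?_))
    push_cast
    linear_combination h11
  · -- perfect blocks
    have hperfF : ⁅F, F⁆ = F := by rw [hFdef, ← cj_commutator, hperf]
    by_cases hthree : ∃ f' ∈ F, ∃ h ∈ F, cj f' E ≠ E ∧ cj f E ≠ cj f' E ∧
        cj h E ≠ E ∧ cj h E ≠ cj f E ∧ cj h E ≠ cj f' E
    · obtain ⟨f', hf', h, hh, h2, h3, h4, h5, h6⟩ := hthree
      refine double_false hG hE x hf hf' hc h1 h2 h3 fun u hu u' hu' hxC => ?_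
      have key : ∀ d ∈ F, cj d E ≠ cj h E → cj h E ≠ E →
          cj h E ≠ cj f E → cj h E ≠ cj f' E →
          ⁅u, f⁆ * ⁅u', f'⁆ ∈ centralizer ((cj d E : Subgroup G) : Set G) := by
        intro d hd _ n1 n2 n3
        set g := d * h⁻¹
        have hg : g ∈ F := mul_mem hd (inv_mem hh)
        have hgh : cj g (cj h E) = cj d E := by rw [cj_cj, inv_mul_cancel_right]
        have hne : ∀ a ∈ F, cj h E ≠ cj a E → cj (g * a) E ≤ centralizer ((cj d E : Subgroup G) : Set G) :=
          fun a ha n => hc _ (mul_mem hg ha) _ hd fun e => n (cj_injective g (by rw [hgh, cj_cj, e]))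
        have hmem : ∀ a ∈ F, cj h E ≠ cj a E → ∀ w ∈ E,
            g * (a * w * a⁻¹) * g⁻¹ ∈ centralizer ((cj d E : Subgroup G) : Set G) := fun a ha n w hw =>
          hne a ha n ⟨w, hw, by simp [mul_assoc]⟩
        have n1' : cj h E ≠ cj 1 E := by rw [cj_one]; exact n1
        have m1 : ∀ w ∈ E, g * w * g⁻¹ ∈ centralizer ((cj d E : Subgroup G) : Set G) := fun w hw => by
          have := hmem 1 (one_mem _) n1' w hw
          simpa using this
        have hxg : g * (⁅u, f⁆ * ⁅u', f'⁆) * g⁻¹ = ⁅u, f⁆ * ⁅u', f'⁆ := by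
          rw [mem_centralizer_iff.mp hxC g hg, mul_inv_cancel_right]
        rw [← hxg, show g * (⁅u, f⁆ * ⁅u', f'⁆) * g⁻¹ = (g * u * g⁻¹) * (g * (f * u⁻¹ * f⁻¹) * g⁻¹) *
          ((g * u' * g⁻¹) * (g * (f' * u'⁻¹ * f'⁻¹) * g⁻¹)) by simp [commutatorElement_def, mul_assoc]]
        exact mul_mem (mul_mem (m1 u (WC_le_block E hu)) (hmem f hf n2 _ (inv_mem (WC_le_block E hu))))
          (mul_mem (m1 u' (WC_le_block E hu')) (hmem f' hf' n3 _ (inv_mem (WC_le_block E hu'))))
      exact ⟨key f hf (Ne.symm h5) h4 h5 h6, key f' hf' (Ne.symm h6) h4 h5 h6⟩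
    -- at most three conjugates
    classical
    let Ω : Set (Subgroup G) := (fun a => cj a E) '' (F : Set G)
    let θ : ↥F →* Equiv.Perm Ω :=
      { toFun := fun a =>
          { toFun := fun X => ⟨cj (a : G) X, by
              obtain ⟨_, b, hb, rfl⟩ := X
              exact ⟨(a : G) * b, mul_mem a.2 hb, (cj_cj _ _ _).symm⟩⟩
            invFun := fun X => ⟨cj (a : G)⁻¹ X, by
              obtain ⟨_, b, hb, rfl⟩ := X
              exact ⟨(a : G)⁻¹ * b, mul_mem (inv_mem a.2) hb, (cj_cj _ _ _).symm⟩⟩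
            left_inv := fun X => Subtype.ext (by
              show cj (a : G)⁻¹ (cj (a : G) X) = X
              rw [cj_cj, inv_mul_cancel, cj_one])
            right_inv := fun X => Subtype.ext (by
              show cj (a : G) (cj (a : G)⁻¹ X) = X
              rw [cj_cj, mul_inv_cancel, cj_one]) }
        map_one' := Equiv.ext fun X => Subtype.ext (cj_one _)
        map_mul' := fun a b => Equiv.ext fun X => Subtype.ext (cj_cj _ _ _).symm }
    have hcard : Nat.card Ω ≤ 3 := by
      by_cases hex : ∃ f' ∈ F, cj f' E ≠ E ∧ cj f E ≠ cj f' E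
      · obtain ⟨f', hf', h2, h3⟩ := hex
        have hsub : Ω ⊆ {E, cj f E, cj f' E} := by
          rintro _ ⟨h, hh, rfl⟩
          by_contra hn
          simp only [Set.mem_insert_iff, Set.mem_singleton_iff, not_or] at hn
          exact hthree ⟨f', hf', h, hh, h2, h3, hn.1, hn.2.1, hn.2.2⟩
        rw [Nat.card_coe_set_eq]
        refine (Set.ncard_le_ncard hsub (Set.toFinite _)).trans ((Set.ncard_insert_le _ _).trans ?_)
        have := Set.ncard_insert_le (cj f E) ({cj f' E} : Set (Subgroup G))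
        rw [Set.ncard_singleton] at this
        omega
      · push Not at hex
        have hsub : Ω ⊆ {E, cj f E} := by
          rintro _ ⟨h, hh, rfl⟩
          by_cases he : cj h E = E
          · exact Set.mem_insert_iff.mpr (Or.inl he)
          · exact Set.mem_insert_iff.mpr (Or.inr (hex h hh he).symm)
        rw [Nat.card_coe_set_eq]
        refine (Set.ncard_le_ncard hsub (Set.toFinite _)).trans ((Set.ncard_insert_le _ _).trans ?_)
        rw [Set.ncard_singleton]; omega
    haveI : Fintype Ω := Fintype.ofFinite _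
    let e : Ω ≃ Fin (Fintype.card Ω) := Fintype.equivFin _
    rw [Nat.card_eq_fintype_card] at hcard
    let θ' : ↥F →* Equiv.Perm (Fin (Fintype.card Ω)) := e.permCongrHom.toMonoidHom.comp θ
    have htop : commutator ↥F = ⊤ := by
      refine map_injective F.subtype_injective ?_
      rw [map_subtype_commutator, hperfF, ← MonoidHom.range_eq_map, Subgroup.range_subtype]
    have hsign : ∀ a, Equiv.Perm.sign (θ' a) = 1 := fun a =>
      Abelianization.commutator_subset_ker (Equiv.Perm.sign.comp θ') (htop ▸ mem_top a)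
    have hθ : θ' ⟨f, hf⟩ = 1 := by
      have : (⊤ : Subgroup ↥F) ≤ θ'.ker := by
        rw [← htop, _root_.commutator_def, commutator_le]
        intro a _ b _
        rw [MonoidHom.mem_ker, map_commutatorElement, commutatorElement_eq_one_iff_mul_comm]
        exact alt_comm _ hcard _ _ (hsign a) (hsign b)
      exact this (mem_top _)
    have hθ1 : θ ⟨f, hf⟩ = 1 := e.permCongrHom.injective (hθ.trans (map_one _).symm)
    have hE1 : E ∈ Ω := ⟨1, one_mem _, cj_one E⟩
    exact h1 (congrArg Subtype.val (Equiv.congr_fun hθ1 ⟨E, hE1⟩))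

end Cfsg.Agent.PLocal.Blocks
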