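import Cfsg.Agent.Lib.PLocal.Blocks.Stab

/-!
Involutions modulo a normal subgroup of odd order.
-/

set_option linter.all false
set_option autoImplicit false

namespace Cfsg.Agent.PLocal.Blocks

open Subgroup
open scoped commutatorElement

variable {G : Type*} [Group G] [Finite G]

/-- Involutions in one coset of a subgroup of odd order are conjugate under it. -/
theorem exists_conj_eq_of_involutions {R : Subgroup G} (hR : Odd (Nat.card R)) {x y : G}
    (hx : x * x = 1) (hy : y * y = 1) (h : x * y ∈ R) :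
    ∃ r ∈ R, r * x * r⁻¹ = y := by
  set s := x * y with hs
  obtain ⟨j, hj⟩ := hR.of_dvd_nat (R.orderOf_dvd_natCard h)
  have hxi : x⁻¹ = x := inv_eq_of_mul_eq_one_right hx
  have hyi : y⁻¹ = y := inv_eq_of_mul_eq_one_right hy
  have hinv : x * s * x⁻¹ = s⁻¹ := by
    rw [hs, mul_inv_rev, hxi, hyi, ← mul_assoc, hx, one_mul]
  have hinvk : ∀ k : ℕ, x * s ^ k * x⁻¹ = (s ^ k)⁻¹ := fun k => by
    rw [← conj_pow, hinv, inv_pow]
  refine ⟨(s ^ (j + 1))⁻¹, inv_mem (pow_mem h _), ?_⟩
  have h2 : s ^ (j + 1) * s ^ (j + 1) = s := by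
    rw [← pow_add, show j + 1 + (j + 1) = (2 * j + 1) + 1 by ring, pow_succ, ← hj, pow_orderOf_eq_one, one_mul]
  rw [inv_inv]
  have e : (s ^ (j + 1))⁻¹ * x = x * s ^ (j + 1) := by
    rw [← hinvk]; simp [mul_assoc]
  rw [e, mul_assoc, h2, hs, ← mul_assoc, hx, one_mul]

/-- An involution commuting with another one modulo `R` has an `R`-conjugate commuting with it. -/
theorem exists_conj_commute {R : Subgroup G} (hR : Odd (Nat.card R)) {e f : G} (he : e * e = 1)
    (hf : f * f = 1) (heR : e ∈ normalizer (R : Set G)) (hfR : f ∈ normalizer (R : Set G))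
    (h : ⁅e, f⁆ ∈ R) : ∃ r ∈ R, Commute e (r * f * r⁻¹) := by
  have hcop : (Nat.card (zpowers e)).Coprime (Nat.card R) := by
    rw [Nat.card_zpowers]
    exact Nat.Coprime.coprime_dvd_left (orderOf_dvd_of_pow_eq_one (by rw [pow_two, he]))
      (Nat.coprime_two_left.mpr hR)
  obtain ⟨n, hn, hxn⟩ := Cfsg.Agent.Coprime.exists_fixed_in_coset (A := zpowers e) (N := R)
    (zpowers_le.mpr heR) hcop (.inl (solvable_zpowers e)) (k := f) fun a ha => by
      obtain ⟨i, rfl⟩ := mem_powers_iff_mem_zpowers.mpr ha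
      show f⁻¹ * (e ^ i * f * (e ^ i)⁻¹) ∈ R
      rcases Nat.even_or_odd' i with ⟨j, rfl | rfl⟩
      · rw [pow_mul, pow_two, he, one_pow]; simp [one_mem R]
      · rw [pow_succ, pow_mul, pow_two, he, one_pow, one_mul]
        have := (mem_normalizer_iff''.mp hfR _).mp h
        convert this using 1
        simp [commutatorElement_def, mul_assoc]
  set x := f * n with hx
  have hxx : x * x ∈ R := by
    rw [hx, show f * n * (f * n) = (f * n * f⁻¹) * (f * f) * n by simp [mul_assoc], hf, mul_one]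
    exact mul_mem ((mem_normalizer_iff.mp hfR n).mp hn) hn
  obtain ⟨j, hj⟩ := hR.of_dvd_nat (R.orderOf_dvd_natCard hxx)
  set y := x * (x * x) ^ j with hy
  have hyy : y * y = 1 := by
    have hcomm : Commute x ((x * x) ^ j) := ((Commute.refl x).mul_right (Commute.refl x)).pow_right j
    calc y * y = (x * x) * ((x * x) ^ j * (x * x) ^ j) := by
          rw [hy]; exact hcomm.symm.mul_mul_mul_comm x _
      _ = (x * x) ^ (2 * j + 1) := by rw [← pow_add, ← pow_succ', two_mul]
      _ = 1 := by rw [← hj, pow_orderOf_eq_one]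
  have hfy : f * y ∈ R := by
    rw [hy, hx, ← mul_assoc, ← mul_assoc, hf, one_mul]
    exact mul_mem hn (pow_mem hxx j)
  obtain ⟨r, hr, hry⟩ := exists_conj_eq_of_involutions hR hf hyy hfy
  refine ⟨r, hr, ?_⟩
  rw [hry]
  have hc : Commute e x := mem_centralizer_iff.mp hxn e (mem_zpowers e)
  exact hc.mul_right ((hc.mul_right hc).pow_right j)

end Cfsg.Agent.PLocal.Blocks
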