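import Cfsg.Agent.Lib.CharP.Coprime
import Cfsg.Agent.Lib.CharP.SubnormalResidual
import Cfsg.Agent.Lib.CharP.CharP
import Cfsg.Agent.Lib.Coprime.Commutator
import Cfsg.Agent.Lib.PLocal.WeakClosureSplit

/-!
Generic facts on groups equal to their `p`-residual acting on `p`-groups, and on stability groups.
-/

set_option linter.all false
set_option autoImplicit false

namespace Cfsg.Agent.PLocal.Blocks

open Subgroup Cfsg
open scoped commutatorElement

variable {G : Type*} [Group G] [Finite G] {p : ℕ} [Fact p.Prime]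

theorem resOf_le {A N : Subgroup G} (h : ∀ x ∈ A, (orderOf x).Coprime p → x ∈ N) :
    CharP.resOf p A ≤ N := by
  refine map_le_iff_le_comap.mpr ?_
  rw [Cfsg.pResidual, closure_le]
  intro x hx
  refine h _ x.2 ?_
  show (orderOf (x : G)).Coprime p
  rw [Subgroup.orderOf_coe]
  exact hx

/-- A group equal to its residual lies in any subgroup containing its `p'`-elements. -/
theorem le_of_coprime_mem {A N : Subgroup G} (hA : CharP.resOf p A = A)
    (h : ∀ x ∈ A, (orderOf x).Coprime p → x ∈ N) : A ≤ N :=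
  hA.ge.trans (resOf_le h)

theorem solvable_zpowers (x : G) : Group.IsSolvable (zpowers x) :=
  Cfsg.Agent.Coprime.isSolvable_of_isMulCommutative _

/-- A `p'`-element trivial on a `p`-subgroup `S` and on `R` modulo `S` centralises `R`. -/
theorem mem_centralizer_of_stab {R S : Subgroup G} (hR : IsPGroup p R) {x : G}
    (hx : (orderOf x).Coprime p) (hxR : x ∈ normalizer (R : Set G))
    (hxS : x ∈ centralizer (S : Set G)) (hRS : ∀ r ∈ R, ⁅r, x⁆ ∈ S) :
    x ∈ centralizer (R : Set G) := by
  refine Cfsg.Agent.Coprime.le_centralizer_of_series (A := zpowers x) (K := R) (N := S)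
    (zpowers_le.mpr hxR) (CharP.coprime_zpowers_of_isPGroup hR hx) (.inl (solvable_zpowers x))
    (zpowers_le.mpr hxS) ?_ (mem_zpowers x)
  have key : ∀ y ∈ zpowers x, ∀ r ∈ R, ⁅r, y⁆ ∈ S := by
    intro y hy
    obtain ⟨k, rfl⟩ := mem_powers_iff_mem_zpowers.mpr hy
    induction k with
    | zero => intro r _; simp
    | succ k ih =>
      intro r hr
      have e : ⁅r, x ^ (k + 1)⁆ = ⁅r, x ^ k⁆ * (x ^ k * ⁅r, x⁆ * (x ^ k)⁻¹) := by
        rw [pow_succ]; simp [commutatorElement_def, mul_assoc]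
      rw [e]
      refine mul_mem (ih (Subgroup.pow_mem _ (mem_zpowers x) _) r hr) ?_
      have hc : x ^ k ∈ centralizer (S : Set G) := pow_mem hxS k
      rw [← mem_centralizer_iff.mp hc _ (hRS r hr), mul_inv_cancel_right]
      exact hRS r hr
  rw [commutator_le]
  exact fun r hr y hy => key y hy r hr

/-- In a group of characteristic `p` a `p'`-element stabilising such a series is trivial. -/
theorem eq_one_of_stab {R S : Subgroup G} (hR : IsPGroup p R)
    (hC : centralizer (R : Set G) ≤ R) {x : G} (hx : (orderOf x).Coprime p)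
    (hxR : x ∈ normalizer (R : Set G)) (hxS : x ∈ centralizer (S : Set G))
    (hRS : ∀ r ∈ R, ⁅r, x⁆ ∈ S) : x = 1 :=
  CharP.eq_one_of_mem_pgroup hR (hC (mem_centralizer_of_stab hR hx hxR hxS hRS)) hx

/-- `[X,E,E] ≤ Y` forces `[X,E] ≤ Y`. -/
theorem commutator_le_of_commutator_commutator_le {E X Y : Subgroup G}
    (hE : CharP.resOf p E = E) (hX : IsPGroup p X) (hn : E ≤ normalizer (X : Set G))
    (hY : E ≤ normalizer (Y : Set G)) (h : ⁅⁅X, E⁆, E⁆ ≤ Y) : ⁅X, E⁆ ≤ Y := by
  let N : Subgroup G :=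
    { carrier := {e | e ∈ normalizer (Y : Set G) ∧ ∀ x ∈ X, ⁅x, e⁆ ∈ Y}
      one_mem' := ⟨one_mem _, fun x _ => by simp⟩
      mul_mem' := by
        rintro e f ⟨he, he'⟩ ⟨hf, hf'⟩
        refine ⟨mul_mem he hf, fun x hx => ?_⟩
        rw [show ⁅x, e * f⁆ = ⁅x, e⁆ * (e * ⁅x, f⁆ * e⁻¹) by simp [commutatorElement_def, mul_assoc]]
        exact mul_mem (he' x hx) ((mem_normalizer_iff.mp he _).mp (hf' x hx))
      inv_mem' := by
        rintro e ⟨he, he'⟩
        refine ⟨inv_mem he, fun x hx => ?_⟩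
        have h1 := (mem_normalizer_iff''.mp he _).mp (inv_mem (he' x hx))
        convert h1 using 1
        simp [commutatorElement_def, mul_assoc] }
  have hEN : E ≤ N := le_of_coprime_mem hE fun e he hcop => by
    refine ⟨hY he, fun x hx => h ?_⟩
    have hz : zpowers e ≤ E := zpowers_le.mpr he
    have h2 := Cfsg.Agent.Coprime.commutator_commutator_eq (A := zpowers e) (K := X)
      (hz.trans hn) (CharP.coprime_zpowers_of_isPGroup hX hcop) (.inl (solvable_zpowers e))
    have h3 : ⁅x, e⁆ ∈ ⁅⁅X, zpowers e⁆, zpowers e⁆ :=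
      h2.symm ▸ commutator_mem_commutator hx (mem_zpowers e)
    exact commutator_mono (commutator_mono le_rfl hz) hz h3
  rw [commutator_le]
  exact fun x hx e he => (hEN he).2 x hx

/-- If the residual-equal group `E` acts trivially twice, it acts trivially. -/
theorem commutator_eq_bot_of_twice {E X : Subgroup G} (hE : CharP.resOf p E = E)
    (hX : IsPGroup p X) (hn : E ≤ normalizer (X : Set G)) (h : ⁅⁅X, E⁆, E⁆ = ⊥) : ⁅X, E⁆ = ⊥ :=
  le_bot_iff.mp (commutator_le_of_commutator_commutator_le hE hX hn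
    (by rw [normalizer_eq_top]; exact le_top) h.le)

/-- `p`-subgroups acting on `E = O^p(E)` disappear in `O^p(E D)`. -/
theorem le_of_le_sup {E F D : Subgroup G} (hF : CharP.resOf p F = F) (hD : IsPGroup p D)
    (hn : D ≤ normalizer (E : Set G)) (h : F ≤ E ⊔ D) : F ≤ E :=
  hF.ge.trans ((CharP.resOf_mono p h).trans (WeakClosureSplit.resOf_sup_le hD hn))

end Cfsg.Agent.PLocal.Blocks
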