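import Cfsg.Agent.Lib.PLocal.Blocks.Sect
import Cfsg.Agent.Lib.PLocal.Blocks.Stab
import Cfsg.Agent.Lib.Coprime.PGroup

/-!
Coprime groups normalized by an element of order four with small commutator space.
-/

set_option linter.all false
set_option autoImplicit false

namespace Cfsg.Agent.PLocal.Blocks

open Subgroup Cfsg
open scoped commutatorElement

variable {G : Type*} [Group G] [Finite G] {p l : ℕ} [Fact p.Prime] [Fact l.Prime]

/-- Coordinates on a `p`-group modulo its Frattini subgroup. -/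
theorem exists_frattini_sect.{w} {G : Type w} [Group G] [Finite G] {p : ℕ} [Fact p.Prime]
    {R : Subgroup G} (hR : IsPGroup p R) :
    ∃ (M : Type w) (_ : AddCommGroup M), Nonempty (Sect R ((frattini R).map R.subtype) M) := by
  haveI := hR.isNilpotent
  refine exists_sect R _ ?_ ?_
  · intro r hr
    refine le_normalizer_map R.subtype ⟨⟨r, hr⟩, ?_, rfl⟩
    exact (normalizer_eq_top_iff.mpr (inferInstance : (frattini R).Normal)).ge (mem_top _)
  · intro u hu v hv
    refine ⟨⁅(⟨u, hu⟩ : R), ⟨v, hv⟩⁆, ?_, rfl⟩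
    exact Cfsg.Agent.Coprime.commutator_le_frattini R (commutator_mem_commutator (mem_top _) (mem_top _))

theorem le_normalizer_frattini (R : Subgroup G) :
    normalizer (R : Set G) ≤ normalizer (((frattini R).map R.subtype : Subgroup G) : Set G) := by
  intro g hg
  rw [mem_normalizer_iff_map_conj_eq, Subgroup.map_map]
  let α : R ≃* R :=
    { toFun := fun r => ⟨g * r * g⁻¹, (mem_normalizer_iff.mp hg r).mp r.2⟩
      invFun := fun r => ⟨g⁻¹ * r * g, (mem_normalizer_iff''.mp hg r).mp r.2⟩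
      left_inv := fun r => Subtype.ext (by simp [mul_assoc])
      right_inv := fun r => Subtype.ext (by simp [mul_assoc])
      map_mul' := fun r s => Subtype.ext (by simp [mul_assoc]) }
  have hα : (frattini R).map α.toMonoidHom = frattini R :=
    Subgroup.characteristic_iff_map_eq.mp inferInstance α
  conv_rhs => rw [← hα, Subgroup.map_map]
  congr 1

theorem nsmul_coprime_eq_zero {R R₀ : Subgroup G} {M : Type*} [AddCommGroup M] (σ : Sect R R₀ M)
    (hR : IsPGroup p R) {m : ℕ} (hm : m.Coprime p) {v : M} (h : m • v = 0) : v = 0 := by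
  obtain ⟨u, rfl⟩ := σ.coord_surjective v
  obtain ⟨k, hk⟩ := hR u
  have h2 : (p ^ k) • σ.coord u = 0 := by
    have : ∀ j : ℕ, j • σ.coord u = σ.coord (u ^ j) := by
      intro j
      induction j with
      | zero => rw [zero_nsmul, pow_zero]; exact ((σ.coord_eq_zero).mpr (one_mem _)).symm
      | succ j ih => rw [succ_nsmul, ih, pow_succ, σ.coord_mul]
    rw [this, hk]
    exact (σ.coord_eq_zero).mpr (one_mem _)
  have h3 := (hm.pow_right k)
  obtain ⟨a, b, hab⟩ : ∃ a b : ℤ, a * m + b * (p ^ k : ℕ) = 1 := by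
    obtain ⟨a, b, hab⟩ := (Nat.isCoprime_iff_coprime.mpr h3 : IsCoprime (m : ℤ) ((p ^ k : ℕ) : ℤ))
    exact ⟨a, b, hab⟩
  rw [← one_zsmul (σ.coord u), ← hab, add_zsmul, mul_zsmul, mul_zsmul, natCast_zsmul, natCast_zsmul,
    h, h2, zsmul_zero, zsmul_zero, add_zero]

/-- A coprime group normalized by `g` commutes with `g²` when `g` moves `R` only inside `Q`,
`g²` inverts `Q` modulo the Frattini subgroup and its fixed points centralize `Q`. -/
theorem le_centralizer_of_rigid {R X Q : Subgroup G} {g : G} (hlp : l ≠ p)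
    (hl2 : l ≠ 2) (hR : IsPGroup p R) (hC : centralizer (R : Set G) ≤ R) (hX : IsPGroup l X)
    (hXR : X ≤ normalizer (R : Set G)) (hgR : g ∈ normalizer (R : Set G))
    (hgX : g ∈ normalizer (X : Set G)) (hg4 : g ^ 4 = 1) (hQR : Q ≤ R)
    (hRg : ∀ r ∈ R, ⁅r, g⁆ ∈ Q) (hgQ : g ∈ normalizer (Q : Set G))
    (hneg : Q ≤ ⁅Q, zpowers (g * g)⁆)
    (hfix : ∀ z ∈ X, z * (g * g) = g * g * z → z ∈ centralizer (Q : Set G)) :
    X ≤ centralizer ({g * g} : Set G) := by
  obtain ⟨M, iM, ⟨σ⟩⟩ := exists_frattini_sect hR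
  set P₀ : Subgroup G := (frattini R).map R.subtype with hP₀
  set NN := normalizer (R : Set G) ⊓ normalizer (P₀ : Set G) with hNN
  have hmem : ∀ {x}, x ∈ normalizer (R : Set G) → x ∈ NN := fun hx => ⟨hx, le_normalizer_frattini R hx⟩
  classical
  let τ : G → Equiv.Perm M := fun x =>
    if hx : x ∈ normalizer (R : Set G) then σ.act ⟨x, hmem hx⟩ else 1
  have hτeq : ∀ x (hx : x ∈ normalizer (R : Set G)), τ x = σ.act ⟨x, hmem hx⟩ := fun x hx => dif_pos hx
  have hτmul : ∀ x y (hx : x ∈ normalizer (R : Set G)) (hy : y ∈ normalizer (R : Set G)) (v : M),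
      τ x (τ y v) = τ (x * y) v := fun x y hx hy v => by
    rw [hτeq x hx, hτeq y hy, hτeq _ (mul_mem hx hy), ← Equiv.Perm.mul_apply, ← map_mul]
    rfl
  have hτone : ∀ v, τ 1 v = v := fun v => by
    rw [hτeq 1 (one_mem _), show (⟨1, hmem (one_mem _)⟩ : ↥NN) = 1 from rfl, map_one, Equiv.Perm.one_apply]
  have hτc : ∀ x y, x = y → ∀ v, τ x v = τ y v := fun x y e v => by rw [e]
  have hτ1 : ∀ x, x = 1 → ∀ v, τ x v = v := fun x e v => by rw [e]; exact hτone v
  have hτadd : ∀ x a b, τ x (a + b) = τ x a + τ x b := fun x a b => by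
    by_cases hx : x ∈ normalizer (R : Set G)
    · rw [hτeq x hx]; exact σ.act_add _ a b
    · simp [τ, dif_neg hx]
  have hτzero : ∀ x, τ x 0 = 0 := fun x => add_eq_left.mp (by rw [← hτadd, add_zero] : τ x 0 + τ x 0 = τ x 0)
  have hτneg : ∀ x a, τ x (-a) = -τ x a := fun x a => eq_neg_of_add_eq_zero_left (by
    rw [← hτadd, neg_add_cancel, hτzero])
  have hτsub : ∀ x a b, τ x (a - b) = τ x a - τ x b := fun x a b => by
    rw [sub_eq_add_neg, hτadd, hτneg, ← sub_eq_add_neg]
  have hτcoord : ∀ x (hx : x ∈ normalizer (R : Set G)) (r : ↥R),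
      τ x (σ.coord r) = σ.coord ⟨x * r * x⁻¹, (mem_normalizer_iff.mp hx _).mp r.2⟩ := fun x hx r => by
    rw [hτeq x hx]; exact σ.act_coord _ r
  set e := g * g with he
  have heR : e ∈ normalizer (R : Set G) := mul_mem hgR hgR
  have hee : e * e = 1 := by
    rw [← hg4, he, pow_succ, pow_succ, pow_two]; simp [mul_assoc]
  -- the image of `Q`
  let N : AddSubgroup M := AddSubgroup.closure {v | ∃ q, ∃ hq : q ∈ Q, σ.coord ⟨q, hQR hq⟩ = v}
  have hNq : ∀ q (hq : q ∈ Q), σ.coord ⟨q, hQR hq⟩ ∈ N := fun q hq => AddSubgroup.subset_closure ⟨q, hq, rfl⟩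
  have hdiff : ∀ v, v - τ g v ∈ N := fun v => by
    obtain ⟨u, rfl⟩ := σ.coord_surjective v
    have h := hRg u u.2
    rw [show σ.coord u - τ g (σ.coord u) = σ.coord ⟨⁅(u : G), g⁆, hQR h⟩ from
      by rw [hτeq g hgR]; exact (σ.coord_commutator ⟨g, hmem hgR⟩ u.2 (hQR h)).symm]
    exact hNq _ h
  have hNneg : ∀ v ∈ N, τ e v = -v := by
    intro v hv
    induction hv using AddSubgroup.closure_induction with
    | mem v hv =>
      obtain ⟨q, hq, rfl⟩ := hv
      let Q' : Subgroup G :=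
        { carrier := {x | ∃ hx : x ∈ R, τ e (σ.coord ⟨x, hx⟩) = -σ.coord ⟨x, hx⟩}
          one_mem' := ⟨one_mem _, by
            rw [show σ.coord ⟨1, one_mem R⟩ = 0 from (σ.coord_eq_zero).mpr (one_mem _), neg_zero]
            exact hτzero _⟩
          mul_mem' := by
            rintro a b ⟨ha, ha'⟩ ⟨hb, hb'⟩
            refine ⟨mul_mem ha hb, ?_⟩
            rw [show (⟨a * b, mul_mem ha hb⟩ : ↥R) = ⟨a, ha⟩ * ⟨b, hb⟩ from rfl, σ.coord_mul, neg_add,
              ← ha', ← hb']
            exact hτadd _ _ _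
          inv_mem' := by
            rintro a ⟨ha, ha'⟩
            refine ⟨inv_mem ha, ?_⟩
            rw [show (⟨a⁻¹, inv_mem ha⟩ : ↥R) = ⟨a, ha⟩⁻¹ from rfl, σ.coord_inv]
            rw [hτneg, ha'] }
      have hQ' : ⁅Q, zpowers e⁆ ≤ Q' := by
        rw [commutator_le]
        intro a ha z hz
        obtain ⟨i, rfl⟩ := mem_powers_iff_mem_zpowers.mpr hz
        have hi : e ^ i = 1 ∨ e ^ i = e := by
          rcases Nat.even_or_odd' i with ⟨j, rfl | rfl⟩
          · left; rw [pow_mul, pow_two, hee, one_pow]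
          · right; rw [pow_succ, pow_mul, pow_two, hee, one_pow, one_mul]
        show ⁅a, e ^ i⁆ ∈ Q'
        rcases hi with hi | hi <;> rw [hi]
        · simp
        · have hc : ⁅a, e⁆ ∈ R := hQR (by
            rw [commutatorElement_def, mul_assoc (a * e), mul_assoc a, ← mul_assoc e]
            exact mul_mem ha ((mem_normalizer_iff.mp (mul_mem hgQ hgQ) _).mp (inv_mem ha)))
          refine ⟨hc, ?_⟩
          rw [show σ.coord ⟨⁅a, e⁆, hc⟩ = σ.coord ⟨a, hQR ha⟩ - τ e (σ.coord ⟨a, hQR ha⟩) from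
            by rw [hτeq e heR]; exact σ.coord_commutator ⟨e, hmem heR⟩ (hQR ha) hc, neg_sub]
          rw [hτsub]
          congr 1
          have := hτmul e e heR heR (σ.coord ⟨a, hQR ha⟩)
          rw [this]
          exact hτ1 _ hee _
      obtain ⟨_, h⟩ := hQ' (hneg hq)
      exact h
    | zero => rw [neg_zero]; exact hτzero _
    | add a b _ _ ha hb => rw [neg_add, ← ha, ← hb]; exact hτadd _ _ _
    | neg a _ ha => rw [hτneg, ha]
  -- the submodule generated by the conjugates of `N`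
  let U : AddSubgroup M := AddSubgroup.closure {v | ∃ x, ∃ hx : x ∈ X, ∃ n ∈ N, τ x n = v}
  have hNU : N ≤ U := fun n hn => AddSubgroup.subset_closure ⟨1, one_mem _, n, hn, hτone n⟩
  let K : Subgroup G :=
    { carrier := {x | ∃ hx : x ∈ X, ∀ u ∈ U, τ x u = u}
      one_mem' := ⟨one_mem _, fun u _ => hτone u⟩
      mul_mem' := by
        rintro a b ⟨ha, ha'⟩ ⟨hb, hb'⟩
        refine ⟨mul_mem ha hb, fun u hu => ?_⟩
        rw [← hτmul a b (hXR ha) (hXR hb), hb' u hu, ha' u hu]
      inv_mem' := by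
        rintro a ⟨ha, ha'⟩
        refine ⟨inv_mem ha, fun u hu => ?_⟩
        conv_lhs => rw [← ha' u hu]
        rw [hτmul a⁻¹ a (hXR (inv_mem ha)) (hXR ha)]
        exact hτ1 _ (inv_mul_cancel a) _ }
  have hUX : ∀ x (hx : x ∈ X), ∀ u ∈ U, τ x u ∈ U := by
    intro x hx u hu
    induction hu using AddSubgroup.closure_induction with
    | mem v hv =>
      obtain ⟨y, hy, n, hn, rfl⟩ := hv
      rw [hτmul _ _ (hXR hx) (hXR hy)]
      exact AddSubgroup.subset_closure ⟨x * y, mul_mem hx hy, n, hn, rfl⟩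
    | zero => rw [show τ x 0 = 0 from hτzero _]; exact zero_mem _
    | add a b _ _ ha hb => rw [show τ x (a + b) = _ from hτadd _ _ _]; exact add_mem ha hb
    | neg a _ ha => rw [show τ x (-a) = _ from hτneg _ _]; exact neg_mem ha
  have hKX : K ≤ X := fun x hx => hx.1
  have hXK : X ≤ normalizer (K : Set G) := by
    refine Subgroup.le_normalizer_iff.mpr fun x hx k hk => ⟨mul_mem (mul_mem hx hk.1) (inv_mem hx), fun u hu => ?_⟩
    rw [← hτmul (x * k) x⁻¹ (hXR (mul_mem hx hk.1)) (hXR (inv_mem hx)),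
      ← hτmul x k (hXR hx) (hXR hk.1), hk.2 _ (hUX x⁻¹ (inv_mem hx) u hu), hτmul x x⁻¹ (hXR hx) (hXR (inv_mem hx))]
    exact hτ1 _ (mul_inv_cancel x) _
  have hNg : ∀ a (haR : a ∈ normalizer (R : Set G)), a ∈ normalizer (Q : Set G) → ∀ n ∈ N, τ a n ∈ N := by
    intro a haR haQ n hn
    induction hn using AddSubgroup.closure_induction with
    | mem v hv =>
      obtain ⟨q, hq, rfl⟩ := hv
      rw [show τ a (σ.coord ⟨q, hQR hq⟩) = σ.coord ⟨a * q * a⁻¹, hQR ((mem_normalizer_iff.mp haQ q).mp hq)⟩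
        from hτcoord _ (by assumption) _]
      exact hNq _ ((mem_normalizer_iff.mp haQ q).mp hq)
    | zero => rw [show τ a 0 = 0 from hτzero _]; exact zero_mem _
    | add c d _ _ hc hd => rw [show τ a (c + d) = _ from hτadd _ _ _]; exact add_mem hc hd
    | neg c _ hc => rw [show τ a (-c) = _ from hτneg _ _]; exact neg_mem hc
  have hUa : ∀ a (haR : a ∈ normalizer (R : Set G)), a ∈ normalizer (Q : Set G) → a ∈ normalizer (X : Set G) →
      ∀ u ∈ U, τ a u ∈ U := by
    intro a haR haQ haX u hu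
    induction hu using AddSubgroup.closure_induction with
    | mem v hv =>
      obtain ⟨y, hy, n, hn, rfl⟩ := hv
      have hay : a * y * a⁻¹ ∈ X := (mem_normalizer_iff.mp haX y).mp hy
      refine AddSubgroup.subset_closure ⟨a * y * a⁻¹, hay, τ a n, hNg a haR haQ n hn, ?_⟩
      rw [hτmul _ _ (hXR hay) haR, hτmul a y haR (hXR hy)]
      exact hτc _ _ (by simp [mul_assoc]) _
    | zero => rw [show τ a 0 = 0 from hτzero _]; exact zero_mem _
    | add c d _ _ hc hd => rw [show τ a (c + d) = _ from hτadd _ _ _]; exact add_mem hc hd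
    | neg c _ hc => rw [show τ a (-c) = _ from hτneg _ _]; exact neg_mem hc
  have hKa : ∀ a, a ∈ normalizer (R : Set G) → a ∈ normalizer (Q : Set G) → a ∈ normalizer (X : Set G) →
      ∀ k ∈ K, a * k * a⁻¹ ∈ K := by
    intro a haR haQ haX k hk
    refine ⟨(mem_normalizer_iff.mp haX k).mp hk.1, fun u hu => ?_⟩
    rw [← hτmul (a * k) a⁻¹ (mul_mem haR (hXR hk.1)) (inv_mem haR),
      ← hτmul a k haR (hXR hk.1), hk.2 _ (hUa a⁻¹ (inv_mem haR) (inv_mem haQ) (inv_mem haX) u hu), hτmul a a⁻¹ haR (inv_mem haR)]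
    exact hτ1 _ (mul_inv_cancel a) _
  have heX : e ∈ normalizer (X : Set G) := mul_mem hgX hgX
  have heQ : e ∈ normalizer (Q : Set G) := mul_mem hgQ hgQ
  -- step 1: the group fixes the submodule
  have hstep : X ≤ K := by
    by_contra hne
    let Kq : Subgroup ↥X := K.subgroupOf X
    haveI : Kq.Normal := normal_subgroupOf_of_le_normalizer hXK
    haveI : Nontrivial (↥X ⧸ Kq) := by
      rw [QuotientGroup.nontrivial_iff]
      exact fun h => hne (subgroupOf_eq_top.mp h)
    have hq : IsPGroup l (↥X ⧸ Kq) := hX.to_quotient Kq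
    haveI hnt : Nontrivial (Subgroup.center (↥X ⧸ Kq)) := hq.center_nontrivial
    -- the map `z ↦ z · ^g(z⁻¹)` on the centre
    have hconj : ∀ a, a ∈ normalizer (R : Set G) → a ∈ normalizer (Q : Set G) → a ∈ normalizer (X : Set G) →
        ∃ α : (↥X ⧸ Kq) →* (↥X ⧸ Kq), ∀ x : ↥X, ∀ hax : a * (x : G) * a⁻¹ ∈ X,
          α (QuotientGroup.mk x) = QuotientGroup.mk ⟨a * (x : G) * a⁻¹, hax⟩ := by
      intro a haR haQ haX
      let c : ↥X →* ↥X :=
        { toFun := fun x => ⟨a * x * a⁻¹, (mem_normalizer_iff.mp haX x).mp x.2⟩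
          map_one' := Subtype.ext (by simp)
          map_mul' := fun x y => Subtype.ext (by simp [mul_assoc]) }
      exact ⟨QuotientGroup.map Kq Kq c fun x hx => hKa a haR haQ haX x hx, fun x hax => rfl⟩
    obtain ⟨α, hα⟩ := hconj g hgR hgQ hgX
    obtain ⟨β, hβ⟩ := hconj g⁻¹ (inv_mem hgR) (inv_mem hgQ) (inv_mem hgX)
    obtain ⟨γ, hγ⟩ := hconj e heR heQ heX
    have hαc : ∀ z ∈ Subgroup.center (↥X ⧸ Kq), α z ∈ Subgroup.center (↥X ⧸ Kq) ∧
        β z ∈ Subgroup.center (↥X ⧸ Kq) := by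
      have hinv : ∀ q, α (β q) = q ∧ β (α q) = q := fun q => by
        induction q using QuotientGroup.induction_on with
        | H x =>
          have h1 : g⁻¹ * (x : G) * g⁻¹⁻¹ ∈ X := (mem_normalizer_iff.mp (inv_mem hgX) x).mp x.2
          have h2 : g * (x : G) * g⁻¹ ∈ X := (mem_normalizer_iff.mp hgX x).mp x.2
          constructor
          · rw [hβ x h1, hα _ (by simp [mul_assoc, x.2])]
            congr 1; exact Subtype.ext (by simp [mul_assoc])
          · rw [hα x h2, hβ _ (by simp [mul_assoc, x.2])]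
            congr 1; exact Subtype.ext (by simp [mul_assoc])
      intro z hz
      rw [Subgroup.mem_center_iff] at hz ⊢
      rw [Subgroup.mem_center_iff]
      constructor
      · intro q; rw [← (hinv q).1, ← map_mul, hz, map_mul]
      · intro q; rw [← (hinv q).2, ← map_mul, hz, map_mul]
    -- fixed points of the involution in the centre are trivial
    have hfixed : ∀ z ∈ Subgroup.center (↥X ⧸ Kq), γ z = z → z = 1 := by
      intro z hz hzz
      induction z using QuotientGroup.induction_on with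
      | H x =>
        have h1 : e * (x : G) * e⁻¹ ∈ X := (mem_normalizer_iff.mp heX x).mp x.2
        rw [hγ x h1, QuotientGroup.eq] at hzz
        have hkk : (e * (x : G) * e⁻¹)⁻¹ * x ∈ K := hzz
        have hAK : zpowers e ≤ normalizer (K : Set G) := by
          rw [zpowers_le, mem_normalizer_iff_map_conj_eq]
          refine eq_of_le_of_card_ge ?_ (card_map_of_injective (MulAut.conj e).injective).ge
          rintro _ ⟨k, hk, rfl⟩
          exact hKa e heR heQ heX k hk
        have he2 : Nat.card (zpowers e) ∣ 2 := by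
          rw [Nat.card_zpowers]; exact orderOf_dvd_of_pow_eq_one (by rw [pow_two, hee])
        have hcop : (Nat.card (zpowers e)).Coprime (Nat.card K) := by
          refine Nat.Coprime.coprime_dvd_left he2 ?_
          obtain ⟨k, hk⟩ := IsPGroup.iff_card.mp (hX.to_le hKX)
          rw [hk]
          exact ((Nat.coprime_primes Nat.prime_two Fact.out).mpr hl2.symm).pow_right _
        obtain ⟨n, hn, hxn⟩ := Cfsg.Agent.Coprime.exists_fixed_in_coset (A := zpowers e) (N := K) hAK hcop
          (.inl (solvable_zpowers e)) (k := (x : G)) fun a ha => by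
            obtain ⟨i, rfl⟩ := mem_powers_iff_mem_zpowers.mpr ha
            show (x : G)⁻¹ * (e ^ i * x * (e ^ i)⁻¹) ∈ K
            rcases Nat.even_or_odd' i with ⟨j, rfl | rfl⟩
            · rw [pow_mul, pow_two, hee, one_pow]; simp [one_mem K]
            · rw [pow_succ, pow_mul, pow_two, hee, one_pow, one_mul]
              have := K.inv_mem hkk
              rwa [mul_inv_rev, inv_inv] at this
        have hzX : (x : G) * n ∈ X := mul_mem x.2 (hKX hn)
        have hzQ := hfix _ hzX ((mem_centralizer_iff.mp hxn e (mem_zpowers e)).symm)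
        -- the fixed element fixes the generating subspace, and is central modulo `K`
        have hzN : ∀ v ∈ N, τ ((x : G) * n) v = v := by
          intro v hv
          induction hv using AddSubgroup.closure_induction with
          | mem v hv =>
            obtain ⟨q, hq, rfl⟩ := hv
            rw [hτcoord _ (hXR hzX) ⟨q, hQR hq⟩]
            congr 1
            refine Subtype.ext ?_
            show (x : G) * n * q * ((x : G) * n)⁻¹ = q
            rw [← mem_centralizer_iff.mp hzQ q hq, mul_inv_cancel_right]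
          | zero => exact hτzero _
          | add c d _ _ hc hd => rw [show τ _ (c + d) = _ from hτadd _ _ _]; exact congrArg₂ _ hc hd
          | neg c _ hc => rw [show τ _ (-c) = _ from hτneg _ _]; exact congrArg _ hc
        have hK1 : (x : G) * n ∈ K := by
          refine ⟨hzX, fun u hu => ?_⟩
          induction hu using AddSubgroup.closure_induction with
          | mem v hv =>
            obtain ⟨y, hy, m, hm, rfl⟩ := hv
            have hcomm : ((x : G) * n * y)⁻¹ * (y * ((x : G) * n)) ∈ K := by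
              have hxn' : (QuotientGroup.mk ⟨(x : G) * n, hzX⟩ : ↥X ⧸ Kq) = QuotientGroup.mk x := by
                rw [QuotientGroup.eq]
                show ((x : G) * n)⁻¹ * x ∈ K
                simp [mul_assoc, inv_mem hn]
              have := Subgroup.mem_center_iff.mp hz (QuotientGroup.mk ⟨y, hy⟩)
              rw [← hxn', ← QuotientGroup.mk_mul, ← QuotientGroup.mk_mul] at this
              exact (QuotientGroup.eq (s := Kq)).mp this.symm
            have hym : τ y m ∈ U := hUX y hy m (hNU hm)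
            rw [hτmul _ _ (hXR hzX) (hXR hy)]
            set k := ((x : G) * n * y)⁻¹ * (y * ((x : G) * n)) with hk
            have hkm : τ k m = m := hcomm.2 m (hNU hm)
            calc τ ((x : G) * n * y) m = τ ((x : G) * n * y) (τ k m) := by rw [hkm]
              _ = τ y (τ ((x : G) * n) m) := by
                rw [hτmul _ _ (hXR (mul_mem hzX hy)) (hXR hcomm.1), hτmul _ _ (hXR hy) (hXR hzX)]
                exact hτc _ _ (by simp [hk, mul_assoc]) _
              _ = τ y m := by rw [hzN m hm]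
          | zero => exact hτzero _
          | add c d _ _ hc hd => rw [show τ _ (c + d) = _ from hτadd _ _ _]; exact congrArg₂ _ hc hd
          | neg c _ hc => rw [show τ _ (-c) = _ from hτneg _ _]; exact congrArg _ hc
        refine (QuotientGroup.eq_one_iff x).mpr ?_
        show (x : G) ∈ K
        simpa using mul_mem hK1 (inv_mem hn)
    -- the bijection
    let Zq := Subgroup.center (↥X ⧸ Kq)
    haveI : Fintype Zq := Fintype.ofFinite _
    have hγα : ∀ q, γ q = α (α q) := fun q => by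
      induction q using QuotientGroup.induction_on with
      | H x =>
        have h1 : g * (x : G) * g⁻¹ ∈ X := (mem_normalizer_iff.mp hgX x).mp x.2
        rw [hα x h1, hα _ ((mem_normalizer_iff.mp hgX _).mp h1), hγ x ((mem_normalizer_iff.mp heX x).mp x.2)]
        congr 1; exact Subtype.ext (by simp [he, mul_assoc])
    have hγβ : ∀ q, γ q = β (β q) := fun q => by
      induction q using QuotientGroup.induction_on with
      | H x =>
        have h1 : g⁻¹ * (x : G) * g⁻¹⁻¹ ∈ X := (mem_normalizer_iff.mp (inv_mem hgX) x).mp x.2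
        rw [hβ x h1, hβ _ ((mem_normalizer_iff.mp (inv_mem hgX) _).mp h1),
          hγ x ((mem_normalizer_iff.mp heX x).mp x.2)]
        congr 1
        refine Subtype.ext ?_
        show e * (x : G) * e⁻¹ = g⁻¹ * (g⁻¹ * x * g⁻¹⁻¹) * g⁻¹⁻¹
        rw [show e = g⁻¹ * g⁻¹ from (mul_eq_one_iff_eq_inv.mp hee).trans (by simp [he])]
        simp [mul_assoc]
    have hbij : ∀ (δ : (↥X ⧸ Kq) →* (↥X ⧸ Kq)), (∀ z ∈ Zq, δ z ∈ Zq) → (∀ q, γ q = δ (δ q) ∨ γ q = δ q) →
        ∃ f : Zq ≃ Zq, ∀ z : Zq, (f z : ↥X ⧸ Kq) = (z : ↥X ⧸ Kq) * (δ z)⁻¹ := by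
      intro δ hδ hγδ
      let f : Zq → Zq := fun z => ⟨(z : ↥X ⧸ Kq) * (δ z)⁻¹, mul_mem z.2 (inv_mem (hδ z z.2))⟩
      have hinj : Function.Injective f := by
        intro z w h
        have h' : (z : ↥X ⧸ Kq) * (δ z)⁻¹ = (w : ↥X ⧸ Kq) * (δ w)⁻¹ := congrArg Subtype.val h
        have hcw := Subgroup.mem_center_iff.mp w.2
        have h1 : δ ((w : ↥X ⧸ Kq)⁻¹ * z) = (w : ↥X ⧸ Kq)⁻¹ * z := by
          rw [map_mul, map_inv]
          have h2 : (z : ↥X ⧸ Kq) = (w : ↥X ⧸ Kq) * (δ w)⁻¹ * δ z := by rw [← h', inv_mul_cancel_right]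
          conv_rhs => rw [h2]
          group
        have h3 : γ ((w : ↥X ⧸ Kq)⁻¹ * z) = (w : ↥X ⧸ Kq)⁻¹ * z := by
          rcases hγδ ((w : ↥X ⧸ Kq)⁻¹ * z) with h4 | h4 <;> rw [h4, h1]
          exact h1
        have h5 := hfixed _ (mul_mem (inv_mem w.2) z.2) h3
        exact Subtype.ext (inv_mul_eq_one.mp h5).symm
      exact ⟨Equiv.ofBijective f (Finite.injective_iff_bijective.mp hinj), fun z => rfl⟩
    obtain ⟨fg, hfg⟩ := hbij α (fun z hz => (hαc z hz).1) fun q => Or.inl (hγα q)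
    obtain ⟨fh, hfh⟩ := hbij β (fun z hz => (hαc z hz).2) fun q => Or.inl (hγβ q)
    obtain ⟨fe, hfe⟩ := hbij γ (fun z hz => by rw [hγα]; exact (hαc _ (hαc z hz).1).1) fun q => Or.inr rfl
    -- the action of the quotient on the submodule
    let act : ↥X ⧸ Kq → M → M := fun q u => τ (q.out : ↥X) u
    have hact : ∀ (x : ↥X) u, u ∈ U → act (QuotientGroup.mk x) u = τ x u := by
      intro x u hu
      obtain ⟨k, hk⟩ := QuotientGroup.mk_out_eq_mul Kq x
      simp only [act]
      rw [hτc _ ((x : G) * (k : ↥X)) (by rw [hk]; rfl),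
        ← hτmul _ _ (hXR x.2) (hXR (k : ↥X).2)]
      congr 1
      obtain ⟨_, h⟩ := (show ((k : ↥X) : G) ∈ K from k.2)
      exact h u hu
    let S : M → M := fun u => ∑ z : Zq, act z u
    have hSadd : ∀ a b, S (a + b) = S a + S b := fun a b => by
      simp only [S, ← Finset.sum_add_distrib]
      exact Finset.sum_congr rfl fun z _ => hτadd _ _ _
    have hsum : ∀ u ∈ U, ∀ a (haR : a ∈ normalizer (R : Set G)) (haQ : a ∈ normalizer (Q : Set G))
        (haX : a ∈ normalizer (X : Set G)) (δ : (↥X ⧸ Kq) →* (↥X ⧸ Kq))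
        (hδ : ∀ x : ↥X, ∀ hax : a * (x : G) * a⁻¹ ∈ X, δ (QuotientGroup.mk x) = QuotientGroup.mk ⟨_, hax⟩)
        (f : Zq ≃ Zq), (∀ z : Zq, (f z : ↥X ⧸ Kq) = (z : ↥X ⧸ Kq) * (δ z)⁻¹) →
        ∑ z : Zq, act z (τ a (act ((z : ↥X ⧸ Kq)⁻¹) u)) = S (τ a u) := by
      intro u hu a haR haQ haX δ hδ f hf
      simp only [S]
      rw [← Equiv.sum_comp f (fun z => act z (τ a u))]
      refine Finset.sum_congr rfl fun z _ => ?_
      rw [hf z]
      obtain ⟨x, hx⟩ := QuotientGroup.mk_surjective (z : ↥X ⧸ Kq)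
      have hax : a * (x : G) * a⁻¹ ∈ X := (mem_normalizer_iff.mp haX x).mp x.2
      rw [← hx, hδ x hax, ← QuotientGroup.mk_inv, ← QuotientGroup.mk_inv, ← QuotientGroup.mk_mul,
        hact _ u hu, hact _ _ (hUa a haR haQ haX _ (hUX _ (x⁻¹).2 u hu)),
        hact _ _ (hUa a haR haQ haX u hu), hτmul _ _ (hXR x.2) haR, hτmul _ _ (mul_mem (hXR x.2) haR) (hXR (x⁻¹).2),
        hτmul _ _ (hXR (x * (⟨_, hax⟩ : ↥X)⁻¹).2) haR]
      exact hτc _ _ (by simp [mul_assoc]) _
    have hrel : ∀ v, τ g v + τ g⁻¹ v = v + τ e v := by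
      intro v
      set w := τ g⁻¹ v
      have hv : v = τ g w := by
        rw [hτmul g g⁻¹ hgR (inv_mem hgR)]
        exact (hτ1 _ (mul_inv_cancel g) _).symm
      have h1 := hNneg _ (hdiff w)
      rw [show τ e (w - τ g w) = _ from hτsub _ _ _] at h1
      have h2 : τ e v = τ e (τ g w) := by rw [← hv]
      have h3 : τ g v = τ e w := by
        rw [hv, hτmul g g hgR hgR]
      rw [h3, h2]
      conv_rhs => rw [hv]
      rw [sub_eq_iff_eq_add] at h1
      rw [h1]; abel
    have hS : ∀ u ∈ U, S u = Nat.card Zq • u := by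
      intro u hu
      have hadd' : ∀ a (ha : a ∈ normalizer (R : Set G)) (v w : M), τ a (v + w) = τ a v + τ a w :=
        fun a ha v w => hτadd _ v w
      have hL : ∑ z : Zq, act z (τ g (act ((z : ↥X ⧸ Kq)⁻¹) u)) +
          ∑ z : Zq, act z (τ g⁻¹ (act ((z : ↥X ⧸ Kq)⁻¹) u)) =
          Nat.card Zq • u + ∑ z : Zq, act z (τ e (act ((z : ↥X ⧸ Kq)⁻¹) u)) := by
        rw [← Finset.sum_add_distrib, Nat.card_eq_fintype_card, ← Finset.card_univ, ← Finset.sum_const,
          ← Finset.sum_add_distrib]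
        refine Finset.sum_congr rfl fun z _ => ?_
        simp only [act]
        rw [← hτadd, hrel, hτadd]
        congr 1
        obtain ⟨x, hx⟩ := QuotientGroup.mk_surjective (z : ↥X ⧸ Kq)
        have e1 : τ ((z : ↥X ⧸ Kq)⁻¹.out : ↥X) u =
            τ ((x⁻¹ : ↥X) : G) u := by
          rw [← hx, ← QuotientGroup.mk_inv]; exact hact x⁻¹ u hu
        rw [e1]
        have e2 := hact x _ (hUX _ (x⁻¹).2 u hu)
        rw [hx] at e2
        refine e2.trans ?_
        rw [hτmul _ _ (hXR x.2) (hXR (x⁻¹).2)]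
        exact hτ1 _ (mul_inv_cancel (x : G)) _
      rw [hsum u hu g hgR hgQ hgX α hα fg hfg, hsum u hu g⁻¹ (inv_mem hgR) (inv_mem hgQ) (inv_mem hgX) β hβ fh hfh,
        hsum u hu e heR heQ heX γ hγ fe hfe, ← hSadd, hrel, hSadd] at hL
      exact add_right_cancel hL
    obtain ⟨y, hy⟩ := exists_ne (1 : Subgroup.center (↥X ⧸ Kq))
    obtain ⟨x, hx⟩ := QuotientGroup.mk_surjective (y : ↥X ⧸ Kq)
    refine hy (Subtype.ext ?_)
    rw [← hx]
    refine (QuotientGroup.eq_one_iff x).mpr ⟨x.2, fun u hu => ?_⟩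
    have hyS : τ x (S u) = S u := by
      simp only [S]
      let th : M →+ M := AddMonoidHom.mk' (τ x) fun a b => hτadd _ a b
      show th (∑ z : Zq, act z u) = _
      rw [map_sum, ← Equiv.sum_comp (Equiv.mulLeft y) (fun z => act z u)]
      refine Finset.sum_congr rfl fun z _ => ?_
      obtain ⟨w, hw⟩ := QuotientGroup.mk_surjective (z : ↥X ⧸ Kq)
      show τ x (act z u) = act ((y * z : Zq) : ↥X ⧸ Kq) u
      rw [Subgroup.coe_mul, ← hx, ← hw, ← QuotientGroup.mk_mul, hact _ u hu, hact _ u hu, hτmul _ _ (hXR x.2) (hXR w.2)]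
      rfl
    rw [hS u hu] at hyS
    let th : M →+ M := AddMonoidHom.mk' (τ x) fun a b => hτadd _ a b
    have h0 : Nat.card Zq • (th u - u) = 0 := by
      rw [smul_sub, ← map_nsmul]
      exact sub_eq_zero.mpr hyS
    obtain ⟨k, hk⟩ := IsPGroup.iff_card.mp (hq.to_subgroup Zq)
    exact sub_eq_zero.mp (nsmul_coprime_eq_zero σ hR
      (by rw [hk]; exact ((Nat.coprime_primes Fact.out Fact.out).mpr hlp).pow_left _) h0)
  -- step 2
  intro x hx
  rw [mem_centralizer_singleton_iff]
  set y := e * x * e⁻¹ * x⁻¹ with hy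
  have hyX : y ∈ X := mul_mem ((mem_normalizer_iff.mp heX x).mp hx) (inv_mem hx)
  have hfixN : ∀ z (hz : z ∈ X), ∀ n ∈ N, τ z n = n := fun z hz n hn => by
    obtain ⟨_, h⟩ := hstep hz
    exact h n (hNU hn)
  have hy1 : ∀ v, τ y v = v := by
    have hdiffe : ∀ v, τ e v - v ∈ N := fun v => by
      have h1 := hdiff v
      have h2 := hdiff (τ g v)
      rw [hτmul g g hgR hgR] at h2
      have := neg_mem (add_mem h1 h2)
      convert this using 1
      rw [hτc e (g * g) rfl]
      abel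
    have hq : ∀ v, τ y v - v ∈ N := by
      intro v
      rw [hτc y (e * (x * e⁻¹ * x⁻¹)) (by simp [hy, mul_assoc]),
        ← hτmul e _ heR (mul_mem (mul_mem (hXR hx) (inv_mem heR)) (inv_mem (hXR hx))),
        ← hτmul (x * e⁻¹) x⁻¹ (mul_mem (hXR hx) (inv_mem heR)) (inv_mem (hXR hx)),
        ← hτmul x e⁻¹ (hXR hx) (inv_mem heR)]
      set a := τ x⁻¹ v
      have ha : τ x a = v := by
        rw [hτmul x x⁻¹ (hXR hx) (inv_mem (hXR hx))]; exact hτ1 _ (mul_inv_cancel x) _
      obtain ⟨n, hn, hn'⟩ : ∃ n ∈ N, τ e⁻¹ a = a + n := by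
        refine ⟨_, hdiffe a, ?_⟩
        rw [add_sub_cancel]
        exact hτc _ _ (inv_eq_of_mul_eq_one_right hee) a
      rw [hn', show τ x (a + n) = τ x a + τ x n from hτadd _ _ _, ha,
        hfixN x hx n hn, show τ e (v + n) = τ e v + τ e n from hτadd _ _ _, hNneg n hn,
        show τ e v + -n - v = (τ e v - v) - n by abel]
      exact sub_mem (hdiffe v) hn
    intro v
    have hpw : ∀ (m : ℕ) (w : M), τ (y ^ m) w = w + m • (τ y w - w) := by
      intro m
      induction m with
      | zero =>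
        intro w; rw [hτc _ 1 (pow_zero y), hτone, zero_nsmul, add_zero]
      | succ m ih =>
        intro w
        rw [hτc _ (y * y ^ m) (pow_succ' y m),
          ← hτmul y _ (hXR hyX) (hXR (pow_mem hyX m)), ih,
          show τ y (w + m • (τ y w - w)) = τ y w + τ y (m • (τ y w - w))
            from hτadd _ _ _,
          hfixN y hyX _ (AddSubgroup.nsmul_mem _ (hq w) m), succ_nsmul]
        abel
    obtain ⟨k, hk⟩ := hX ⟨y, hyX⟩
    have hk' : y ^ l ^ k = 1 := congrArg Subtype.val hk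
    have h0 := hpw (l ^ k) v
    rw [hτc _ 1 hk', hτone, left_eq_add] at h0
    exact sub_eq_zero.mp (nsmul_coprime_eq_zero σ hR
      (((Nat.coprime_primes Fact.out Fact.out).mpr hlp).pow_left _) h0)
  have hyC : y ∈ centralizer (R : Set G) := by
    refine (Cfsg.Agent.Coprime.le_centralizer_of_frattini (A := zpowers y) (K := R)
      (zpowers_le.mpr (hXR hyX)) ?_ ?_) (mem_zpowers y)
    · obtain ⟨i, hi⟩ := IsPGroup.iff_card.mp (hX.to_le (zpowers_le.mpr hyX))
      obtain ⟨j, hj⟩ := IsPGroup.iff_card.mp (hR.to_subgroup (frattini R))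
      rw [hi, hj]
      exact Nat.coprime_pow_primes _ _ Fact.out Fact.out hlp
    · intro a ha r hr
      have haX : a ∈ X := zpowers_le.mpr hyX ha
      have ha1 : τ a (σ.coord ⟨r, hr⟩) = σ.coord ⟨r, hr⟩ := by
        obtain ⟨i, rfl⟩ := mem_powers_iff_mem_zpowers.mpr ha
        induction i with
        | zero => rw [hτc _ 1 (pow_zero y), hτone]
        | succ i ih =>
          rw [hτc _ (y * y ^ i) (pow_succ' y i),
            ← hτmul y _ (hXR hyX) (hXR (pow_mem hyX i)), ih (pow_mem (mem_zpowers y) i) (pow_mem hyX i), hy1]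
      exact σ.coord_eq_iff.mp ((hτcoord a (hXR haX) ⟨r, hr⟩).symm.trans ha1)
  obtain ⟨k, hk⟩ := hX ⟨y, hyX⟩
  have h1 : y = 1 := CharP.eq_one_of_mem_pgroup hR (hC hyC) (by
    obtain ⟨i, -, hi⟩ := (Nat.dvd_prime_pow Fact.out).mp
      (orderOf_dvd_of_pow_eq_one (x := y) (n := l ^ k) (congrArg Subtype.val hk))
    rw [hi]
    exact ((Nat.coprime_primes Fact.out Fact.out).mpr hlp).pow_left _)
  exact (mul_inv_eq_iff_eq_mul.mp (mul_inv_eq_one.mp h1)).symm

end Cfsg.Agent.PLocal.Blocks
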