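import Cfsg.Agent.Lib.PLocal.Blocks.ExcCore
import Cfsg.Agent.Lib.PLocal.Blocks.Rigid
import Cfsg.Agent.Lib.PLocal.Blocks.Involutions
import Cfsg.Agent.Lib.ZStar.Main
import Cfsg.Agent.Lib.Coprime.Sylow
import Cfsg.Agent.Lib.Hall.Product

/-!
`C(W_E)` normalizes an exceptional block: the central involution of the block is isolated.
-/

set_option linter.all false
set_option autoImplicit false

namespace Cfsg.Agent.PLocal.Blocks

open Subgroup Cfsg
open scoped commutatorElement MatrixGroups Pointwise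
open Cfsg.Agent.PLocal.BlockModule (tU tL dg wl)

variable {G : Type*} [Group G] [Finite G] {p : ℕ} [Fact p.Prime] {E : Subgroup G} {T : Sylow p G}

local notation "QE" => pCoreOf p E
local notation "WE" => omegaOneCenter p (pCoreOf p E)
local notation "ZE" => omegaOneCenter p (pCoreOf p E) ⊓ Subgroup.centralizer (E : Set G)
local notation "NE" => Subgroup.normalizer (E : Set G)
local notation "NQ" => Subgroup.normalizer ((pCoreOf p E : Subgroup G) : Set G)
local notation "WC" => ⁅omegaOneCenter p (pCoreOf p E), E⁆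
local notation "CW" =>
  Subgroup.centralizer ((⁅omegaOneCenter p (pCoreOf p E), E⁆ : Subgroup G) : Set G)
local notation "BT" => baumannSubgroupOf p (T : Subgroup G)

namespace ExcData

variable {F : Type} [Field F] [Fintype F]

/-- An involution inverting both sections of the core generates it by commutation. -/
theorem core_le_commutator (D : ExcData p (T : Subgroup G) E F) {x : G} (hxN : x ∈ NE) (hxx : x * x = 1)
    (hV : ∀ v, D.actV ⟨x, NE_le_NQ hxN⟩ v = -v) (hW : ∀ v, D.modW.act ⟨x, hxN⟩ v = -v) :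
    QE ≤ ⁅QE, zpowers x⁆ := by
  haveI := charP_of_card (p := p) D.card_field
  have h2 : ∀ v : Fin 2 → F, v = -v → v = 0 := fun v h => by
    have h2 : (2 : F) ≠ 0 := fun h => by
      have := (Nat.prime_dvd_prime_iff_eq Fact.out Nat.prime_two).mp
        ((CharP.cast_eq_zero_iff F p 2).mp (by exact_mod_cast h))
      rw [D.hp3] at this; omega
    funext i
    have hi : v i + v i = 0 := add_eq_zero_iff_eq_neg.mpr (congr_fun h i)
    rw [← two_mul] at hi
    exact (mul_eq_zero.mp hi).resolve_left h2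
  have hQp : IsPGroup p ↥(QE) := CharP.isPGroup_pCoreOf p E
  have hcop : (orderOf x).Coprime p := by
    refine Nat.Coprime.coprime_dvd_left (orderOf_dvd_of_pow_eq_one (n := 2) (by rw [pow_two, hxx])) ?_
    rw [D.hp3]; decide
  have hxQ : zpowers x ≤ NQ := zpowers_le.mpr (NE_le_NQ hxN)
  have hfix : QE ⊓ centralizer (zpowers x : Set G) ≤ (ZE : Subgroup G) := by
    rintro u ⟨hu, hux⟩
    have hconj : x * u * x⁻¹ = u := by
      rw [mem_centralizer_iff.mp hux x (mem_zpowers x), mul_inv_cancel_right]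
    have huW : u ∈ WE := by
      refine (D.modV.coord_eq_zero (u := ⟨u, hu⟩)).mp (h2 _ ?_)
      rw [← hV, D.actV_coord]
      congr 1
      exact Subtype.ext hconj.symm
    refine (D.modW.coord_eq_zero (u := ⟨u, huW⟩)).mp (h2 _ ?_)
    rw [← hW, D.modW.act_coord]
    congr 1
    exact Subtype.ext hconj.symm
  have hsup := Cfsg.Agent.Coprime.commutator_sup_inf_centralizer (A := zpowers x) (K := QE) hxQ
    (CharP.coprime_zpowers_of_isPGroup hQp hcop) (.inl (solvable_zpowers x))
  set K := ⁅QE, zpowers x⁆ with hK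
  have hKQ : K ≤ QE := le_normalizer_iff_commutator_le_left.mp hxQ
  refine subgroupOf_eq_top.mp (frattini_nongenerating (eq_top_iff.mpr ?_))
  apply Subgroup.map_subtype_le_map_subtype.mp
  rw [Subgroup.map_sup, map_subgroupOf_eq_of_le hKQ, D.exc.2.2.2.1]
  refine (map_subtype_le _).trans ?_
  exact hsup.ge.trans (sup_le le_sup_left (hfix.trans le_sup_right))

/-- The centralizer of `[W,E]` normalizes an exceptional block whose core lies in the core of the group. -/
theorem centralizer_le_normalizer (D : ExcData p (T : Subgroup G) E F)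
    (hG : centralizer (pCore p G : Set G) ≤ pCore p G) (hE : IsBaumannBlock p (T : Subgroup G) E)
    (hQR : QE ≤ pCore p G) : CW ≤ NE := by
  haveI hCp : CharP F p := charP_of_card D.card_field
  obtain ⟨g, hg4, hgW, hgV⟩ := D.exists_wl hE
  set e : G := (g : G) * (g : G) with he
  have heE : e ∈ E := mul_mem g.2 g.2
  have hee : e * e = 1 := by
    rw [← hg4, he, pow_succ, pow_succ, pow_two]; simp [mul_assoc]
  have heW : ∀ v, D.modW.act ⟨e, Subgroup.le_normalizer heE⟩ v = -v := hgW
  have heV : ∀ v, D.actV ⟨e, NE_le_NQ (Subgroup.le_normalizer heE)⟩ v = -v := hgV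
  set C : Subgroup G := CW with hC
  set X0 := E ⊔ BT with hX0
  have hX0N : X0 ≤ NE := sup_le Subgroup.le_normalizer (BlockBasic.baumann_le_normalizer hE)
  have hX0C : X0 ≤ normalizer (C : Set G) := hX0N.trans le_normalizer_centralizer_WC
  set H := X0 ⊔ C with hH
  set R' := pCoreOf p H with hR'
  have hR'p : IsPGroup p R' := CharP.isPGroup_pCoreOf p H
  have hHR' : H ≤ normalizer (R' : Set G) := CharP.le_normalizer_pCoreOf p H
  have hEH : E ≤ H := le_sup_left.trans le_sup_left
  have hBH : BT ≤ H := le_sup_right.trans le_sup_left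
  have hCH : C ≤ H := le_sup_right
  obtain ⟨hRN, hRQ, hRC⟩ := core_facts hG hE
  have hRR' : pCore p G ≤ R' := CharP.le_pCoreOf (hRC.trans hCH)
    (fun x _ => by rw [normalizer_eq_top]; exact mem_top x) (CharP.isPGroup_pCore p G)
  have hCR' : centralizer (R' : Set G) ≤ R' := ((centralizer_le hRR').trans hG).trans hRR'
  have hR'N : R' ≤ NE := BlockBasic.le_normalizer_block hE hR'p (hBH.trans hHR') (hEH.trans hHR')
  have hR'C : R' ≤ C := le_centralizer_of_pgroup hE hR'p hR'N (hEH.trans hHR')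
  have hR'E : ⁅R', E⁆ ≤ QE := by
    refine le_trans (le_inf ?_ (le_normalizer_iff_commutator_le_left.mp (hEH.trans hHR')))
      (CharP.le_pCoreOf (inf_le_left : E ⊓ R' ≤ E)
        ((le_inf Subgroup.le_normalizer (hEH.trans hHR')).trans inf_normalizer_le_normalizer_inf)
        (hR'p.to_le inf_le_right))
    rw [Subgroup.commutator_comm]
    exact le_normalizer_iff_commutator_le_left.mp hR'N
  have hQR' : QE ≤ R' := hQR.trans hRR'
  have hodd : Odd (Nat.card R') := by
    obtain ⟨k, hk⟩ := IsPGroup.iff_card.mp hR'p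
    rw [hk, D.hp3]
    exact Odd.pow (by decide)
  have heH : e ∈ normalizer (R' : Set G) := hHR' (hEH heE)
  have hQe : QE = ⁅R', zpowers e⁆ := le_antisymm
    ((D.core_le_commutator (Subgroup.le_normalizer heE) hee heV heW).trans (commutator_mono hQR' le_rfl))
    ((commutator_mono le_rfl (zpowers_le.mpr heE)).trans hR'E)
  -- normalizing the core and normalizing the block
  have hA : NQ ⊓ C ≤ NE := D.le_normalizer hG hE hQR
  have hde : ∀ d ∈ C, d ∈ NQ → ⁅e, d⁆ ∈ QE := fun d hdC hdQ =>
    commutator_mem_core hE (hA ⟨hdQ, hdC⟩) hdC heE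
  have hconjC : ∀ c ∈ C, e * c * e⁻¹ ∈ C := fun c hc =>
    (mem_normalizer_iff.mp (hX0C (mem_sup_left heE)) c).mp hc
  -- conjugates commuting modulo the core
  have hkey : ∀ c ∈ C, ⁅e, c * e * c⁻¹⁆ ∈ R' → c ∈ NQ := by
    intro c hc hcomm
    have hf : (c * e * c⁻¹) * (c * e * c⁻¹) = 1 := by
      rw [show (c * e * c⁻¹) * (c * e * c⁻¹) = c * (e * e) * c⁻¹ by simp [mul_assoc], hee, mul_one,
        mul_inv_cancel]
    obtain ⟨r, hr, hre⟩ := exists_conj_commute hodd hee hf heH
      (mul_mem (mul_mem (hHR' (hCH hc)) heH) (inv_mem (hHR' (hCH hc)))) hcomm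
    set c1 := r * c with hc1
    set f := c1 * e * c1⁻¹ with hf1
    have hfe : Commute e f := by
      rw [hf1, hc1, show r * c * e * (r * c)⁻¹ = r * (c * e * c⁻¹) * r⁻¹ by simp [mul_assoc]]
      exact hre
    have hc1C : c1 ∈ C := mul_mem (hR'C hr) hc
    have hc1R : c1 ∈ normalizer (R' : Set G) := hHR' (hCH hc1C)
    have hfR : f ∈ normalizer (R' : Set G) := mul_mem (mul_mem hc1R heH) (inv_mem hc1R)
    have hfQ : f ∈ NQ := by
      rw [hQe]
      rw [mem_normalizer_iff_map_conj_eq, Subgroup.map_commutator, mem_normalizer_iff_map_conj_eq.mp hfR,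
        MonoidHom.map_zpowers]
      congr 2
      show f * e * f⁻¹ = e
      rw [← hfe.eq, mul_inv_cancel_right]
    have hdC : e * f ∈ C := by
      rw [hfe.eq, hf1, show c1 * e * c1⁻¹ * e = c1 * (e * c1⁻¹ * e⁻¹) * (e * e) by simp [mul_assoc],
        hee, mul_one]
      exact mul_mem hc1C (hconjC _ (inv_mem hc1C))
    have hdQ : e * f ∈ NQ := mul_mem (NE_le_NQ (Subgroup.le_normalizer heE)) hfQ
    have hdN : e * f ∈ NE := hA ⟨hdQ, hdC⟩
    have hfN : f ∈ NE := by
      have := mul_mem (inv_mem (Subgroup.le_normalizer heE : e ∈ NE)) hdN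
      rwa [inv_mul_cancel_left] at this
    have heq : ∀ (M : Type) (α : Type) (φ : ↥NE →* Equiv.Perm M), φ ⟨e * f, hdN⟩ = 1 →
        φ ⟨f, hfN⟩ = φ ⟨e, Subgroup.le_normalizer heE⟩ := by
      intro M α φ h
      have e1 : (⟨f, hfN⟩ : ↥NE) = ⟨e, Subgroup.le_normalizer heE⟩⁻¹ * ⟨e * f, hdN⟩ := Subtype.ext (by simp)
      have e2 : (⟨e, Subgroup.le_normalizer heE⟩ : ↥NE)⁻¹ = ⟨e, Subgroup.le_normalizer heE⟩ :=
        Subtype.ext (inv_eq_of_mul_eq_one_right hee)
      rw [e1, map_mul, h, mul_one, e2]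
    have hfV : ∀ v, D.actV ⟨f, NE_le_NQ hfN⟩ v = -v := fun v => by
      have h := heq (Fin 2 → F) Unit (D.actV.comp (Subgroup.inclusion NE_le_NQ))
        (D.actV_eq_one hG hE hdQ hdC hdN)
      exact (Equiv.congr_fun h v).trans (heV v)
    have hfW : ∀ v, D.modW.act ⟨f, hfN⟩ v = -v := fun v => by
      rw [heq _ Unit D.modW.act ((D.modW.act_eq_one_iff hE _).mpr hdC)]
      exact heW v
    have hff : f * f = 1 := by
      rw [hf1, show c1 * e * c1⁻¹ * (c1 * e * c1⁻¹) = c1 * (e * e) * c1⁻¹ by simp [mul_assoc], hee, mul_one,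
        mul_inv_cancel]
    have hle : QE ≤ (QE).map (MulAut.conj c1).toMonoidHom := by
      conv_rhs => rw [hQe]
      rw [Subgroup.map_commutator,
        show R'.map (MulAut.conj c1).toMonoidHom = R' from mem_normalizer_iff_map_conj_eq.mp hc1R, MonoidHom.map_zpowers]
      exact (D.core_le_commutator hfN hff hfV hfW).trans (commutator_mono hQR' le_rfl)
    have hc1Q : c1 ∈ NQ := by
      rw [mem_normalizer_iff_map_conj_eq]
      exact (eq_of_le_of_card_ge hle (card_map_of_injective (MulAut.conj c1).injective).le).symm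
    have := mul_mem (inv_mem (NE_le_NQ (hR'N hr) : r ∈ NQ)) hc1Q
    rwa [hc1, inv_mul_cancel_left] at this
  -- the involution is isolated in the quotient
  haveI hn : (R'.subgroupOf H).Normal := normal_subgroupOf_of_le_normalizer hHR'
  let eb : ↥H ⧸ R'.subgroupOf H := QuotientGroup.mk ⟨e, hEH heE⟩
  have heR' : e ∉ R' := by
    intro h
    have h1 : D.modW.onBlock ⟨e, heE⟩ = 1 := (D.modW.act_eq_one_iff hE _).mpr (hR'C h)
    have h2 := heW ![1, 0]
    rw [show D.modW.act ⟨e, Subgroup.le_normalizer heE⟩ = 1 from h1, Equiv.Perm.one_apply] at h2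
    have h3 : (1 : F) = -1 := by have := congr_fun h2 0; simpa using this
    have h4 : ((2 : ℕ) : F) = 0 := by push_cast; linear_combination h3
    have := (Nat.prime_dvd_prime_iff_eq Fact.out Nat.prime_two).mp ((CharP.cast_eq_zero_iff F p 2).mp h4)
    rw [D.hp3] at this; omega
  have hiso : Cfsg.IsIsolatedInvolution eb := by
    refine ⟨orderOf_eq_prime ?_ ?_, fun hb hcomm => ?_⟩
    · rw [pow_two, ← QuotientGroup.mk_mul, show (⟨e, hEH heE⟩ : ↥H) * ⟨e, hEH heE⟩ = 1 from Subtype.ext hee]
      rfl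
    · intro h
      exact heR' ((QuotientGroup.eq_one_iff (⟨e, hEH heE⟩ : ↥H)).mp h)
    induction hb using QuotientGroup.induction_on with
    | H h =>
      obtain ⟨h, hh⟩ := h
      have hh' : h ∈ ((X0 ⊔ C : Subgroup G) : Set G) := hh
      rw [Subgroup.coe_mul_of_left_le_normalizer_right _ _ hX0C] at hh'
      obtain ⟨y, hy, c', hc', rfl⟩ := hh'
      set c := y * c' * y⁻¹ with hc_def
      have hcC : c ∈ C := (mem_normalizer_iff.mp (hX0C hy) c').mp hc'
      have hyN := hX0N hy
      -- `y` fixes the involution modulo the core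
      have hye : y * e * y⁻¹ * e⁻¹ ∈ QE := by
        rw [← inf_centralizer_eq_core hE, mem_inf]
        have hyE : y * e * y⁻¹ ∈ E := (mem_normalizer_iff.mp hyN e).mp heE
        refine ⟨mul_mem hyE (inv_mem heE), ?_⟩
        have hmem : y * e * y⁻¹ * e⁻¹ ∈ NE := Subgroup.le_normalizer (mul_mem hyE (inv_mem heE))
        refine (D.modW.act_eq_one_iff hE ⟨_, hmem⟩).mp ?_
        rw [show (⟨y * e * y⁻¹ * e⁻¹, hmem⟩ : ↥NE) =
          ⁅(⟨y, hyN⟩ : ↥NE), ⟨e, Subgroup.le_normalizer heE⟩⁆ from Subtype.ext rfl,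
          map_commutatorElement, commutatorElement_eq_one_iff_mul_comm]
        refine Equiv.ext fun v => ?_
        rw [Equiv.Perm.mul_apply, Equiv.Perm.mul_apply, heW, heW]
        have h1 := D.modW.act_add ⟨y, hyN⟩ (-v) v
        have h0 := D.modW.act_add ⟨y, hyN⟩ 0 0
        rw [add_zero] at h0
        rw [neg_add_cancel, add_eq_left.mp h0.symm] at h1
        exact eq_neg_of_add_eq_zero_left h1.symm
      have hyc : y * c' = c * y := by rw [hc_def]; simp [mul_assoc]
      have hsame : (QuotientGroup.mk ⟨y * c', hh⟩ * eb * (QuotientGroup.mk ⟨y * c', hh⟩)⁻¹ :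
          ↥H ⧸ R'.subgroupOf H) =
          QuotientGroup.mk ⟨c * e * c⁻¹, mul_mem (mul_mem (hCH hcC) (hEH heE)) (inv_mem (hCH hcC))⟩ := by
        rw [← QuotientGroup.mk_inv, ← QuotientGroup.mk_mul, ← QuotientGroup.mk_mul, QuotientGroup.eq_iff_div_mem,
          div_eq_mul_inv, mem_subgroupOf]
        show y * c' * e * (y * c')⁻¹ * (c * e * c⁻¹)⁻¹ ∈ R'
        rw [hyc, show c * y * e * (c * y)⁻¹ * (c * e * c⁻¹)⁻¹ = c * (y * e * y⁻¹ * e⁻¹) * c⁻¹ by simp [mul_assoc]]
        exact (mem_normalizer_iff.mp (hHR' (hCH hcC)) _).mp (hQR' hye)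
      rw [hsame] at hcomm ⊢
      have hcR : ⁅e, c * e * c⁻¹⁆ ∈ R' := by
        have h1 := commutatorElement_eq_one_iff_commute.mpr hcomm
        have h2 : QuotientGroup.mk' (R'.subgroupOf H) ⁅(⟨e, hEH heE⟩ : ↥H),
            ⟨c * e * c⁻¹, mul_mem (mul_mem (hCH hcC) (hEH heE)) (inv_mem (hCH hcC))⟩⁆ = 1 := by
          rw [map_commutatorElement]; exact h1
        have h3 := (QuotientGroup.eq_one_iff _).mp h2
        exact h3
      have hcQ := hkey c hcC hcR
      rw [QuotientGroup.eq_iff_div_mem, div_eq_mul_inv, mem_subgroupOf]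
      show c * e * c⁻¹ * e⁻¹ ∈ R'
      have := inv_mem (hde c hcC hcQ)
      rw [commutatorElement_inv, commutatorElement_def] at this
      exact hQR' this
  -- the odd core centralizing `[W,E]`
  set O := (Cfsg.oddCore (↥H ⧸ R'.subgroupOf H)).comap (QuotientGroup.mk' (R'.subgroupOf H)) with hO
  set K := O.map H.subtype ⊓ C with hK
  have hOodd : Odd (Nat.card O) := by
    have h1 := Cores.card_comap_mk' (R'.subgroupOf H) (Cfsg.oddCore (↥H ⧸ R'.subgroupOf H))
    rw [hO, h1, Nat.card_congr (subgroupOfEquivOfLe (CharP.pCoreOf_le p H)).toEquiv]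
    first
      | exact hodd.mul InvChar.Core.odd_card_oddCore
      | exact InvChar.Core.odd_card_oddCore.mul hodd
  have hKodd : Odd (Nat.card K) := by
    refine hOodd.of_dvd_nat ?_
    rw [← card_map_of_injective H.subtype_injective]
    exact card_dvd_of_le inf_le_left
  have hHK : H ≤ normalizer (K : Set G) := by
    refine le_trans (le_inf ?_ ?_) inf_normalizer_le_normalizer_inf
    · haveI : O.Normal := Subgroup.Normal.comap (by infer_instance) _
      intro h hh
      refine le_normalizer_map H.subtype ⟨⟨h, hh⟩, ?_, rfl⟩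
      exact (normalizer_eq_top_iff.mpr inferInstance).ge (mem_top _)
    · exact sup_le hX0C Subgroup.le_normalizer
  have hR'K : R' ≤ K := by
    refine le_inf (fun r hr => ⟨⟨r, CharP.pCoreOf_le p H hr⟩, ?_, rfl⟩) hR'C
    show QuotientGroup.mk' (R'.subgroupOf H) _ ∈ Cfsg.oddCore _
    have h1 : QuotientGroup.mk' (R'.subgroupOf H) (⟨r, CharP.pCoreOf_le p H hr⟩ : ↥H) = 1 :=
      (QuotientGroup.eq_one_iff _).mpr hr
    rw [h1]
    exact one_mem _
  have hgN : (g : G) ∈ H := hEH g.2
  have hfixQ : ∀ z ∈ C, z ∈ normalizer (R' : Set G) → z * e = e * z → z ∈ NQ := by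
    intro z _ hzR hze
    rw [hQe, mem_normalizer_iff_map_conj_eq, Subgroup.map_commutator, mem_normalizer_iff_map_conj_eq.mp hzR,
      MonoidHom.map_zpowers]
    congr 2
    show z * e * z⁻¹ = e
    rw [hze, mul_inv_cancel_right]
  -- invariant Sylow subgroups for the other primes normalize the core
  have hsyl : ∀ (l : ℕ), l.Prime → l ≠ p → ∀ X : Subgroup G, X ≤ K → IsPGroup l X →
      (g : G) ∈ normalizer (X : Set G) → X ≤ NQ := by
    intro l hl hlp X hXK hX hgX
    haveI := Fact.mk hl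
    by_cases hl2 : l = 2
    · subst hl2
      obtain ⟨k, hk⟩ := IsPGroup.iff_card.mp hX
      have h1 : Odd (Nat.card X) := hKodd.of_dvd_nat (card_dvd_of_le hXK)
      rw [hk] at h1
      have hk0 : k = 0 := by
        by_contra h
        exact (Nat.not_odd_iff_even.mpr (Nat.even_pow.mpr ⟨even_two, h⟩)) h1
      rw [hk0, pow_zero, Subgroup.card_eq_one] at hk
      rw [hk]; exact bot_le
    have hXC : X ≤ C := hXK.trans inf_le_right
    have hXR : X ≤ normalizer (R' : Set G) := hXC.trans (hCH.trans hHR')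
    have hcent := le_centralizer_of_rigid (p := p) (l := l) (R := R') (X := X) (Q := QE) (g := (g : G))
      hlp hl2 hR'p hCR' hX hXR (hHR' hgN) hgX hg4 hQR'
      (fun r hr => hR'E (commutator_mem_commutator hr g.2))
      (CharP.le_normalizer_pCoreOf p E g.2)
      (D.core_le_commutator (Subgroup.le_normalizer heE) hee heV heW) ?_
    · intro x hx
      exact hfixQ x (hXC hx) (hXR hx) (mem_centralizer_singleton_iff.mp (hcent hx))
    intro z hz hze
    have hzQ := hfixQ z (hXC hz) (hXR hz) hze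
    have hzN := hA ⟨hzQ, hXC hz⟩
    refine D.mem_centralizer_core hE hzQ (hXC hz) (D.actV_eq_one hG hE hzQ (hXC hz) hzN) ?_
    obtain ⟨k, hk⟩ := hX ⟨z, hz⟩
    refine Nat.Coprime.coprime_dvd_left (orderOf_dvd_of_pow_eq_one (congrArg Subtype.val hk)) ?_
    exact ((Nat.coprime_primes hl Fact.out).mpr hlp).pow_left _
  -- the commutators of the involution with the odd core lie in the core
  have hKQ : K ≤ NQ := by
    have hcopK : ∀ m, m ∣ 4 → m.Coprime (Nat.card K) := fun m hm =>
      Nat.Coprime.coprime_dvd_left hm ((Nat.coprime_two_left.mpr hKodd).pow_left 2)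
    have hcop : (Nat.card (zpowers (g : G))).Coprime (Nat.card K) := by
      rw [Nat.card_zpowers]
      exact hcopK _ (orderOf_dvd_of_pow_eq_one hg4)
    have hgK : zpowers (g : G) ≤ normalizer (K : Set G) := (zpowers_le.mpr hgN).trans hHK
    set KQ := K ⊓ NQ with hKQdef
    obtain ⟨P, hP⟩ := Cfsg.Agent.Coprime.exists_invariant_sylow p hgK hcop (.inl (solvable_zpowers _))
    set P0 := (P : Subgroup K).map K.subtype with hP0
    have hP0p : IsPGroup p P0 := P.2.map _
    have hP0K : P0 ≤ K := map_subtype_le _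
    have hidx : ∀ k ∈ K, ∃ π ∈ P0, ∃ m ∈ KQ, k = π * m := by
      have hdvd : Nat.card K * Nat.card ↥(P0 ⊓ KQ) ∣ Nat.card P0 * Nat.card KQ := by
        rw [← Nat.factorization_le_iff_dvd (Nat.mul_ne_zero Nat.card_pos.ne' Nat.card_pos.ne')
          (Nat.mul_ne_zero Nat.card_pos.ne' Nat.card_pos.ne')]
        intro l
        by_cases hl : l.Prime
        swap
        · rw [Nat.factorization_eq_zero_of_not_prime _ hl]; exact Nat.zero_le _
        haveI := Fact.mk hl
        rw [Nat.factorization_mul Nat.card_pos.ne' Nat.card_pos.ne', Finsupp.add_apply,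
          Nat.factorization_mul Nat.card_pos.ne' Nat.card_pos.ne', Finsupp.add_apply]
        by_cases hlp : l = p
        · subst hlp
          refine add_le_add ?_ ((Nat.factorization_le_iff_dvd Nat.card_pos.ne' Nat.card_pos.ne').mpr
            (card_dvd_of_le inf_le_right) l)
          rw [hP0, card_map_of_injective K.subtype_injective, P.card_eq_multiplicity,
            Nat.factorization_pow, Finsupp.smul_apply, hl.factorization_self, smul_eq_mul, mul_one]
        · obtain ⟨j, hj⟩ := IsPGroup.iff_card.mp (hP0p.to_le (inf_le_left : P0 ⊓ KQ ≤ P0))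
          rw [hj, Nat.factorization_pow, Finsupp.smul_apply,
            Nat.factorization_eq_zero_of_not_dvd (fun h => hlp ((Nat.prime_dvd_prime_iff_eq hl Fact.out).mp h)),
            smul_zero, add_zero]
          refine le_add_left ?_
          obtain ⟨L, hL⟩ := Cfsg.Agent.Coprime.exists_invariant_sylow l hgK hcop (.inl (solvable_zpowers _))
          have hLQ : (L : Subgroup K).map K.subtype ≤ KQ :=
            le_inf (map_subtype_le _) (hsyl l hl hlp _ (map_subtype_le _) (L.2.map _) (hL (mem_zpowers _)))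
          have h1 := card_dvd_of_le hLQ
          rw [card_map_of_injective K.subtype_injective, L.card_eq_multiplicity] at h1
          exact (hl.pow_dvd_iff_le_factorization Nat.card_pos.ne').mp h1
      -- the product of the two subgroups is everything
      have hsub : ((P0 : Set G) * (KQ : Set G)) ⊆ (K : Set G) := by
        rintro _ ⟨a, ha, b, hb, rfl⟩
        exact mul_mem (hP0K ha) hb.1
      have hcard : Nat.card ((P0 : Set G) * (KQ : Set G) : Set G) * Nat.card ↥(P0 ⊓ KQ) =
          Nat.card P0 * Nat.card KQ := by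
        exact Hall.card_mul_inf P0 KQ
      intro k hk
      have heq : ((P0 : Set G) * (KQ : Set G)) = (K : Set G) := by
        refine Set.eq_of_subset_of_ncard_le hsub ?_ (Set.toFinite _)
        rw [← Nat.card_coe_set_eq, ← Nat.card_coe_set_eq]
        have hpos : 0 < Nat.card ↥(P0 ⊓ KQ) := Nat.card_pos
        refine Nat.le_of_mul_le_mul_right ?_ hpos
        rw [hcard]
        exact Nat.le_of_dvd (Nat.mul_pos Nat.card_pos Nat.card_pos) hdvd
      obtain ⟨π, hπ, m, hm, rfl⟩ := (heq ▸ hk : k ∈ (P0 : Set G) * (KQ : Set G))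
      exact ⟨π, hπ, m, hm, rfl⟩
    have heK : zpowers e ≤ normalizer (K : Set G) := (zpowers_le.mpr (hEH heE)).trans hHK
    have hePn : e ∈ normalizer (P0 : Set G) := mul_mem (hP (mem_zpowers _)) (hP (mem_zpowers _))
    have hR'P : R' ≤ P0 := by
      have : R'.subgroupOf K ≤ (P : Subgroup K) := by
        haveI : (R'.subgroupOf K).Normal :=
          normal_subgroupOf_of_le_normalizer ((inf_le_left.trans (map_subtype_le _)).trans hHR')
        exact le_trans (Cores.le_pCore (hR'p.of_equiv (subgroupOfEquivOfLe hR'K).symm))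
          (Cores.pCore_le_sylow P)
      intro r hr
      exact ⟨⟨r, hR'K hr⟩, this hr, rfl⟩
    have hcomm : ⁅K, zpowers e⁆ ≤ P0 := by
      rw [commutator_le]
      intro k hk z hz
      obtain ⟨π, hπ, m, hm, rfl⟩ := hidx k hk
      have hze : z = 1 ∨ z = e := by
        obtain ⟨i, rfl⟩ := mem_powers_iff_mem_zpowers.mpr hz
        show e ^ i = 1 ∨ e ^ i = e
        rcases Nat.even_or_odd' i with ⟨j, rfl | rfl⟩
        · left; rw [pow_mul, pow_two, hee, one_pow]
        · right; rw [pow_succ, pow_mul, pow_two, hee, one_pow, one_mul]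
      rcases hze with rfl | rfl
      · simp
      rw [commutatorElement_mul_left_eq_conj_mul]
      refine mul_mem ?_ ?_
      · refine (mem_normalizer_iff.mp (Subgroup.le_normalizer hπ) _).mp (hR'P (hQR' ?_))
        rw [← commutatorElement_inv, inv_mem_iff]
        exact hde m hm.1.2 hm.2
      · rw [commutatorElement_def, mul_assoc (π * e), mul_assoc π, ← mul_assoc e]
        exact mul_mem hπ ((mem_normalizer_iff.mp hePn _).mp (inv_mem hπ))
    have hcR : ⁅K, zpowers e⁆ ≤ R' := by
      have h1 : ⁅K, zpowers e⁆ ≤ K := le_normalizer_iff_commutator_le_left.mp heK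
      refine (CharP.le_pCoreOf h1 (normalizer_commutator_ge_left K _) (hP0p.to_le hcomm)).trans ?_
      exact CharP.le_pCoreOf ((CharP.pCoreOf_le p K).trans ((inf_le_right : K ≤ C).trans hCH))
        (hHK.trans (CharP.normalizer_le_normalizer_pCoreOf p K)) (CharP.isPGroup_pCoreOf p K)
    intro k hk
    refine hkey k hk.2 ?_
    have h1 : ⁅k, e⁆ ∈ R' := hcR (commutator_mem_commutator hk (mem_zpowers e))
    rw [show ⁅e, k * e * k⁻¹⁆ = (e * ⁅k, e⁆ * e⁻¹) * ((e * e) * ⁅k, e⁆⁻¹ * (e * e)⁻¹) * 1 from ?_]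
    · refine mul_mem (mul_mem ((mem_normalizer_iff.mp heH _).mp h1) ?_) (one_mem _)
      rw [hee, one_mul, inv_one, mul_one]
      exact inv_mem h1
    · simp [commutatorElement_def, mul_assoc]
      rw [inv_eq_of_mul_eq_one_right hee]
      simp [← mul_assoc, hee]
  -- conclusion
  intro c hc
  refine hA ⟨hkey c hc ?_, hc⟩
  have hh := ZStar.Main.commutator_mem_oddCore hiso
    (QuotientGroup.mk (⟨c, hCH hc⟩ : ↥H) : ↥H ⧸ R'.subgroupOf H)
  have hk : ⁅e, c⁆ ∈ K := by
    refine ⟨⟨⁅(⟨e, hEH heE⟩ : ↥H), ⟨c, hCH hc⟩⁆, hh, rfl⟩, ?_⟩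
    show ⁅e, c⁆ ∈ C
    rw [commutatorElement_def]
    exact mul_mem (hconjC c hc) (inv_mem hc)
  have hkQ := hKQ hk
  have hk2 : ⁅e, c⁆ ∈ C := hk.2
  have h1 : ⁅e, c * e * c⁻¹⁆ = (⁅e, ⁅e, c⁆⁻¹⁆) := by
    simp [commutatorElement_def, mul_assoc]
  rw [h1]
  exact hQR' (hde _ (inv_mem hk2) (inv_mem hkQ))

end ExcData

/-- The centralizer of `[W,E]` normalizes the block. -/
theorem centralizer_le_normalizer (hG : centralizer (pCore p G : Set G) ≤ pCore p G)
    (hE : IsBaumannBlock p (T : Subgroup G) E) : CW ≤ NE := by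
  rcases core_eq_or_exc hE with h | ⟨F, iF, iFt, iC, hp, ⟨D⟩⟩
  · exact le_normalizer_of_core_le hG hE (h ▸ inf_le_left)
  have hirr : ∀ u ∈ QE ⊓ pCore p G, u ∈ WE ∨ QE ≤ pCore p G := by
    intro u hu
    by_cases huW : u ∈ WE
    · exact Or.inl huW
    right
    let A : AddSubgroup (Fin 2 → F) :=
      { carrier := {v | ∃ q, ∃ hq : q ∈ QE, q ∈ pCore p G ∧ D.modV.coord ⟨q, hq⟩ = v}
        zero_mem' := ⟨1, one_mem _, one_mem _, (D.modV.coord_eq_zero).mpr (one_mem _)⟩
        add_mem' := by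
          rintro _ _ ⟨a, ha, ha', rfl⟩ ⟨b, hb, hb', rfl⟩
          exact ⟨a * b, mul_mem ha hb, mul_mem ha' hb', D.modV.coord_mul ⟨a, ha⟩ ⟨b, hb⟩⟩
        neg_mem' := by
          rintro _ ⟨a, ha, ha', rfl⟩
          exact ⟨a⁻¹, inv_mem ha, inv_mem ha', D.modV.coord_inv ⟨a, ha⟩⟩ }
    have hA : A = ⊥ ∨ A = ⊤ := BlockModule.linear_irreducible (Fact.out : p.Prime) D.card_field A
      fun s hs v hv => by
        obtain ⟨e, rfl⟩ := D.repV_range.ge hs
        obtain ⟨q, hq, hq', rfl⟩ := hv
        obtain ⟨w, hw, h⟩ := D.repV_spec e ⟨q, hq⟩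
        refine ⟨w, w.2, ?_, h⟩
        rw [hw]
        exact (inferInstance : (pCore p G).Normal).conj_mem _ hq' _
    rcases hA with hA | hA
    · refine absurd ((D.modV.coord_eq_zero (u := ⟨u, hu.1⟩)).mp ?_) huW
      have : D.modV.coord ⟨u, hu.1⟩ ∈ A := ⟨u, hu.1, hu.2, rfl⟩
      rwa [hA, AddSubgroup.mem_bot] at this
    intro q hq
    have hW0 : (WC : Subgroup G) ≤ pCore p G :=
      ((BlockLocation.main hG hE).2.1).trans ((Omega.omegaOne_le _).trans inf_le_left)
    have hcov : ∀ x ∈ QE, ∃ a ∈ QE ⊓ pCore p G, ∃ w ∈ WE, x = a * w := by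
      intro x hx
      obtain ⟨a, ha, ha', hxa⟩ : D.modV.coord ⟨x, hx⟩ ∈ A := hA ▸ AddSubgroup.mem_top _
      refine ⟨a, ⟨ha, ha'⟩, a⁻¹ * x, ?_, by simp⟩
      have := (D.modV.coord_eq_iff (u := ⟨a, ha⟩⁻¹ * ⟨x, hx⟩) (v := 1)).mp (by
        rw [Sect.coord_mul, Sect.coord_inv, hxa, neg_add_cancel]
        exact ((D.modV.coord_eq_zero).mpr (one_mem _)).symm)
      simpa using this
    have hle : ⁅QE, E⁆ ≤ pCore p G := by
      rw [commutator_le]
      intro x hx y hy
      obtain ⟨a, ha, w, hw, rfl⟩ := hcov x hx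
      rw [commutatorElement_mul_left_eq_conj_mul]
      exact mul_mem ((inferInstance : (pCore p G).Normal).conj_mem _
        (hW0 (commutator_mem_commutator hw hy)) _)
        (le_normalizer_iff_commutator_le_left.mp
          (fun z _ => by rw [normalizer_eq_top]; exact mem_top z : E ≤ normalizer (pCore p G : Set G))
          (commutator_mem_commutator ha.2 hy))
    rw [hE.2.2.1] at hle
    exact hle hq
  by_cases hQR : QE ≤ pCore p G
  · exact D.centralizer_le_normalizer hG hE hQR
  · exact le_normalizer_of_core_le hG hE fun u hu => (hirr u hu).resolve_right hQR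

end Cfsg.Agent.PLocal.Blocks
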