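import Cfsg.Agent.Lib.PLocal.Blocks.Offenders

/-!
The Baumann subgroup acts on the natural module of a linear block by transvections.
-/

set_option linter.all false
set_option autoImplicit false

namespace Cfsg.Agent.PLocal.Blocks

open Subgroup Cfsg
open Cfsg.Agent.PLocal.ThompsonSubgroup
open scoped commutatorElement MatrixGroups
open Cfsg.Agent.PLocal.BlockModule (tU tL dg wl permAct)

variable {G : Type*} [Group G] [Finite G] {p : ℕ} [Fact p.Prime] {E : Subgroup G} {T : Sylow p G}
variable {F : Type} [Field F] [Fintype F] [CharP F p]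

local notation "WE" => omegaOneCenter p (pCoreOf p E)
local notation "ZE" => omegaOneCenter p (pCoreOf p E) ⊓ Subgroup.centralizer (E : Set G)
local notation "NE" => Subgroup.normalizer (E : Set G)
local notation "WC" => ⁅omegaOneCenter p (pCoreOf p E), E⁆

/-- An element of `SL₂` as an additive automorphism of the module. -/
def linAdd (g : SL(2, F)) : (Fin 2 → F) ≃+ (Fin 2 → F) :=
  { SL2.lin g with map_add' := SL2.isAdd_lin g }

omit [CharP F p] in
theorem linAdd_toEquiv (g : SL(2, F)) : (linAdd g).toEquiv = SL2.lin g := rfl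

omit [CharP F p] in
/-- Coordinates in which a given `p`-subgroup fixes the first basis vector. -/
theorem exists_fix_first [CharP F p] (ρ : Rep p E (Fin 2 → F)) (hρ : ρ.onBlock.range = SL2.img F)
    {A : Subgroup G} (hA : IsPGroup p A) :
    ∃ ρ' : Rep p E (Fin 2 → F), ρ'.onBlock.range = SL2.img F ∧
      ∀ a ∈ ρ'.image A, a ![1, 0] = ![1, 0] := by
  obtain ⟨v, hv0, hv⟩ := SL2.exists_fixed (p := p) (ρ.image A) (ρ.isPGroup_image hA) (by
    rintro _ ⟨a, -, rfl⟩; exact ρ.isAdd_act a)
  obtain ⟨g, hg⟩ := SL2.exists_lin_apply_eq v hv0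
  refine ⟨ρ.trans (linAdd g⁻¹), ?_, ?_⟩
  · ext σ
    have hn := inv_mem (SL2.lin_mem_normalizer g)
    constructor
    · rintro ⟨e, rfl⟩
      rw [Rep.onBlock_apply, Rep.trans_act, linAdd_toEquiv, map_inv]
      exact (mem_normalizer_iff.mp hn _).mp (hρ ▸ ⟨e, rfl⟩)
    · intro hσ
      obtain ⟨e, he⟩ : SL2.lin g * σ * (SL2.lin g)⁻¹ ∈ ρ.onBlock.range :=
        hρ ▸ (mem_normalizer_iff.mp (SL2.lin_mem_normalizer g) σ).mp hσ
      refine ⟨e, ?_⟩
      rw [Rep.onBlock_apply, Rep.trans_act, ← Rep.onBlock_apply, he, linAdd_toEquiv, map_inv]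
      simp [mul_assoc]
  · rintro _ ⟨a, ha, rfl⟩
    rw [Rep.trans_act, linAdd_toEquiv, map_inv, inv_inv]
    show (SL2.lin g)⁻¹ (ρ.act a (SL2.lin g ![1, 0])) = ![1, 0]
    rw [hg, hv _ ⟨a, ha, rfl⟩, ← hg]
    exact (SL2.lin g).symm_apply_apply _

/-- The first coordinate line. -/
def line (F : Type) [Field F] : AddSubgroup (Fin 2 → F) where
  carrier := {v | v 1 = 0}
  zero_mem' := rfl
  add_mem' := fun {v w} hv hw => by
    show v 1 + w 1 = 0
    rw [show v 1 = 0 from hv, show w 1 = 0 from hw, add_zero]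
  neg_mem' := fun {v} hv => by
    show -v 1 = 0
    rw [show v 1 = 0 from hv, neg_zero]

omit [CharP F p] in
theorem card_line : Nat.card (line F) = Nat.card F :=
  Nat.card_congr
    { toFun := fun v => (v : Fin 2 → F) 0
      invFun := fun x => ⟨![x, 0], rfl⟩
      left_inv := fun v => Subtype.ext (by
        have h : (v : Fin 2 → F) 1 = 0 := v.2
        ext i; fin_cases i <;> simp [h])
      right_inv := fun x => rfl }

omit [CharP F p] in
theorem card_module : Nat.card (Fin 2 → F) = Nat.card F * Nat.card F := by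
  rw [Nat.card_fun, Nat.card_eq_fintype_card (α := Fin 2), Fintype.card_fin, pow_two]

/-- The part of `[W,E]` lying over the first line. -/
def overLine (ρ : Rep p E (Fin 2 → F)) : Subgroup G :=
  ((AddSubgroup.toSubgroup (line F)).comap ρ.onWC).map (Subgroup.subtype _)

theorem overLine_le (ρ : Rep p E (Fin 2 → F)) : overLine ρ ≤ (WC : Subgroup G) := map_subtype_le _

/-- The Baumann subgroup induces transvections with a common centre. -/
theorem exists_adapted (hE : IsBaumannBlock p (T : Subgroup G) E) (ρ₀ : Rep p E (Fin 2 → F))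
    (hρ₀ : ρ₀.onBlock.range = SL2.img F) :
    ∃ ρ : Rep p E (Fin 2 → F), ρ.onBlock.range = SL2.img F ∧
      overLine ρ ≤ centralizer (baumannSubgroupOf p (T : Subgroup G) : Set G) ∧
      ∀ b, ∀ hb : b ∈ baumannSubgroupOf p (T : Subgroup G), ∃ s,
        ρ.act ⟨b, BlockBasic.baumann_le_normalizer hE hb⟩ = SL2.lin (tU s) := by
  set B := baumannSubgroupOf p (T : Subgroup G)
  have hBp : IsPGroup p B := T.2.to_le (BlockBasic.baumann_le _)
  have hBN : B ≤ NE := BlockBasic.baumann_le_normalizer hE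
  obtain ⟨ρ, hρ, hfix⟩ := exists_fix_first ρ₀ hρ₀ hBp
  have hA : ∀ A ∈ maxElementaryAbelianSubgroups p G, A ≤ (T : Subgroup G) →
      A ≤ centralizer (overLine ρ : Set G) := by
    intro A hA hAT
    have hAB : A ≤ B := (le_thompsonSubgroupOf hA hAT).trans (BlockBasic.thompson_le_baumann _)
    have hAN : A ≤ NE := hAB.trans hBN
    have hoff := ρ.card_le_image_mul_fixed hE hA hAN
    obtain ⟨hcomm, hexp⟩ := ρ.image_elementary (p := p) hA.1
    have hadd : ∀ a ∈ ρ.image A, SL2.IsAdd a := by rintro _ ⟨a, -, rfl⟩; exact ρ.isAdd_act a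
    have hnorm : ρ.image A ≤ normalizer (SL2.img F : Set (Equiv.Perm (Fin 2 → F))) := by
      rintro _ ⟨a, -, rfl⟩; exact ρ.act_mem_normalizer_img hρ a
    rcases SL2.elementary_dichotomy (p := p) (ρ.image A) hadd hnorm hcomm hexp
      (by rintro _ ⟨a, ha, rfl⟩; exact hfix _ ⟨a, hAB ha, rfl⟩) with hU | ⟨hlt, -⟩
    swap
    · exact absurd hoff (not_le.mpr hlt)
    rw [le_centralizer_iff]
    by_cases htriv : ρ.image A = ⊥
    · refine (overLine_le ρ).trans (le_centralizer_iff.mp fun a ha => ?_)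
      refine (ρ.act_eq_one_iff hE ⟨a, hAN ha⟩).mp ?_
      have := ρ.mem_image hAN ha
      rwa [htriv, mem_bot] at this
    -- a nontrivial group of transvections fixes only the line
    have hle : ρ.fixedAdd A ≤ line F := by
      intro v hv
      obtain ⟨a, ha, ha1⟩ := (ρ.image A).ne_bot_iff_exists_ne_one.mp htriv |>
        fun ⟨a, ha⟩ => (⟨a, a.2, fun e => ha (Subtype.ext e)⟩ : ∃ a, a ∈ ρ.image A ∧ a ≠ 1)
      obtain ⟨s, rfl⟩ := hU a ha
      have h := congr_fun (hv _ ha) 0
      rw [SL2.tU_apply] at h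
      simp at h
      refine h.resolve_left fun hs => ha1 ?_
      rw [hs, SL2.tU_zero, map_one]
    have hq : Nat.card (ρ.image A) ≤ Nat.card F := by
      choose s hs using fun a : ρ.image A => hU a a.2
      exact Nat.card_le_card_of_injective s fun a b e => Subtype.ext (by rw [hs, hs, e])
    have h1 : Nat.card (ρ.onWC.ker) * Nat.card (Fin 2 → F) ≤
        Nat.card (ρ.image A) * Nat.card ↥((WC : Subgroup G) ⊓ centralizer (A : Set G)) := by
      rw [ρ.card_ker_mul_card hE, ρ.card_image hE hAN]; exact card_WC_le hA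
    set X := (AddSubgroup.toSubgroup (line F)).comap ρ.onWC with hX
    have h2 : ((WC : Subgroup G) ⊓ centralizer (A : Set G)).subgroupOf (WC : Subgroup G) ≤ X :=
      (ρ.fixed_le hAN).trans (comap_mono fun v hv => hle hv)
    have h3 : X ≤ ((WC : Subgroup G) ⊓ centralizer (A : Set G)).subgroupOf (WC : Subgroup G) := by
      refine (eq_of_le_of_card_ge h2 ?_).ge
      rw [hX, ρ.card_preimage hE, card_line, Nat.card_congr (subgroupOfEquivOfLe inf_le_left).toEquiv]
      rw [card_module, ← mul_assoc] at h1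
      refine Nat.le_of_mul_le_mul_left ?_ (Nat.card_pos (α := F))
      rw [mul_comm]
      exact h1.trans (Nat.mul_le_mul_right _ hq)
    rintro _ ⟨w, hw, rfl⟩
    exact (mem_subgroupOf.mp (h3 hw)).2
  have hJ : overLine ρ ≤ centralizer (thompsonSubgroupOf p (T : Subgroup G) : Set G) :=
    le_centralizer_iff.mp (thompson_le T hA)
  have hZJ : overLine ρ ≤ omegaOne p (centerThompsonOf p (T : Subgroup G)) := fun x hx => by
    refine Omega.mem_omegaOne ⟨?_, hJ hx⟩ (WC_elementary.2 x (overLine_le ρ hx))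
    obtain ⟨A, hA', hAT⟩ := BlockBasic.exists_max_le T
    exact le_thompsonSubgroupOf hA' hAT (mem_of_centralizes hA'
      (centralizer_le (le_thompsonSubgroupOf hA' hAT) (hJ hx)) (WC_elementary.2 x (overLine_le ρ hx)))
  have hB : overLine ρ ≤ centralizer (B : Set G) :=
    hZJ.trans (le_centralizer_iff.mp inf_le_right)
  refine ⟨ρ, hρ, hB, fun b hb => ?_⟩
  refine SL2.exists_tU_of_fix_line (p := p) (ρ.isAdd_act _) (ρ.act_mem_normalizer_img hρ _) ?_ ?_
  · obtain ⟨k, hk⟩ := hBp ⟨b, hb⟩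
    refine ⟨k, ?_⟩
    rw [← map_pow, show (⟨b, hBN hb⟩ : ↥NE) ^ p ^ k = 1 from
      Subtype.ext (by simpa using congrArg Subtype.val hk), map_one]
  · intro x
    obtain ⟨w, hw⟩ := ρ.onWC_surjective hE (Multiplicative.ofAdd ![x, 0])
    have hwX : (w : G) ∈ overLine ρ := by
      refine ⟨w, ?_, rfl⟩
      show Multiplicative.toAdd (ρ.onWC w) ∈ line F
      rw [hw]
      show (![x, 0] : Fin 2 → F) 1 = 0
      simp
    rw [← show ρ.coord ⟨w, commutator_WE_le w.2⟩ = ![x, 0] by
      rw [← Rep.onWC_apply, hw]; rfl, Rep.act_coord]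
    congr 1
    refine Subtype.ext ?_
    show b * w * b⁻¹ = w
    rw [mem_centralizer_iff.mp (hB hwX) b hb, mul_inv_cancel_right]

end Cfsg.Agent.PLocal.Blocks
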