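import Cfsg.Agent.Lib.PLocal.Blocks.Moves

/-!
Subnormal blocks: they lie in the Baumann subgroup of the group, which normalizes them.
-/

set_option linter.all false
set_option autoImplicit false

namespace Cfsg.Agent.PLocal.Blocks

open Subgroup Cfsg
open Cfsg.Agent.PLocal.ThompsonSubgroup
open scoped commutatorElement MatrixGroups Pointwise
open Cfsg.Agent.PLocal.BlockModule (tU tL dg wl permAct)

variable {G : Type*} [Group G] [Finite G] {p : ℕ} [Fact p.Prime] {E : Subgroup G} {T : Sylow p G}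

local notation "NE" => Subgroup.normalizer (E : Set G)
local notation "WC" => ⁅omegaOneCenter p (pCoreOf p E), E⁆

/-- A block for one Sylow subgroup is one for any other with the same Baumann subgroup moving it. -/
theorem block_of_baumann_eq (hE : IsBaumannBlock p (T : Subgroup G) E) {T' : Sylow p G}
    (hB : baumannSubgroupOf p (T' : Subgroup G) = baumannSubgroupOf p (T : Subgroup G))
    (hΩ : ⁅E, omegaOneCenter p (T' : Subgroup G)⁆ ≠ ⊥) : IsBaumannBlock p (T' : Subgroup G) E := by
  obtain ⟨h1, h2, h3, -, hrest⟩ := hE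
  refine ⟨h1, by rw [hB]; exact h2, h3, hΩ, ?_⟩
  rw [hB]
  exact hrest

theorem thompson_le_NE (hG : centralizer (pCore p G : Set G) ≤ pCore p G)
    (hE : IsBaumannBlock p (T : Subgroup G) E) (hEs : E.IsSubnormal) (T' : Sylow p G) :
    thompsonSubgroupOf p (T' : Subgroup G) ≤ NE :=
  thompson_le T' fun _ hA _ => max_le_normalizer hG hE (conjugates_commute hG hE hEs) hA

/-- The centralizer of `Ω₁Z(J(T'))` normalizes a subnormal block. -/
theorem centralizer_omega_le (hG : centralizer (pCore p G : Set G) ≤ pCore p G)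
    (hE : IsBaumannBlock p (T : Subgroup G) E) (hEs : E.IsSubnormal) (T' : Sylow p G) :
    centralizer (omegaOne p (centerThompsonOf p (T' : Subgroup G)) : Set G) ≤ NE := by
  set J := thompsonSubgroupOf p (T' : Subgroup G)
  have hJT : J ≤ (T' : Subgroup G) := map_subtype_le _
  obtain ⟨w, hw, hwE, hwJ⟩ := exists_fixed_moved hG hE hEs (T'.2.to_le hJT) (thompson_le_NE hG hE hEs T')
  have hwp : w ^ p = 1 := BlockLocation.pow_eq_one_of_mem_omegaCenter _ (commutator_WE_le hw)
  have hwZ : w ∈ omegaOne p (centerThompsonOf p (T' : Subgroup G)) := by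
    refine Omega.mem_omegaOne ⟨?_, hwJ⟩ hwp
    obtain ⟨A, hA, hAT⟩ := BlockBasic.exists_max_le T'
    exact le_thompsonSubgroupOf hA hAT (mem_of_centralizes hA
      (centralizer_le (le_thompsonSubgroupOf hA hAT) hwJ) hwp)
  intro c hc
  by_contra hcN
  rcases conjugates_commute hG hE hEs c with h | h
  · exact hcN (cj_eq_self.mp h)
  · refine hwE ?_
    have := (commutator_eq_bot_iff_le_centralizer.mp h) (conj_mem_cj (WC_le_block E hw))
    rwa [← mem_centralizer_iff.mp hc w hwZ, mul_inv_cancel_right] at this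

/-- The Baumann subgroups are conjugate inside the normalizer of a subnormal block. -/
theorem exists_conj_baumann (hG : centralizer (pCore p G : Set G) ≤ pCore p G)
    (hE : IsBaumannBlock p (T : Subgroup G) E) (hEs : E.IsSubnormal) (T' : Sylow p G) :
    ∃ z ∈ NE, cj z (baumannSubgroupOf p (T : Subgroup G)) = baumannSubgroupOf p (T' : Subgroup G) := by
  have hlift : ∀ U : Sylow p G, ∃ S : Sylow p ↥(NE),
      thompsonSubgroupOf p (U : Subgroup G) ≤ (S : Subgroup ↥(NE)).map (Subgroup.subtype _) := fun U => by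
    have hJ := thompson_le_NE hG hE hEs U
    obtain ⟨S, hS⟩ := ((U.2.to_le (map_subtype_le _) : IsPGroup p (thompsonSubgroupOf p (U : Subgroup G))).of_equiv
      (subgroupOfEquivOfLe hJ).symm).exists_le_sylow
    exact ⟨S, fun x hx => ⟨⟨x, hJ hx⟩, hS hx, rfl⟩⟩
  obtain ⟨S₁, hS₁⟩ := hlift T
  obtain ⟨S₂, hS₂⟩ := hlift T'
  obtain ⟨z, hz⟩ := MulAction.exists_smul_eq ↥(NE) S₁ S₂
  obtain ⟨U, hU⟩ := (S₂.2.map (Subgroup.subtype (NE))).exists_le_sylow
  have hJ' : thompsonSubgroupOf p ((((z : G)) • T : Sylow p G) : Subgroup G) =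
      cj (z : G) (thompsonSubgroupOf p (T : Subgroup G)) := by
    rw [Sylow.coe_subgroup_smul, show MulAut.conj (z : G) • (T : Subgroup G) = cj (z : G) (T : Subgroup G) from rfl,
      cj, cj, map_thompsonSubgroupOf (MulAut.conj (z : G)).injective]
  have hzU : thompsonSubgroupOf p ((((z : G)) • T : Sylow p G) : Subgroup G) ≤ (U : Subgroup G) := by
    rw [hJ']
    rintro _ ⟨x, hx, rfl⟩
    obtain ⟨y, hy, rfl⟩ := hS₁ hx
    refine hU ⟨z * y * z⁻¹, ?_, by simp⟩
    show z * y * z⁻¹ ∈ (S₂ : Subgroup ↥(NE))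
    rw [← hz, Sylow.coe_subgroup_smul]
    exact ⟨y, hy, rfl⟩
  have heq : thompsonSubgroupOf p ((((z : G)) • T : Sylow p G) : Subgroup G) =
      thompsonSubgroupOf p (T' : Subgroup G) := by
    rw [← BlockBasic.thompson_eq _ U hzU, BlockBasic.thompson_eq T' U (hS₂.trans hU)]
  set C := centralizer (omegaOne p (centerThompsonOf p (T' : Subgroup G)) : Set G) with hC
  have hB : ∀ V : Sylow p G, thompsonSubgroupOf p (V : Subgroup G) = thompsonSubgroupOf p (T' : Subgroup G) →
      baumannSubgroupOf p (V : Subgroup G) = (V : Subgroup G) ⊓ C := fun V hV => by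
    simp only [baumannSubgroupOf, centerThompsonOf, hV, hC]
  have hidx : ∀ V : Sylow p G, thompsonSubgroupOf p (V : Subgroup G) = thompsonSubgroupOf p (T' : Subgroup G) →
      ¬ p ∣ ((V : Subgroup G) ⊓ C).relIndex C := fun V hV => by
    have hVN : (V : Subgroup G) ≤ normalizer (C : Set G) := by
      refine le_trans ?_ (CharP.normalizer_le_normalizer_centralizer _)
      refine le_trans ?_ (BlockBasic.le_normalizer_omegaOne _)
      refine le_trans ?_ (BlockBasic.le_normalizer_centerThompsonOf _)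
      rw [← hV]
      exact Subgroup.le_normalizer.trans (normalizer_le_normalizer_thompsonSubgroupOf _)
    have h := Cores.sylow_subgroupOf_isSubnormal (V.subtype hVN)
      (normal_in_normalizer : (C.subgroupOf (normalizer (C : Set G))).Normal).isSubnormal
    rw [Sylow.coe_subtype, ← Subgroup.relIndex, relIndex_subgroupOf Subgroup.le_normalizer] at h
    rwa [inf_relIndex_right]
  obtain ⟨c, hc, hcB⟩ := exists_cj_eq (((z : G) • T).2.to_le inf_le_left : IsPGroup p ↥((((z : G) • T : Sylow p G) : Subgroup G) ⊓ C))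
    inf_le_right (hidx _ heq) (T'.2.to_le inf_le_left : IsPGroup p ↥((T' : Subgroup G) ⊓ C)) inf_le_right (hidx T' rfl)
  refine ⟨c * z, mul_mem (centralizer_omega_le hG hE hEs T' hc) z.2, ?_⟩
  rw [hB T' rfl, ← hcB, ← hB _ heq, ← cj_cj]
  congr 1
  rw [Sylow.coe_subgroup_smul]
  exact BlockBasic.baumann_conj _ _

/-- A subnormal block is a block for every Sylow subgroup. -/
theorem block_all (hG : centralizer (pCore p G : Set G) ≤ pCore p G)
    (hE : IsBaumannBlock p (T : Subgroup G) E) (hEs : E.IsSubnormal) (T' : Sylow p G) :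
    IsBaumannBlock p (T' : Subgroup G) E := by
  obtain ⟨z, hz, hzB⟩ := exists_conj_baumann hG hE hEs T'
  have h := block_cj hE z
  rw [cj_eq_self.mpr hz] at h
  refine block_of_baumann_eq h ?_ (omega_moves hG hE hEs T')
  rw [← hzB, Sylow.coe_subgroup_smul]
  exact BlockBasic.baumann_conj _ _

/-- The main facts on subnormal blocks. -/
theorem subnormal_block (hG : centralizer (pCore p G : Set G) ≤ pCore p G)
    (hE : IsBaumannBlock p (T : Subgroup G) E) (hEs : E.IsSubnormal) :
    E ≤ baumannSubgroup p G ∧ baumannSubgroup p G ≤ NE ∧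
      (∀ T' : Sylow p G, IsBaumannBlock p (T' : Subgroup G) E) ∧
      ∀ F : Subgroup G, (∃ T' : Sylow p G, IsBaumannBlock p (T' : Subgroup G) F) → F ≤ E ∨ ⁅F, E⁆ = ⊥ := by
  have hall := block_all hG hE hEs
  have hBN : baumannSubgroup p G ≤ NE := iSup_le fun T' => BlockBasic.baumann_le_normalizer (hall T')
  have hnorm : ∀ X : Subgroup G, ⁅X, baumannSubgroup p G⁆ ≤ baumannSubgroup p G := fun X => by
    rw [Subgroup.commutator_comm]
    refine le_normalizer_iff_commutator_le_left.mp (fun x _ => ?_ : X ≤ normalizer (baumannSubgroup p G : Set G))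
    rw [← cj_eq_self]
    refine eq_of_le_of_card_ge ?_ (card_cj _ _).ge
    rw [baumannSubgroup, cj, Subgroup.map_iSup]
    refine iSup_le fun U => ?_
    rw [BlockBasic.baumann_conj]
    have := le_iSup (fun V : Sylow p G => baumannSubgroupOf p (V : Subgroup G)) (x • U)
    rwa [Sylow.coe_subgroup_smul] at this
  have hblockB : ∀ {F : Subgroup G} {U : Sylow p G}, IsBaumannBlock p (U : Subgroup G) F →
      F ≤ baumannSubgroup p G := fun {F U} hF => by
    conv_lhs => rw [← hF.2.1]
    exact (commutator_mono le_rfl (le_iSup (fun V : Sylow p G => baumannSubgroupOf p (V : Subgroup G)) U)).trans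
      (hnorm F)
  refine ⟨hblockB hE, hBN, hall, ?_⟩
  rintro F ⟨T', hF⟩
  have hQR : pCoreOf p E ≤ pCore p G := CharP.pCoreOf_le_pCore_of_isSubnormal hEs
  have hFN : F ≤ NE := (hblockB hF).trans hBN
  by_cases hne : F ≤ centralizer ((WC : Subgroup G) : Set G)
  · exact Or.inr (by rw [Subgroup.commutator_comm]; exact commute_of_centralizes hG hE hF hQR hFN hne)
  left
  refine le_of_induced_le hG hE hF hFN ?_ hne
  have hE' := hall T'
  rcases block_cases hE' with ⟨K, iK, iKt, iC, n, ρ₀, hK, hρ₀, -⟩ | ⟨rfl, n, ρ, hn, hodd, hρ, -⟩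
  swap
  · exact le_of_coprime_mem (BlockBasic.resOf_eq hF) fun f hf hcop => mem_sup_of_alt ρ hE hn hodd hρ (hFN hf) hcop
  obtain ⟨ρ, hρ, -, hadapt⟩ := exists_adapted hE' ρ₀ hρ₀
  let Kr : Subgroup G := (((SL2.lin : SL(2, K) →* _).range).comap ρ.act).map (Subgroup.subtype (NE))
  have hFK : F ≤ Kr := by
    conv_lhs => rw [← hF.2.1]
    rw [commutator_le]
    intro f hf b hb
    obtain ⟨s, hs⟩ := hadapt b hb
    refine ⟨⁅(⟨f, hFN hf⟩ : ↥(NE)), (⟨b, BlockBasic.baumann_le_normalizer hE' hb⟩ : ↥(NE))⁆, ?_, rfl⟩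
    show ρ.act _ ∈ (SL2.lin : SL(2, K) →* _).range
    rw [map_commutatorElement, hs]
    exact SL2.commutator_mem_range (ρ.isAdd_act _) (ρ.act_mem_normalizer_img hρ _) _
  refine le_of_coprime_mem (BlockBasic.resOf_eq hF) fun f hf hcop => ?_
  obtain ⟨⟨f', hf'⟩, ⟨s, hs⟩, rfl⟩ := hFK hf
  refine mem_sup_of_act ρ hE hf' ?_
  rw [hρ]
  refine ⟨s, SL2.mem_commutator_of_coprime (p := p) ?_, hs⟩
  rw [← orderOf_injective SL2.lin SL2.lin_injective s, hs]
  exact hcop.coprime_dvd_left (orderOf_act_dvd ρ _)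

end Cfsg.Agent.PLocal.Blocks
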