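import Cfsg.Agent.Lib.PLocal.Blocks.Offending
import Cfsg.Agent.Lib.Cores.Subnormal

/-!
Fixed points on the module of a subnormal block.
-/

set_option linter.all false
set_option autoImplicit false

namespace Cfsg.Agent.PLocal.Blocks

open Subgroup Cfsg
open scoped commutatorElement MatrixGroups IsMulCommutative Pointwise
open Cfsg.Agent.PLocal.BlockModule (tU tL dg wl permAct)

variable {G : Type*} [Group G] [Finite G] {p : ℕ} [Fact p.Prime] {E : Subgroup G} {T : Sylow p G}

local notation "QE" => pCoreOf p E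
local notation "WE" => omegaOneCenter p (pCoreOf p E)
local notation "NE" => Subgroup.normalizer (E : Set G)
local notation "WC" => ⁅omegaOneCenter p (pCoreOf p E), E⁆
local notation "UR" => omegaOneCenter p (pCore p G)

/-- A `p`-group normalizing a nontrivial `p`-group fixes one of its nontrivial elements. -/
theorem exists_fixed_ne_one {D S : Subgroup G} (hD : IsPGroup p D) (hS : IsPGroup p S)
    (hn : S ≤ normalizer (D : Set G)) (hne : D ≠ ⊥) :
    ∃ y ∈ D, y ≠ 1 ∧ y ∈ centralizer (S : Set G) := by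
  letI act : MulAction ↥S ↥D :=
    { smul := fun g x => ⟨(g : G) * x * (g : G)⁻¹, (mem_normalizer_iff.mp (hn g.2) x).mp x.2⟩
      one_smul := fun x => Subtype.ext (by show (1 : G) * x * (1 : G)⁻¹ = x; simp)
      mul_smul := fun g h x => Subtype.ext (by
        show (g : G) * h * x * ((g : G) * h)⁻¹ = g * (h * x * (h : G)⁻¹) * (g : G)⁻¹
        simp [mul_assoc]) }
  have h1 : (1 : D) ∈ MulAction.fixedPoints ↥S ↥D := fun g => Subtype.ext (by
    show (g : G) * (1 : G) * (g : G)⁻¹ = 1; simp)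
  have hd : p ∣ Nat.card D := hD.card_eq_or_dvd.resolve_left (fun h => hne (eq_bot_of_card_eq _ h))
  obtain ⟨b, hb, hb1⟩ := hS.exists_fixed_point_of_prime_dvd_card_of_fixed_point ↥D hd h1
  refine ⟨b, b.2, fun h => hb1 (Subtype.ext h.symm), fun g hg => ?_⟩
  exact mul_inv_eq_iff_eq_mul.mp (congrArg Subtype.val (hb ⟨g, hg⟩))

/-- The intersection of a Sylow subgroup with a subnormal subgroup. -/
theorem not_dvd_inf (S : Sylow p G) {A : Subgroup G} (hA : A.IsSubnormal) :
    ¬ p ∣ ((S : Subgroup G) ⊓ A).relIndex A := by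
  rw [inf_relIndex_right]
  exact Cores.sylow_subgroupOf_isSubnormal S hA

/-- Sylow subgroups of a subgroup are conjugate. -/
theorem exists_cj_eq {H P Q : Subgroup G} (hP : IsPGroup p P) (hPH : P ≤ H) (hPi : ¬ p ∣ P.relIndex H)
    (hQ : IsPGroup p Q) (hQH : Q ≤ H) (hQi : ¬ p ∣ Q.relIndex H) : ∃ h ∈ H, cj h P = Q := by
  let SP : Sylow p ↥H := IsPGroup.toSylow (hP.of_equiv (subgroupOfEquivOfLe hPH).symm) hPi
  let SQ : Sylow p ↥H := IsPGroup.toSylow (hQ.of_equiv (subgroupOfEquivOfLe hQH).symm) hQi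
  obtain ⟨h, hh⟩ := MulAction.exists_smul_eq ↥H SP SQ
  refine ⟨h, h.2, ?_⟩
  have e := congrArg (fun X : Sylow p ↥H => (X : Subgroup ↥H).map H.subtype) hh
  simp only [Sylow.coe_subgroup_smul] at e
  rw [show MulAut.conj h • (SP : Subgroup ↥H) = (SP : Subgroup ↥H).map (MulAut.conj h).toMonoidHom from rfl,
    map_map, show (SP : Subgroup ↥H) = P.subgroupOf H from rfl,
    show (SQ : Subgroup ↥H) = Q.subgroupOf H from rfl, map_subgroupOf_eq_of_le hQH] at e
  rw [← e]
  show P.map _ = (P.subgroupOf H).map _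
  conv_lhs => rw [← map_subgroupOf_eq_of_le hPH, map_map]
  rfl

theorem UR_le_sylow (hG : centralizer (pCore p G : Set G) ≤ pCore p G) (S : Sylow p G) :
    omegaOneCenter p (S : Subgroup G) ≤ UR := fun u hu => by
  have hR : pCore p G ≤ (S : Subgroup G) := Cores.pCore_le_sylow S
  have hc : u ∈ centralizer (pCore p G : Set G) :=
    centralizer_le hR (BlockModule.omegaCenter_le_centralizer (p := p) _ hu)
  exact Omega.mem_omegaOne ⟨hG hc, hc⟩ (BlockLocation.pow_eq_one_of_mem_omegaCenter _ hu)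

theorem conj_mem_UR (g : G) {u : G} (hu : u ∈ UR) : g * u * g⁻¹ ∈ UR := by
  have := BlockModule.le_normalizer_omegaCenter (p := p) (pCore p G)
    (show g ∈ normalizer (pCore p G : Set G) by rw [normalizer_eq_top]; exact mem_top g)
  exact (mem_normalizer_iff.mp this u).mp hu

/-- A Sylow subgroup of a subnormal block fixes a point of the module moved by the block. -/
theorem exists_fixed_sylow (hG : centralizer (pCore p G : Set G) ≤ pCore p G)
    (hE : IsBaumannBlock p (T : Subgroup G) E) (hEs : E.IsSubnormal) :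
    ∃ P : Subgroup G, P ≤ E ∧ IsPGroup p P ∧ ¬ p ∣ P.relIndex E ∧
      ∃ w ∈ (WC : Subgroup G), w ∉ centralizer (E : Set G) ∧ w ∈ centralizer (P : Set G) := by
  classical
  set P := (T : Subgroup G) ⊓ E with hP
  refine ⟨P, inf_le_right, T.2.to_le inf_le_left, not_dvd_inf T hEs, ?_⟩
  obtain ⟨u, huT, huE⟩ : ∃ u ∈ omegaOneCenter p (T : Subgroup G), u ∉ centralizer (E : Set G) := by
    refine SetLike.not_le_iff_exists.mp fun h => hE.2.2.2.1 ?_
    rw [Subgroup.commutator_comm]
    exact commutator_eq_bot_iff_le_centralizer.mpr h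
  have hu : u ∈ UR := UR_le_sylow hG T huT
  have huP : u ∈ centralizer (P : Set G) :=
    centralizer_le (inf_le_left : P ≤ T) (BlockModule.omegaCenter_le_centralizer (p := p) _ huT)
  haveI : IsMulCommutative (UR : Subgroup G) :=
    ⟨⟨fun a b => Subtype.ext (BlockLocation.omegaCenter_comm _ a.2 b.2)⟩⟩
  haveI : Fintype (↥E ⧸ P.subgroupOf E) := Fintype.ofFinite _
  let f : ↥E ⧸ P.subgroupOf E → ↥(UR : Subgroup G) := fun q =>
    Quotient.liftOn' q (fun e => ⟨(e : G) * u * (e : G)⁻¹, conj_mem_UR _ hu⟩) fun a b h => Subtype.ext (by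
      have h' : (a : G)⁻¹ * b ∈ P := by simpa [mem_subgroupOf] using QuotientGroup.leftRel_apply.mp h
      have h2 : ((a : G)⁻¹ * b) * u * ((a : G)⁻¹ * b)⁻¹ = u := by
        rw [mem_centralizer_iff.mp huP _ h', mul_inv_cancel_right]
      calc (a : G) * u * (a : G)⁻¹ = (a : G) * (((a : G)⁻¹ * b) * u * ((a : G)⁻¹ * b)⁻¹) * (a : G)⁻¹ := by rw [h2]
        _ = _ := by simp [mul_assoc])
  set v := ∏ q, f q with hv
  have hvE : (v : G) ∈ centralizer (E : Set G) := fun e he => by
    let c : ↥(UR : Subgroup G) →* ↥(UR : Subgroup G) :=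
      { toFun := fun a => ⟨e * a * e⁻¹, conj_mem_UR e a.2⟩
        map_one' := Subtype.ext (by simp)
        map_mul' := fun a b => Subtype.ext (by simp [mul_assoc]) }
    have h : c v = v := by
      rw [hv, map_prod]
      refine Fintype.prod_equiv (MulAction.toPerm (⟨e, he⟩ : ↥E)) _ _ fun q => ?_
      induction q using Quotient.inductionOn' with
      | h a =>
        refine Subtype.ext ?_
        show e * ((a : G) * u * (a : G)⁻¹) * e⁻¹ = ((⟨e, he⟩ * a : ↥E) : G) * u * ((⟨e, he⟩ * a : ↥E) : G)⁻¹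
        simp [mul_assoc]
    exact mul_inv_eq_iff_eq_mul.mp (congrArg Subtype.val h)
  set n := Fintype.card (↥E ⧸ P.subgroupOf E) with hn
  set w := v * ((⟨u, hu⟩ : ↥(UR : Subgroup G)) ^ n)⁻¹ with hw
  have hwW : (w : G) ∈ (WC : Subgroup G) := by
    have he : w = ∏ q, f q * (⟨u, hu⟩ : ↥(UR : Subgroup G))⁻¹ := by
      rw [Finset.prod_mul_distrib, Finset.prod_const, Finset.card_univ, ← hn, inv_pow]
    rw [he]
    refine mem_subgroupOf.mp (Subgroup.prod_mem ((WC : Subgroup G).subgroupOf UR) fun q _ => ?_)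
    induction q using Quotient.inductionOn' with
    | h a =>
      show (a : G) * u * (a : G)⁻¹ * u⁻¹ ∈ (WC : Subgroup G)
      rw [show (a : G) * u * (a : G)⁻¹ * u⁻¹ = ⁅u, (a : G)⁆⁻¹ by simp [commutatorElement_def, mul_assoc]]
      exact inv_mem (commutator_omega_le hG hE (commutator_mem_commutator hu a.2))
  have hcoe : (w : G) = (v : G) * (u ^ n)⁻¹ := by simp [hw]
  refine ⟨w, hwW, fun hwE => huE ?_, ?_⟩
  · have hun : u ^ n ∈ centralizer (E : Set G) := by
      have := mul_mem (inv_mem hwE) hvE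
      rwa [hcoe, mul_inv_rev, inv_inv, inv_mul_cancel_right] at this
    obtain ⟨k, hk⟩ := exists_pow_eq_self_of_coprime (n := n) (x := u) (by
      rw [hn, ← Nat.card_eq_fintype_card]
      refine Nat.Coprime.coprime_dvd_right (orderOf_dvd_of_pow_eq_one
        (BlockLocation.pow_eq_one_of_mem_omegaCenter _ hu)) ?_
      exact ((Fact.out : p.Prime).coprime_iff_not_dvd.mpr (not_dvd_inf T hEs)).symm)
    rw [← hk]
    exact pow_mem hun k
  · rw [hcoe]
    exact mul_mem (centralizer_le (inf_le_right : P ≤ E) hvE) (inv_mem (pow_mem huP n))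

/-- A `p`-group normalizing a subnormal block fixes a point of the module moved by the block. -/
theorem exists_fixed_moved (hG : centralizer (pCore p G : Set G) ≤ pCore p G)
    (hE : IsBaumannBlock p (T : Subgroup G) E) (hEs : E.IsSubnormal) {S : Subgroup G} (hS : IsPGroup p S)
    (hSN : S ≤ NE) :
    ∃ w ∈ (WC : Subgroup G), w ∉ centralizer (E : Set G) ∧ w ∈ centralizer (S : Set G) := by
  obtain ⟨S₁, hS₁⟩ := (hS.of_equiv (subgroupOfEquivOfLe hSN).symm).exists_le_sylow
  set S' := (S₁ : Subgroup ↥(NE)).map (Subgroup.subtype _) with hS'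
  have hSS' : S ≤ S' := fun s hs => ⟨⟨s, hSN hs⟩, hS₁ hs, rfl⟩
  have hS'N : S' ≤ NE := map_subtype_le _
  have hS'p : IsPGroup p S' := S₁.2.map _
  set P := S' ⊓ E with hPdef
  have hPi : ¬ p ∣ P.relIndex E := by
    have hn : (E.subgroupOf (NE)).Normal := normal_in_normalizer
    have := Cores.sylow_subgroupOf_isSubnormal S₁ hn.isSubnormal
    rw [← Subgroup.relIndex] at this
    rw [hPdef, inf_relIndex_right, ← relIndex_subgroupOf (Subgroup.le_normalizer (H := E))]
    have e : S'.subgroupOf (NE) = (S₁ : Subgroup ↥(NE)) := by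
      rw [hS', Subgroup.subgroupOf, comap_map_eq_self_of_injective (Subgroup.subtype_injective _)]
    rwa [e]
  have hPp : IsPGroup p P := hS'p.to_le inf_le_left
  obtain ⟨P₀, hP₀E, hP₀p, hP₀i, w₀, hw₀, hw₀E, hw₀P⟩ := exists_fixed_sylow hG hE hEs
  obtain ⟨e, he, heP⟩ := exists_cj_eq hP₀p hP₀E hP₀i hPp inf_le_right hPi
  set w := e * w₀ * e⁻¹
  have hcje : cj e E = E := cj_eq_self.mpr (Subgroup.le_normalizer he)
  have hw : w ∈ (WC : Subgroup G) := by
    have : w ∈ cj e (WC : Subgroup G) := conj_mem_cj hw₀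
    rwa [cj_WC, hcje] at this
  have hwE : w ∉ centralizer (E : Set G) := fun h => by
    rw [← hcje, ← cj_centralizer, mem_cj_iff] at h
    exact hw₀E (by simpa [w, mul_assoc] using h)
  have hwP : w ∈ centralizer (P : Set G) := by
    rw [← heP, ← cj_centralizer]; exact conj_mem_cj hw₀P
  set D := (WC : Subgroup G) ⊓ centralizer (P : Set G) with hD
  have hS'W : S' ≤ normalizer ((WC : Subgroup G) : Set G) := fun s hs => by
    rw [← cj_eq_self, cj_WC, cj_eq_self.mpr (hS'N hs)]
  have hS'P : S' ≤ normalizer (P : Set G) :=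
    (le_inf Subgroup.le_normalizer hS'N).trans inf_normalizer_le_normalizer_inf
  have hS'D : S' ≤ normalizer (D : Set G) :=
    (le_inf hS'W (hS'P.trans (CharP.normalizer_le_normalizer_centralizer _))).trans inf_normalizer_le_normalizer_inf
  have hDp : IsPGroup p D := (CharP.isPGroup_pCoreOf p E).to_le
    (inf_le_left.trans (commutator_WE_le.trans (BlockModule.omegaCenter_le _)))
  rcases inf_or_perfect hE with hZ | ⟨-, -, F, iF, iFt, iC, ρ₀, hρ₀, h4⟩
  · obtain ⟨y, hy, hy1, hyS⟩ := exists_fixed_ne_one hDp hS'p hS'D (by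
      intro h
      have : w ∈ (⊥ : Subgroup G) := h ▸ mem_inf.mpr ⟨hw, hwP⟩
      rw [mem_bot] at this
      exact hwE (this ▸ one_mem _))
    refine ⟨y, hy.1, fun h => hy1 ?_, centralizer_le hSS' hyS⟩
    have : y ∈ (⊥ : Subgroup G) := hZ ▸ mem_inf.mpr ⟨hy.1, h⟩
    exact mem_bot.mp this
  -- perfect linear blocks
  set N := E ⊓ normalizer (P : Set G) with hNdef
  set Y := ⁅D, N⁆ with hY
  have hPN : P ≤ N := le_inf inf_le_right Subgroup.le_normalizer
  have hND : N ≤ normalizer (D : Set G) :=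
    (le_inf (inf_le_left.trans (normalizer_commutator_ge_right _ _))
      (inf_le_right.trans (CharP.normalizer_le_normalizer_centralizer _))).trans inf_normalizer_le_normalizer_inf
  have hYD : Y ≤ D := le_normalizer_iff_commutator_le_left.mp hND
  have hdisj : D ⊓ centralizer (N : Set G) ⊓ Y = ⊥ := by
    refine inf_centralizer_inf_commutator hDp (fun a ha b hb => BlockLocation.omegaCenter_comm _
      (commutator_WE_le ha.1) (commutator_WE_le hb.1)) hND ?_
    refine (Nat.Coprime.coprime_dvd_left (relIndex_dvd_of_le_left N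
      (le_centralizer_iff.mp (inf_le_right : D ≤ centralizer (P : Set G)))) ?_)
    refine ((Fact.out : p.Prime).coprime_iff_not_dvd.mpr fun h => hPi (h.trans ?_)).symm
    exact Dvd.intro _ (relIndex_mul_relIndex P N E hPN inf_le_left)
  have hS'Y : S' ≤ normalizer (Y : Set G) := fun s hs => by
    have hN : cj s N = N := by
      rw [hNdef, cj_inf, cj_eq_self.mpr (hS'N hs), cj_normalizer, cj_eq_self.mpr (hS'P hs)]
    rw [← cj_eq_self, hY, cj_commutator, cj_eq_self.mpr (hS'D hs), hN]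
  have hYne : Y ≠ ⊥ := by
    intro hbot
    have hcent : N ≤ centralizer (D : Set G) :=
      le_centralizer_iff.mp (commutator_eq_bot_iff_le_centralizer.mp hbot)
    obtain ⟨ρ, hρ, hfix⟩ := exists_fix_first ρ₀ hρ₀ hPp
    let Usub : Subgroup (Equiv.Perm (Fin 2 → F)) :=
      { carrier := Set.range fun s : F => SL2.lin (tU s)
        one_mem' := ⟨0, by simp [SL2.tU_zero]⟩
        mul_mem' := by
          rintro _ _ ⟨a, rfl⟩ ⟨b, rfl⟩
          exact ⟨a + b, by simp [← map_mul, SL2.tU_add]⟩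
        inv_mem' := by
          rintro _ ⟨a, rfl⟩
          refine ⟨-a, eq_inv_of_mul_eq_one_left ?_⟩
          simp [← map_mul, SL2.tU_add, SL2.tU_zero] }
    set P₂ := (Usub.comap ρ.onBlock).map E.subtype with hP₂
    have hPP₂ : P ≤ P₂ := by
      intro x hx
      obtain ⟨s, -, hs⟩ : ρ.onBlock ⟨x, hx.2⟩ ∈ SL2.img F := hρ ▸ ⟨⟨x, hx.2⟩, rfl⟩
      have hfx : SL2.lin s ![1, 0] = ![1, 0] := by
        rw [hs]
        exact hfix _ ⟨⟨x, Subgroup.le_normalizer hx.2⟩, hx, rfl⟩
      obtain ⟨b, rfl⟩ := SL2.exists_tU_of_fix hfx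
      exact ⟨⟨x, hx.2⟩, ⟨b, hs⟩, rfl⟩
    have hP₂p : IsPGroup p P₂ := by
      refine IsPGroup.map ?_ _
      intro x
      obtain ⟨s, hs⟩ : ρ.onBlock (x : ↥E) ∈ Usub := x.2
      have h1 : ρ.onBlock ((x : ↥E) ^ p) = 1 := by
        rw [map_pow, ← hs, ← map_pow, SL2.tU_pow, CharP.cast_eq_zero, zero_mul, SL2.tU_zero, map_one]
      have h2 : (((x : ↥E) ^ p : ↥E) : G) ∈ QE := by
        rw [← inf_centralizer_eq_core hE]
        exact ⟨((x : ↥E) ^ p).2, (ρ.act_eq_one_iff hE _).mp h1⟩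
      obtain ⟨k, hk⟩ := CharP.isPGroup_pCoreOf p E ⟨_, h2⟩
      refine ⟨k + 1, Subtype.ext (Subtype.ext ?_)⟩
      have hk' : (((x : ↥E) : G) ^ p) ^ p ^ k = 1 := by simpa using congrArg Subtype.val hk
      simpa [pow_succ', pow_mul] using hk'
    have hP₂E : P₂ ≤ E := map_subtype_le _
    have hP₂eq : P₂ = P := by
      refine le_antisymm ?_ hPP₂
      obtain ⟨k, hk⟩ := hP₂p.index (P.subgroupOf P₂)
      rw [← Subgroup.relIndex] at hk
      rcases k with _ | k
      · exact relIndex_eq_one.mp (by simpa using hk)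
      · exact absurd ((dvd_pow_self p (Nat.succ_ne_zero k)).trans
          (hk ▸ Dvd.intro _ (relIndex_mul_relIndex P P₂ E hPP₂ hP₂E))) hPi
    obtain ⟨a, ha0, ha1⟩ := SL2.exists_sq_ne_one h4
    have hmem : ∀ s : SL(2, F), ∃ x : ↥E, ρ.onBlock x = SL2.lin s := fun s => by
      have hs : SL2.lin s ∈ ρ.onBlock.range :=
        hρ.ge ⟨s, (SL2.commutator_eq_top (SL2.exists_sq_ne_one h4)).symm ▸ mem_top _, rfl⟩
      exact hs
    obtain ⟨h, hh⟩ := hmem (dg a ha0)
    have hhN : (h : G) ∈ N := by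
      refine ⟨h.2, ?_⟩
      show (h : G) ∈ normalizer (P : Set G)
      rw [← cj_eq_self]
      refine eq_of_le_of_card_ge ?_ (card_cj _ _).ge
      conv_lhs => rw [← hP₂eq]
      conv_rhs => rw [← hP₂eq]
      rintro _ ⟨_, ⟨x, ⟨s, hs⟩, rfl⟩, rfl⟩
      refine ⟨h * x * h⁻¹, ⟨(a * a - 1) * s + s, ?_⟩, rfl⟩
      show SL2.lin (tU _) = _
      rw [map_mul, map_mul, map_inv, hh, ← hs, ← map_inv, ← map_mul, ← map_mul]
      congr 1
      rw [← SL2.tU_add, ← BlockModule.comm_dg_tU a s ha0, commutatorElement_def, inv_mul_cancel_right]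
    have hwN : (h : G) * w * (h : G)⁻¹ = w := by
      rw [← mem_centralizer_iff.mp (hcent hhN) w (mem_inf.mpr ⟨hw, hwP⟩), mul_inv_cancel_right]
    set v := ρ.coord ⟨w, commutator_WE_le hw⟩ with hvdef
    have hv0 : v ≠ 0 := fun hh0 => hwE ((ρ.coord_eq_zero).mp hh0).2
    obtain ⟨x, hx⟩ := hmem (tU 1)
    have hxP : (x : G) ∈ P := hP₂eq.le ⟨x, ⟨1, hx.symm⟩, rfl⟩
    have key : ∀ y : ↥E, (y : G) * w * (y : G)⁻¹ = w → ρ.onBlock y v = v := fun y hy => by
      rw [Rep.onBlock_apply, hvdef, ρ.act_coord]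
      congr 1
      exact Subtype.ext hy
    have e1 := key x (by rw [mem_centralizer_iff.mp hwP _ hxP, mul_inv_cancel_right])
    have e2 := key h hwN
    rw [hx, SL2.tU_apply] at e1
    have hv1 : v 1 = 0 := by simpa using congr_fun e1 0
    rw [hh, SL2.lin_apply] at e2
    have hv2 : a * v 0 = v 0 := by
      have := congr_fun e2 0
      simpa [dg, Matrix.mulVec, dotProduct, Fin.sum_univ_two, hv1] using this
    have hv00 : v 0 ≠ 0 := fun h0 => hv0 (by ext i; fin_cases i <;> assumption)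
    have : a = 1 := mul_right_cancel₀ hv00 (by rw [hv2, one_mul])
    exact ha1 (by rw [this, one_mul])
  obtain ⟨y, hy, hy1, hyS⟩ := exists_fixed_ne_one (hDp.to_le hYD) hS'p hS'Y hYne
  refine ⟨y, (hYD hy).1, fun h => hy1 ?_, centralizer_le hSS' hyS⟩
  have : y ∈ (⊥ : Subgroup G) := hdisj ▸ mem_inf.mpr ⟨mem_inf.mpr ⟨hYD hy, centralizer_le (inf_le_left : N ≤ E) h⟩, hy⟩
  exact mem_bot.mp this

/-- Every Sylow subgroup has a central element of order `p` moved by a subnormal block. -/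
theorem omega_moves (hG : centralizer (pCore p G : Set G) ≤ pCore p G)
    (hE : IsBaumannBlock p (T : Subgroup G) E) (hEs : E.IsSubnormal) (T' : Sylow p G) :
    ⁅E, omegaOneCenter p (T' : Subgroup G)⁆ ≠ ⊥ := by
  classical
  have hfam := conjugates_commute hG hE hEs
  set S := (T' : Subgroup G) ⊓ NE with hSdef
  obtain ⟨w, hw, hwE, hwS⟩ := exists_fixed_moved hG hE hEs (T'.2.to_le inf_le_left : IsPGroup p S) inf_le_right
  have hwU : w ∈ UR := WC_le_omega hG hE hw
  haveI : IsMulCommutative (UR : Subgroup G) :=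
    ⟨⟨fun a b => Subtype.ext (BlockLocation.omegaCenter_comm _ a.2 b.2)⟩⟩
  haveI : Fintype (↥(T' : Subgroup G) ⧸ S.subgroupOf T') := Fintype.ofFinite _
  let f : ↥(T' : Subgroup G) ⧸ S.subgroupOf T' → ↥(UR : Subgroup G) := fun q =>
    Quotient.liftOn' q (fun e => ⟨(e : G) * w * (e : G)⁻¹, conj_mem_UR _ hwU⟩) fun a b h => Subtype.ext (by
      have h' : (a : G)⁻¹ * b ∈ S := by simpa [mem_subgroupOf] using QuotientGroup.leftRel_apply.mp h
      have h2 : ((a : G)⁻¹ * b) * w * ((a : G)⁻¹ * b)⁻¹ = w := by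
        rw [mem_centralizer_iff.mp hwS _ h', mul_inv_cancel_right]
      calc (a : G) * w * (a : G)⁻¹ = (a : G) * (((a : G)⁻¹ * b) * w * ((a : G)⁻¹ * b)⁻¹) * (a : G)⁻¹ := by rw [h2]
        _ = _ := by simp [mul_assoc])
  set v := ∏ q, f q with hv
  have hvT : (v : G) ∈ centralizer ((T' : Subgroup G) : Set G) := fun e he => by
    let c : ↥(UR : Subgroup G) →* ↥(UR : Subgroup G) :=
      { toFun := fun a => ⟨e * a * e⁻¹, conj_mem_UR e a.2⟩
        map_one' := Subtype.ext (by simp)
        map_mul' := fun a b => Subtype.ext (by simp [mul_assoc]) }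
    have h : c v = v := by
      rw [hv, map_prod]
      refine Fintype.prod_equiv (MulAction.toPerm (⟨e, he⟩ : ↥(T' : Subgroup G))) _ _ fun q => ?_
      induction q using Quotient.inductionOn' with
      | h a =>
        refine Subtype.ext ?_
        show e * ((a : G) * w * (a : G)⁻¹) * e⁻¹ =
          ((⟨e, he⟩ * a : ↥(T' : Subgroup G)) : G) * w * ((⟨e, he⟩ * a : ↥(T' : Subgroup G)) : G)⁻¹
        simp [mul_assoc]
    exact mul_inv_eq_iff_eq_mul.mp (congrArg Subtype.val h)
  have hvΩ : (v : G) ∈ omegaOneCenter p (T' : Subgroup G) :=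
    Omega.mem_omegaOne ⟨Cores.pCore_le_sylow T' (BlockModule.omegaCenter_le _ v.2), hvT⟩
      (BlockLocation.pow_eq_one_of_mem_omegaCenter _ v.2)
  intro hbot
  rw [Subgroup.commutator_comm] at hbot
  have hvE : (v : G) ∈ centralizer (E : Set G) := commutator_eq_bot_iff_le_centralizer.mp hbot hvΩ
  let q₀ : ↥(T' : Subgroup G) ⧸ S.subgroupOf T' := ((1 : ↥(T' : Subgroup G)) : _ ⧸ _)
  set rest := ∏ q ∈ Finset.univ.erase q₀, f q with hrest
  have hsplit : v = f q₀ * rest := (Finset.mul_prod_erase _ _ (Finset.mem_univ q₀)).symm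
  have hrestE : (rest : G) ∈ centralizer (E : Set G) := by
    refine mem_subgroupOf.mp (Subgroup.prod_mem ((centralizer (E : Set G)).subgroupOf UR) fun q hq => ?_)
    induction q using Quotient.inductionOn' with
    | h a =>
      show (a : G) * w * (a : G)⁻¹ ∈ centralizer (E : Set G)
      have haN : (a : G) ∉ NE := fun haN => (Finset.mem_erase.mp hq).1 (Quotient.sound'
        (QuotientGroup.leftRel_apply.mpr (by
          rw [mul_one]; exact inv_mem (show (a : G) ∈ S from ⟨a.2, haN⟩))))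
      rcases hfam a with h | h
      · exact absurd (cj_eq_self.mp h) haN
      · exact (commutator_eq_bot_iff_le_centralizer.mp h) (conj_mem_cj (WC_le_block E hw))
  refine hwE ?_
  have hf : (f q₀ : G) = w := by
    show (1 : G) * w * (1 : G)⁻¹ = w
    simp
  have := mul_mem hvE (inv_mem hrestE)
  rwa [hsplit, Subgroup.coe_mul, mul_inv_cancel_right, hf] at this

end Cfsg.Agent.PLocal.Blocks
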