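import Cfsg.Agent.Lib.PLocal.Blocks.Family
import Cfsg.Agent.Lib.PLocal.Blocks.SL2Facts

/-!
Conjugate blocks normalizing each other, and the conjugates of a subnormal block.
-/

set_option linter.all false
set_option autoImplicit false

namespace Cfsg.Agent.PLocal.Blocks

open Subgroup Cfsg
open scoped commutatorElement MatrixGroups
open Cfsg.Agent.PLocal.BlockModule (tU tL dg wl permAct)

variable {G : Type*} [Group G] [Finite G] {p : ℕ} [Fact p.Prime] {E : Subgroup G} {T : Sylow p G}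

local notation "QE" => pCoreOf p E
local notation "WE" => omegaOneCenter p (pCoreOf p E)
local notation "NE" => Subgroup.normalizer (E : Set G)
local notation "WC" => ⁅omegaOneCenter p (pCoreOf p E), E⁆

theorem orderOf_act_dvd {M : Type*} [AddCommGroup M] (ρ : Rep p E M) (f : ↥NE) :
    orderOf (ρ.act f) ∣ orderOf (f : G) := by
  refine (orderOf_map_dvd _ _).trans (dvd_of_eq ?_)
  exact (Subgroup.orderOf_coe f).symm

/-- Elements acting like elements of the block are in the block times the centralizer of its module. -/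
theorem mem_sup_of_act {M : Type*} [AddCommGroup M] (ρ : Rep p E M)
    (hE : IsBaumannBlock p (T : Subgroup G) E) {f : G} (hf : f ∈ NE)
    (h : ρ.act ⟨f, hf⟩ ∈ ρ.onBlock.range) :
    f ∈ E ⊔ centralizer ((WC : Subgroup G) : Set G) := by
  obtain ⟨e, he⟩ := h
  have h1 : (e : G)⁻¹ * f ∈ centralizer ((WC : Subgroup G) : Set G) := by
    refine (ρ.act_eq_one_iff hE (⟨e, Subgroup.le_normalizer e.2⟩⁻¹ * ⟨f, hf⟩)).mp ?_
    rw [map_mul, map_inv, ← Rep.onBlock_apply, he, inv_mul_cancel]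
  have := mul_mem (mem_sup_left (T := centralizer ((WC : Subgroup G) : Set G)) e.2) (mem_sup_right (S := E) h1)
  simpa using this

theorem mem_sup_of_alt {n : ℕ} (ρ : Rep 2 E (AltModule.EvenMod n)) {T : Sylow 2 G}
    (hE : IsBaumannBlock 2 (T : Subgroup G) E) (hn : 3 ≤ n) (hodd : Odd n)
    (hρ : ρ.onBlock.range = AltModule.img n) {f : G}
    (hf : f ∈ NE) (hcop : (orderOf f).Coprime 2) :
    f ∈ E ⊔ centralizer ((⁅omegaOneCenter 2 (pCoreOf 2 E), E⁆ : Subgroup G) : Set G) := by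
  refine mem_sup_of_act ρ hE hf ?_
  rw [hρ]
  exact AltModule.mem_img_of_odd hn hodd (ρ.act_add _) (hρ ▸ ρ.act_mem_normalizer _)
    (Nat.coprime_two_right.mp (hcop.coprime_dvd_left (orderOf_act_dvd ρ _))) (pow_orderOf_eq_one _)

section linear

variable {F : Type} [Field F] [Fintype F] (ρ : Rep p E (Fin 2 → F))

/-- Acting as minus one is inverting. -/
theorem conj_eq_inv_of_neg (hE : IsBaumannBlock p (T : Subgroup G) E)
    (hZ : (WC : Subgroup G) ⊓ centralizer (E : Set G) = ⊥) {f : G} (hf : f ∈ NE)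
    (h : ∀ v, ρ.act ⟨f, hf⟩ v = -v) : ∀ w ∈ (WC : Subgroup G), f * w * f⁻¹ = w⁻¹ := by
  intro w hw
  have hfw : f * w * f⁻¹ ∈ (WC : Subgroup G) := by
    have hfn : f ∈ normalizer ((WC : Subgroup G) : Set G) := by
      rw [← cj_eq_self, cj_WC, cj_eq_self.mpr hf]
    exact (mem_normalizer_iff.mp hfn w).mp hw
  have h1 := h (ρ.coord ⟨w, commutator_WE_le hw⟩)
  rw [ρ.act_coord] at h1
  have h2 : ((⟨f * w * f⁻¹, commutator_WE_le hfw⟩ * ⟨w, commutator_WE_le hw⟩ : ↥WE) : G) ∈
      WE ⊓ centralizer (E : Set G) := by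
    refine (ρ.coord_eq_zero).mp ?_
    rw [ρ.coord_mul]
    exact add_eq_zero_iff_eq_neg.mpr h1
  have h3 : f * w * f⁻¹ * w ∈ (⊥ : Subgroup G) := hZ ▸ ⟨mul_mem hfw hw, h2.2⟩
  exact eq_inv_of_mul_eq_one_left (mem_bot.mp h3)

/-- Inverting is acting as minus one. -/
theorem neg_of_conj_eq_inv (hE : IsBaumannBlock p (T : Subgroup G) E) {f : G} (hf : f ∈ NE)
    (h : ∀ w ∈ (WC : Subgroup G), f * w * f⁻¹ = w⁻¹) : ∀ v, ρ.act ⟨f, hf⟩ v = -v := by
  intro v
  obtain ⟨⟨w, hw⟩, hw'⟩ := ρ.onWC_surjective hE (Multiplicative.ofAdd v)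
  have hv : ρ.coord ⟨w, commutator_WE_le hw⟩ = v := (ρ.onWC_apply ⟨w, hw⟩).symm.trans (by rw [hw']; rfl)
  rw [← hv, ρ.act_coord]
  have e : (⟨f * w * f⁻¹, conj_mem_WE hf (commutator_WE_le hw)⟩ : ↥WE) = ⟨w, commutator_WE_le hw⟩⁻¹ :=
    Subtype.ext (h w hw)
  rw [e]
  exact congrArg Multiplicative.toAdd (map_inv ρ.toHom _)

end linear

/-- A conjugate of a block normalizing it and normalized by it equals it or commutes with it. -/
theorem normalizing_eq (hG : centralizer (pCore p G : Set G) ≤ pCore p G)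
    (hE : IsBaumannBlock p (T : Subgroup G) E) (hQR : QE ≤ pCore p G) (x : G) (hFN : cj x E ≤ NE)
    (hEN : E ≤ normalizer ((cj x E : Subgroup G) : Set G)) : cj x E = E ∨ ⁅E, cj x E⁆ = ⊥ := by
  have hF : IsBaumannBlock p ((x • T : Sylow p G) : Subgroup G) (cj x E) := block_cj hE x
  by_cases hne : cj x E ≤ centralizer ((WC : Subgroup G) : Set G)
  · exact Or.inr (commute_of_centralizes hG hE hF hQR hFN hne)
  have hle : ∀ X : Subgroup G, X ≤ E → Nat.card X = Nat.card E → X = E :=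
    fun X h hc => eq_of_le_of_card_ge h hc.ge
  suffices hsup : cj x E ≤ E ⊔ centralizer ((WC : Subgroup G) : Set G) ∨ E ≤ cj x E by
    rcases hsup with h | h
    · exact Or.inl (hle _ (le_of_induced_le hG hE hF hFN h hne) (card_cj x E))
    · exact Or.inl (eq_of_le_of_card_ge h (card_cj x E).le).symm
  rcases block_cases hE with ⟨K, iK, iKt, iC, n, ρ, hK, hρ, -⟩ | ⟨rfl, n, ρ, hn, hodd, hρ, -⟩
  swap
  · exact Or.inl (le_of_coprime_mem (BlockBasic.resOf_eq hF) fun f hf hcop =>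
      mem_sup_of_alt ρ hE hn hodd hρ (hFN hf) hcop)
  have hadd : ∀ f : ↥NE, SL2.IsAdd (ρ.act f) := fun f => ρ.isAdd_act f
  by_cases h4 : 4 ≤ Fintype.card K
  · -- the intersection is normal in the block
    have hE' : E ≤ normalizer ((E ⊓ cj x E : Subgroup G) : Set G) :=
      (le_inf Subgroup.le_normalizer hEN).trans inf_normalizer_le_normalizer_inf
    let Y : Subgroup SL(2, K) := (ρ.image (E ⊓ cj x E)).comap SL2.lin
    have hEimg : ρ.image E = SL2.img K := by
      rw [← hρ, Rep.image, Rep.onBlock, MonoidHom.range_comp, Subgroup.inclusion_range]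
    have htop : ∀ s : SL(2, K), SL2.lin s ∈ ρ.image E := fun s => by
      rw [hEimg]
      exact ⟨s, (SL2.commutator_eq_top (SL2.exists_sq_ne_one h4)).symm ▸ mem_top _, rfl⟩
    haveI : Y.Normal := ⟨fun y hy s => by
      obtain ⟨a, ha, ha'⟩ := htop s
      obtain ⟨b, hb, hb'⟩ := hy
      refine ⟨a * b * a⁻¹, ?_, ?_⟩
      · show (a : G) * b * (a : G)⁻¹ ∈ E ⊓ cj x E
        exact (mem_normalizer_iff.mp (hE' (show (a : G) ∈ E from ha)) _).mp hb
      · rw [map_mul, map_mul, map_inv, ha', hb', map_mul, map_mul, map_inv]⟩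
    rcases SL2.normal_le_center_or_top h4 Y with hY | hY
    swap
    · right
      refine le_trans (le_of_le_sup (D := QE) (BlockBasic.resOf_eq hE) (CharP.isPGroup_pCoreOf p E)
        ((CharP.pCoreOf_le p E).trans hE') ?_) inf_le_right
      intro e he
      obtain ⟨s, -, hs⟩ : ρ.onBlock ⟨e, he⟩ ∈ SL2.img K := hρ ▸ ⟨⟨e, he⟩, rfl⟩
      obtain ⟨a, ha, ha'⟩ := (hY ▸ mem_top s : s ∈ Y)
      have ha2 : (a : G) ∈ E ⊓ cj x E := ha
      have hk : (a : G)⁻¹ * e ∈ QE := by
        rw [← inf_centralizer_eq_core hE]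
        refine mem_inf.mpr ⟨mul_mem (inv_mem (mem_inf.mp ha2).1) he, (ρ.act_eq_one_iff hE (a⁻¹ * ⟨e, Subgroup.le_normalizer he⟩)).mp ?_⟩
        rw [map_mul, map_inv, ← Rep.onBlock_apply ρ ⟨e, he⟩, ← hs, ha', inv_mul_cancel]
      have := mul_mem (mem_sup_left (T := QE) ha2) (mem_sup_right (S := E ⊓ cj x E) hk)
      simpa using this
    -- the conjugate acts by scalars
    exfalso
    have hcommute : ∀ f, ∀ hf : f ∈ cj x E, ∀ (s : SL(2, K)) (v : Fin 2 → K),
        ρ.act ⟨f, hFN hf⟩ (SL2.lin s v) = SL2.lin s (ρ.act ⟨f, hFN hf⟩ v) := by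
      intro f hf
      set g := ρ.act ⟨f, hFN hf⟩
      have hz : ∀ s : SL(2, K), ∃ z ∈ center SL(2, K), g * SL2.lin s * g⁻¹ = SL2.lin z * SL2.lin s := by
        intro s
        obtain ⟨a, ha, ha'⟩ := htop s
        have haE : (a : G) ∈ E := ha
        have hmem : ⁅f, (a : G)⁆ ∈ E ⊓ cj x E := by
          refine mem_inf.mpr ⟨?_, ?_⟩
          · rw [commutatorElement_def]
            exact mul_mem ((mem_normalizer_iff.mp (hFN hf) _).mp haE) (inv_mem haE)
          · rw [comm_eq]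
            exact mul_mem hf ((mem_normalizer_iff.mp (hEN haE) _).mp (inv_mem hf))
        obtain ⟨s', -, hs'⟩ : ρ.act ⁅(⟨f, hFN hf⟩ : ↥NE), a⁆ ∈ SL2.img K := hEimg.le ⟨⁅(⟨f, hFN hf⟩ : ↥NE), a⁆, (mem_inf.mp hmem).1, rfl⟩
        refine ⟨s', hY ?_, ?_⟩
        · exact ⟨_, hmem, hs'.symm⟩
        · rw [hs', map_commutatorElement, ha', commutatorElement_def, inv_mul_cancel_right]
      let C : Subgroup SL(2, K) :=
        { carrier := {s | g * SL2.lin s * g⁻¹ = SL2.lin s}
          one_mem' := by simp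
          mul_mem' := by
            intro a b ha hb
            show g * SL2.lin (a * b) * g⁻¹ = SL2.lin (a * b)
            calc g * SL2.lin (a * b) * g⁻¹ = (g * SL2.lin a * g⁻¹) * (g * SL2.lin b * g⁻¹) := by
                  simp [map_mul, mul_assoc]
              _ = _ := by rw [ha, hb, map_mul]
          inv_mem' := by
            intro a ha
            show g * SL2.lin a⁻¹ * g⁻¹ = SL2.lin a⁻¹
            calc g * SL2.lin a⁻¹ * g⁻¹ = (g * SL2.lin a * g⁻¹)⁻¹ := by simp [map_inv, mul_assoc]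
              _ = _ := by rw [ha, map_inv] }
      have hC : C = ⊤ := by
        refine top_le_iff.mp ((SL2.commutator_eq_top (SL2.exists_sq_ne_one h4)).ge.trans ?_)
        rw [_root_.commutator_def, commutator_le]
        intro a _ b _
        obtain ⟨z, hz1, hza⟩ := hz a
        obtain ⟨w, hw1, hwb⟩ := hz b
        show g * SL2.lin ⁅a, b⁆ * g⁻¹ = SL2.lin ⁅a, b⁆
        rw [show g * SL2.lin ⁅a, b⁆ * g⁻¹ = ⁅g * SL2.lin a * g⁻¹, g * SL2.lin b * g⁻¹⁆ by
          simp [commutatorElement_def, mul_assoc], hza, hwb, ← map_mul, ← map_mul, ← map_commutatorElement]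
        congr 1
        have hz' := fun y => (mem_center_iff.mp hz1 y).symm
        have hw' := fun y => (mem_center_iff.mp hw1 y).symm
        calc ⁅z * a, w * b⁆ = z * (a * (w * b) * a⁻¹) * z⁻¹ * b⁻¹ * w⁻¹ := by
              simp [commutatorElement_def, mul_assoc]
          _ = a * (w * b) * a⁻¹ * b⁻¹ * w⁻¹ := by rw [hz', mul_inv_cancel_right]
          _ = a * w * (b * a⁻¹ * b⁻¹) * w⁻¹ := by simp [mul_assoc]
          _ = a * (w * (b * a⁻¹ * b⁻¹) * w⁻¹) := by simp [mul_assoc]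
          _ = ⁅a, b⁆ := by rw [hw', mul_inv_cancel_right]; simp [commutatorElement_def, mul_assoc]
      intro s v
      have h := (hC ▸ mem_top s : s ∈ C)
      have h' : g * SL2.lin s = SL2.lin s * g := mul_inv_eq_iff_eq_mul.mp h
      exact Equiv.congr_fun h' v
    refine hne ?_
    have hperf : ⁅cj x E, cj x E⁆ = cj x E := by rw [← cj_commutator, commutator_eq_of_linear hE ρ hρ h4]
    rw [← hperf, commutator_le]
    intro a ha b hb
    refine (ρ.act_eq_one_iff hE ⁅(⟨a, hFN ha⟩ : ↥NE), (⟨b, hFN hb⟩ : ↥NE)⁆).mp ?_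
    rw [map_commutatorElement, commutatorElement_eq_one_iff_mul_comm]
    obtain ⟨ca, hca⟩ := SL2.scalar_of_commute_all (hadd _) (hcommute a ha)
    obtain ⟨cb, hcb⟩ := SL2.scalar_of_commute_all (hadd _) (hcommute b hb)
    refine Equiv.ext fun v => ?_
    rw [Equiv.Perm.mul_apply, Equiv.Perm.mul_apply, hcb, hca, hca, hcb, smul_smul, smul_smul, mul_comm]
  left
  refine le_of_coprime_mem (BlockBasic.resOf_eq hF) fun f hf hcop => mem_sup_of_act ρ hE (hFN hf) ?_
  rw [hρ]
  have h23 : Fintype.card K = 2 ∨ Fintype.card K = 3 := by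
    have := Fintype.one_lt_card (α := K); omega
  rcases h23 with h2 | h3
  · -- two elements
    have hp : p = 2 := by
      have hn : n ≠ 0 := by rintro rfl; rw [h2] at hK; simp at hK
      exact ((Nat.prime_dvd_prime_iff_eq Fact.out Nat.prime_two).mp (by rw [← h2, hK]; exact dvd_pow_self p hn))
    subst hp
    refine SL2.mem_img_of_odd_two h2 ?_ (fun σ hσ => Rep.pow_three_of_two h2 hσ) (hadd _)
      (Nat.coprime_two_right.mp (hcop.coprime_dvd_left (orderOf_act_dvd ρ _)))
    rw [← hρ]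
    intro hbot
    refine BlockModule.not_le_core hE fun e he => ?_
    rw [← inf_centralizer_eq_core hE]
    refine ⟨he, (ρ.act_eq_one_iff hE ⟨e, Subgroup.le_normalizer he⟩).mp ?_⟩
    have h1 : ρ.onBlock ⟨e, he⟩ ∈ (⊥ : Subgroup _) := hbot ▸ ⟨_, rfl⟩
    exact mem_bot.mp h1
  · -- three elements
    have hp : p = 3 := by
      have hn : n ≠ 0 := by rintro rfl; rw [h3] at hK; simp at hK
      exact ((Nat.prime_dvd_prime_iff_eq Fact.out Nat.prime_three).mp (by rw [← h3, hK]; exact dvd_pow_self p hn))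
    subst hp
    have hZ := inf_eq_bot_of_odd hE (by decide)
    have hWW : cj x (⁅omegaOneCenter 3 (pCoreOf 3 E), E⁆ : Subgroup G) = ⁅omegaOneCenter 3 (pCoreOf 3 E), E⁆ := by
      refine eq_of_le_of_card_ge ?_ (card_cj x _).ge
      rw [cj_WC]
      exact WC_le_of_normalizes hG hE hF hFN hne
    obtain ⟨e, he, rfl⟩ := hf
    have hecop : (orderOf e).Coprime 3 := by
      rwa [MulEquiv.coe_toMonoidHom, MulEquiv.orderOf_eq] at hcop
    obtain ⟨s, -, hs⟩ : ρ.onBlock ⟨e, he⟩ ∈ SL2.img K := hρ ▸ ⟨⟨e, he⟩, rfl⟩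
    have hscop : (orderOf s).Coprime 3 := by
      rw [← orderOf_injective SL2.lin SL2.lin_injective s, hs]
      exact hecop.coprime_dvd_left (orderOf_act_dvd ρ _)
    have h2 : (2 : K) ≠ 0 := fun h => by
      have := (CharP.cast_eq_zero_iff K 3 2).mp (by exact_mod_cast h)
      omega
    have hconj : ∀ a : G, ∀ w ∈ (⁅omegaOneCenter 3 (pCoreOf 3 E), E⁆ : Subgroup G), a ∈ E →
        (∀ v ∈ (⁅omegaOneCenter 3 (pCoreOf 3 E), E⁆ : Subgroup G), a * v * a⁻¹ = v⁻¹) →
        MulAut.conj x a * w * (MulAut.conj x a)⁻¹ = w⁻¹ := by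
      intro a w hw _ h
      rw [← hWW] at hw
      obtain ⟨v, hv, rfl⟩ := hw
      show MulAut.conj x a * MulAut.conj x v * (MulAut.conj x a)⁻¹ = (MulAut.conj x v)⁻¹
      rw [← map_inv, ← map_mul, ← map_mul, h v hv, map_inv]
    rcases SL2.trichotomy h3 hscop with h | h | h
    · have hc : e ∈ centralizer ((⁅omegaOneCenter 3 (pCoreOf 3 E), E⁆ : Subgroup G) : Set G) :=
        (ρ.act_eq_one_iff hE ⟨e, Subgroup.le_normalizer he⟩).mp (by
          rw [← Rep.onBlock_apply ρ ⟨e, he⟩, ← hs, h, map_one])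
      have hc' : (MulAut.conj x).toMonoidHom e ∈ centralizer ((⁅omegaOneCenter 3 (pCoreOf 3 E), E⁆ : Subgroup G) : Set G) := by
        rw [← hWW, ← cj_centralizer]
        exact mem_map_of_mem _ hc
      rw [(ρ.act_eq_one_iff hE ⟨_, hFN ⟨e, he, rfl⟩⟩).mpr hc']
      exact one_mem _
    · have hh := conj_eq_inv_of_neg ρ hE hZ (Subgroup.le_normalizer he) (fun v => by
        rw [← Rep.onBlock_apply ρ ⟨e, he⟩, ← hs]; exact h v)
      have hact := neg_of_conj_eq_inv ρ hE (hFN ⟨e, he, rfl⟩) fun w hw => hconj e w hw he hh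
      refine ⟨wl * wl, mul_mem (SL2.wl_mem_commutator h2) (SL2.wl_mem_commutator h2), Equiv.ext fun v => ?_⟩
      rw [SL2.neg_one_lin_apply]; exact (hact v).symm
    · have hh := conj_eq_inv_of_neg ρ hE hZ (Subgroup.le_normalizer (mul_mem he he)) (fun v => by
        rw [← Rep.onBlock_apply ρ ⟨e * e, mul_mem he he⟩,
          show (⟨e * e, mul_mem he he⟩ : ↥E) = ⟨e, he⟩ * ⟨e, he⟩ from rfl, map_mul, ← hs, ← map_mul]
        exact h v)
      have hmem : MulAut.conj x (e * e) ∈ NE := hFN ⟨e * e, mul_mem he he, rfl⟩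
      have hact := neg_of_conj_eq_inv ρ hE hmem fun w hw => hconj (e * e) w hw (mul_mem he he) hh
      refine SL2.mem_img_of_sq h3 (hadd _) fun v => ?_
      rw [← Equiv.Perm.mul_apply, ← map_mul]
      refine Eq.trans ?_ (hact v)
      congr 2
      exact Subtype.ext (map_mul (MulAut.conj x) e e).symm

/-- The conjugates of a subnormal block commute. -/
theorem conjugates_commute (hG : centralizer (pCore p G : Set G) ≤ pCore p G)
    (hE : IsBaumannBlock p (T : Subgroup G) E) (hEs : E.IsSubnormal) :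
    ∀ g : G, cj g E = E ∨ ⁅cj g E, E⁆ = ⊥ := by
  have hQR : QE ≤ pCore p G := CharP.pCoreOf_le_pCore_of_isSubnormal hEs
  have step : ∀ H : Subgroup G, H.IsSubnormal → E ≤ H → (∀ h ∈ H, cj h E = E ∨ ⁅cj h E, E⁆ = ⊥) →
      ∀ h ∈ (⊤ : Subgroup G), cj h E = E ∨ ⁅cj h E, E⁆ = ⊥ := by
    intro H hH
    induction hH with
    | top => exact fun _ h => h
    | step H K hle hK hn ih =>
      intro hEH hC
      refine ih (hEH.trans hle) fun k hk => ?_
      have hKH : K ≤ normalizer (H : Set G) := (normal_subgroupOf_iff_le_normalizer hle).mp hn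
      have hFH : cj k E ≤ H := (map_mono hEH).trans (mem_normalizer_iff_map_conj_eq.mp (hKH hk)).le
      have h1 : cj k E ≤ NE := family_fix hG hE k fun f hf => hC f (hFH hf)
      have h2 : E ≤ normalizer ((cj k E : Subgroup G) : Set G) := by
        have hback : cj k⁻¹ (cj k E) = E := by rw [cj_cj, inv_mul_cancel, cj_one]
        have h := family_fix hG (block_cj hE k) k⁻¹ ?_
        · rwa [hback] at h
        rw [hback]
        intro e he
        have hmem : k⁻¹ * e * k ∈ H := (mem_normalizer_iff''.mp (hKH hk) e).mp (hEH he)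
        have e1 : cj e (cj k E) = cj k (cj (k⁻¹ * e * k) E) := by
          rw [cj_cj, cj_cj]; congr 1; simp [mul_assoc]
        rcases hC _ hmem with h' | h'
        · exact Or.inl (by rw [e1, h'])
        · exact Or.inr (by rw [e1, ← cj_commutator, h', cj_bot])
      rcases normalizing_eq hG hE hQR k h1 h2 with h | h
      · exact Or.inl h
      · exact Or.inr (by rwa [Subgroup.commutator_comm] at h)
  exact fun g => step E hEs le_rfl (fun h hh => Or.inl (cj_eq_self.mpr (Subgroup.le_normalizer hh))) g (mem_top g)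

end Cfsg.Agent.PLocal.Blocks
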