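import Cfsg.Agent.Lib.PLocal.Blocks.SL2

/-!
The normalizer of the image of the derived group of `SL₂` among additive permutations.
-/

set_option linter.all false
set_option autoImplicit false

namespace Cfsg.Agent.PLocal.Blocks.SL2

open Subgroup
open scoped MatrixGroups commutatorElement
open Cfsg.Agent.PLocal.BlockModule (tU tL dg wl)

variable {F : Type*} [Field F]

local notation "M" => (Fin 2 → F)

/-- Additive permutations of the natural module over a prime field are linear. -/
theorem IsAdd.smul_of_prime [Fintype F] {g : Equiv.Perm M} (hg : IsAdd g)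
    (hp : (Fintype.card F).Prime) (c : F) (v : M) : g (c • v) = c • g v := by
  obtain ⟨p, hc⟩ := CharP.exists F
  haveI := hc
  obtain ⟨n, hpp, hn⟩ := FiniteField.card F p
  have hn1 : (n : ℕ) = 1 := by
    rw [hn] at hp
    exact hp.eq_one_of_pow
  haveI : Fact p.Prime := ⟨hpp⟩
  have hb : Function.Bijective (ZMod.castHom (dvd_refl p) F) :=
    (Fintype.bijective_iff_injective_and_card _).mpr
      ⟨RingHom.injective _, by rw [ZMod.card, hn, hn1, pow_one]⟩
  obtain ⟨k, rfl⟩ := hb.2 c
  obtain ⟨m, rfl⟩ := ZMod.natCast_zmod_surjective k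
  rw [map_natCast, Nat.cast_smul_eq_nsmul, Nat.cast_smul_eq_nsmul]
  exact hg.nsmul m v

theorem card_lt_four [Fintype F] (h : Fintype.card F < 4) : (Fintype.card F).Prime := by
  have h2 : 2 ≤ Fintype.card F := Fintype.one_lt_card
  interval_cases Fintype.card F <;> decide

theorem linear_dichotomy [Fintype F] :
    4 ≤ Fintype.card F ∨ ∀ g : Equiv.Perm M, IsAdd g → ∀ (c : F) (v : M), g (c • v) = c • g v := by
  by_cases h : 4 ≤ Fintype.card F
  · exact Or.inl h
  · exact Or.inr fun g hg => hg.smul_of_prime (card_lt_four (not_le.mp h))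

theorem wl_mem_commutator [Fintype F] (h2 : (2 : F) ≠ 0) : (wl : SL(2, F)) ∈ commutator SL(2, F) := by
  by_cases h : 4 ≤ Fintype.card F
  · rw [commutator_eq_top (exists_sq_ne_one h)]; exact mem_top _
  have hp := card_lt_four (not_le.mp h)
  have h3 : (3 : F) = 0 := by
    have hne : Fintype.card F ≠ 2 := fun h2' => h2 (by
      have := Nat.cast_card_eq_zero F
      rw [h2'] at this; exact_mod_cast this)
    have h3' : Fintype.card F = 3 := by
      have := Fintype.one_lt_card (α := F); omega
    have := Nat.cast_card_eq_zero F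
    rw [h3'] at this; exact_mod_cast this
  have hA := BlockModule.mem_commutator (wl : SL(2, F)) (tU 1)
  have hn : (commutator SL(2, F)).Normal := inferInstance
  have h' := hn.conj_mem _ hA (tU 1)
  convert h' using 1
  refine Subtype.ext ?_
  rw [Matrix.SpecialLinearGroup.coe_mul, Matrix.SpecialLinearGroup.coe_mul, BlockModule.comm_wl,
    Matrix.SpecialLinearGroup.coe_inv]
  ext i j
  fin_cases i <;> fin_cases j <;>
    simp [wl, tU, Matrix.mul_apply, Fin.sum_univ_two, Matrix.adjugate_fin_two_of] <;>
    first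
      | exact h3
      | ring_nf; done
      | linear_combination (2 : F) * h3
      | linear_combination (-2 : F) * h3
      | linear_combination h3
      | linear_combination (-1 : F) * h3

theorem neg_one_lin_apply [Fintype F] (v : M) : lin ((wl : SL(2, F)) * wl) v = -v := by
  rw [map_mul, Equiv.Perm.mul_apply, wl_apply, wl_apply]
  ext i; fin_cases i <;> simp

/-- Only scalars commute with the derived group in odd characteristic. -/
theorem scalar_of_commute [Fintype F] (h2 : (2 : F) ≠ 0) {g : Equiv.Perm M} (hg : IsAdd g)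
    (hc : ∀ s ∈ commutator SL(2, F), ∀ v, g (lin s v) = lin s (g v)) :
    ∃ c : F, c ≠ 0 ∧ ∀ v : M, g v = c • v := by
  have hw := hc _ (wl_mem_commutator h2)
  suffices ∃ c : F, ∀ v : M, g v = c • v by
    obtain ⟨c, hc'⟩ := this
    refine ⟨c, fun h0 => ?_, hc'⟩
    have h1 := hc' ![1, 0]
    rw [h0, zero_smul, ← hg.zero] at h1
    have := congr_fun (g.injective h1) 0
    simp at this
  rcases linear_dichotomy (F := F) with h4 | hlin
  · have hu := fun s => hc (tU s) ((commutator_eq_top (exists_sq_ne_one h4)).symm ▸ mem_top _)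
    have hx : ∀ x, g ![x, 0] 1 = 0 := by
      intro x
      have h1 := congr_fun (hu 1 ![0, x]) 0
      have h3 : (lin (tU (1 : F))) ![0, x] = ![x, 0] + ![0, x] := by
        rw [tU_apply]; ext i; fin_cases i <;> simp
      rw [h3, hg] at h1
      simp [tU_apply] at h1
      have h4' := congr_fun (hu 1 ![x, 0]) 0
      have h5 : (lin (tU (1 : F))) ![x, 0] = ![x, 0] := by rw [tU_apply]; ext i; fin_cases i <;> simp
      rw [h5] at h4'
      simp [tU_apply] at h4'
      exact h4'
    set α : F → F := fun x => g ![x, 0] 0 with hα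
    have hdiag : ∀ v : M, g v = ![α (v 0), α (v 1)] := by
      intro v
      have h1 : ∀ y, g ![0, y] = ![0, α y] := by
        intro y
        have h := hw ![-y, 0]
        have e1 : (lin (wl : SL(2, F))) ![-y, 0] = ![0, y] := by
          rw [wl_apply]; ext i; fin_cases i <;> simp
        rw [e1] at h
        rw [h, wl_apply, hx]
        ext i; fin_cases i
        · simp
        · simp only [hα]
          have : g ![y, 0] + g ![-y, 0] = 0 := by
            rw [← hg, ← hg.zero]; congr 1; ext i; fin_cases i <;> simp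
          have := congr_fun this 0
          simp at this ⊢
          linear_combination -this
      conv_lhs => rw [split v, hg, h1]
      ext i; fin_cases i <;> simp [hα, hx]
    refine ⟨α 1, fun v => ?_⟩
    have hl : ∀ s, α s = s * α 1 := by
      intro s
      have h := congr_fun (hu s ![0, 1]) 0
      rw [hdiag, hdiag, tU_apply, tU_apply] at h
      simp at h
      have h0 : α 0 = 0 := by
        show g ![0, 0] 0 = 0
        rw [show (![0, 0] : M) = 0 by ext i; fin_cases i <;> simp, hg.zero]; rfl
      linear_combination h + h0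
    rw [hdiag]
    ext i; fin_cases i <;> simp [hl (v 0), hl (v 1)] <;> ring
  · have hn : (commutator SL(2, F)).Normal := inferInstance
    have hw1 := hc _ (hn.conj_mem _ (wl_mem_commutator h2) (tU 1))
    set a := g ![1, 0] 0
    set b := g ![1, 0] 1
    have he : g ![1, 0] = ![a, b] := vec_eq _
    have he2 : g ![0, 1] = ![-b, a] := by
      have h := hw ![-1, 0]
      have e1 : (lin (wl : SL(2, F))) ![-1, 0] = ![0, 1] := by
        rw [wl_apply]; ext i; fin_cases i <;> simp
      rw [e1] at h
      rw [h, show (![-1, 0] : M) = (-1 : F) • ![1, 0] by ext i; fin_cases i <;> simp, hlin g hg, he,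
        wl_apply]
      ext i; fin_cases i <;> simp
    have hall : ∀ v : M, g v = ![v 0 * a - v 1 * b, v 0 * b + v 1 * a] := by
      intro v
      conv_lhs => rw [show v = (v 0) • ![1, 0] + (v 1) • ![0, 1] by ext i; fin_cases i <;> simp]
      rw [hg, hlin g hg, hlin g hg, he, he2]
      ext i; fin_cases i <;> simp <;> ring
    have hinv : ∀ u : M, (lin ((tU 1 : SL(2, F))⁻¹)) u = ![u 0 - u 1, u 1] := by
      intro u
      rw [show ((tU 1 : SL(2, F))⁻¹) = tU (-1) from inv_eq_of_mul_eq_one_right (by rw [tU_add, add_neg_cancel, tU_zero]),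
        tU_apply]
      ext i; fin_cases i <;> simp; ring
    have h := congr_fun (hw1 ![1, 0]) 1
    rw [map_mul, map_mul] at h
    simp only [Equiv.Perm.mul_apply, hinv, wl_apply, tU_apply, hall] at h
    simp at h
    have hb : b = 0 := by
      have : (2 : F) * b = 0 := by linear_combination -h
      exact (mul_eq_zero.mp this).resolve_left h2
    refine ⟨a, fun v => ?_⟩
    rw [hall, hb]
    ext i; fin_cases i <;> simp <;> ring

/-- Elements of `SL₂` fixing the first basis vector are unitriangular. -/
theorem exists_tU_of_fix {s : SL(2, F)} (h : lin s ![1, 0] = ![1, 0]) : ∃ b, s = tU b := by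
  have h0 := congr_fun h 0
  have h1 := congr_fun h 1
  rw [lin_apply] at h0 h1
  simp [Matrix.mulVec, dotProduct, Fin.sum_univ_two] at h0 h1
  have hd : s.1 0 0 * s.1 1 1 - s.1 0 1 * s.1 1 0 = 1 := by rw [← Matrix.det_fin_two]; exact s.2
  rw [h0, h1] at hd
  simp at hd
  refine ⟨s.1 0 1, Subtype.ext ?_⟩
  ext i j
  fin_cases i <;> fin_cases j <;> simp [tU, h0, h1, hd]

/-- The shape of a normalizing permutation fixing the first basis vector. -/
theorem upper [Fintype F] (h4 : 4 ≤ Fintype.card F) {g : Equiv.Perm M} (hg : IsAdd g)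
    (hn : g ∈ normalizer (img F : Set _)) (hfix : g ![1, 0] = ![1, 0]) :
    ∃ (σ : F ≃+* F) (β : F → F) (c : F), c ≠ 0 ∧ (∀ v : M, g v = ![σ (v 0) + β (v 1), c * σ (v 1)]) ∧
      (∀ s, g * lin (tU s) * g⁻¹ = lin (tU (σ s / c))) ∧
      ((∀ x, σ x = x) → c = 1 → ∀ y, β y = y * β 1) := by
  have hτ : ∀ s, ∃ t, g * lin (tU s) * g⁻¹ = lin (tU t) := by
    intro s
    obtain ⟨u, hu, hu'⟩ := (mem_normalizer_iff.mp hn _).mp (lin_tU_mem h4 s)
    obtain ⟨b, rfl⟩ := exists_tU_of_fix (s := u) (by
      have hgi : g⁻¹ ![1, 0] = ![1, 0] := g.injective (by simp [Equiv.Perm.inv_def, hfix])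
      rw [hu', Equiv.Perm.mul_apply, Equiv.Perm.mul_apply, hgi, tU_apply]
      simpa using hfix)
    exact ⟨b, hu'.symm⟩
  choose τ hτ using hτ
  have key : ∀ s x y, g ![x + s * y, y] = ![g ![x, y] 0 + τ s * g ![x, y] 1, g ![x, y] 1] := by
    intro s x y
    have h : (g * lin (tU s)) ![x, y] = (lin (tU (τ s)) * g) ![x, y] := by
      rw [← hτ, inv_mul_cancel_right]
    simpa [Equiv.Perm.mul_apply, tU_apply] using h
  set δ : F → F := fun y => g ![0, y] 1 with hδ
  have hline : ∀ s y, g ![s * y, 0] = ![τ s * δ y, 0] := by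
    intro s y
    have h := key s 0 y
    rw [zero_add, show (![s * y, y] : M) = ![s * y, 0] + ![0, y] by ext i; fin_cases i <;> simp, hg] at h
    ext i; fin_cases i
    · have := congr_fun h 0; simp at this ⊢; linear_combination this
    · have := congr_fun h 1; simp [hδ] at this ⊢; exact this
  have hc0 : δ 1 ≠ 0 := fun h0 => by
    have h1 := hline 1 1
    rw [h0, mul_zero, one_mul, hfix] at h1
    simpa using congr_fun h1 0
  set α : F → F := fun s => τ s * δ 1 with hα
  have hαline : ∀ x, g ![x, 0] = ![α x, 0] := fun x => by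
    have := hline x 1; rwa [mul_one] at this
  have hα1 : α 1 = 1 := by
    have := congr_fun (hαline 1) 0
    rw [hfix] at this
    simpa using this.symm
  have hmul : ∀ s y, α (s * y) = τ s * δ y := fun s y => by
    have := congr_fun ((hαline (s * y)).symm.trans (hline s y)) 0
    simpa using this
  have hδy : ∀ y, δ y = δ 1 * α y := fun y => by
    have h := hmul 1 y
    rw [one_mul] at h
    rw [h]
    have h1 : τ 1 * δ 1 = 1 := hα1
    linear_combination (-δ y) * h1
  have hαmul : ∀ s y, α (s * y) = α s * α y := fun s y => by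
    rw [hmul, hδy]; simp only [hα]; ring
  have hαadd : ∀ x y, α (x + y) = α x + α y := fun x y => by
    have h : g ![x + y, 0] = g ![x, 0] + g ![y, 0] := by
      rw [← hg]; congr 1; ext i; fin_cases i <;> simp
    rw [hαline, hαline, hαline] at h
    simpa using congr_fun h 0
  let σ₀ : F →+* F :=
    { toFun := α
      map_one' := hα1
      map_mul' := hαmul
      map_zero' := by have := hαadd 0 0; simpa using this
      map_add' := hαadd }
  let σ : F ≃+* F := RingEquiv.ofBijective σ₀ (Finite.injective_iff_bijective.mp σ₀.injective)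
  refine ⟨σ, fun y => g ![0, y] 0, δ 1, hc0, fun v => ?_, fun s => ?_, fun hid hc1 => ?_⟩
  · conv_lhs => rw [split v, hg, hαline]
    ext i; fin_cases i
    · simp; rfl
    · simp; exact hδy _
  · rw [hτ]
    congr 2
    show τ s = α s / δ 1
    simp only [hα]; field_simp
  · intro y
    have hid' : ∀ x, α x = x := hid
    have hg' : ∀ v : M, g v = ![v 0 + g ![0, v 1] 0, v 1] := fun v => by
      conv_lhs => rw [split v, hg, hαline, hid']
      ext i; fin_cases i
      · simp
      · simp; show δ (v 1) = v 1; rw [hδy, hc1, hid', one_mul]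
    have htL : lin (tL (1 : F)) ∈ img F :=
      ⟨_, (commutator_eq_top (exists_sq_ne_one h4)).symm ▸ mem_top _, rfl⟩
    obtain ⟨u, -, hu⟩ := (mem_normalizer_iff.mp hn _).mp htL
    have h := fun v : M => Equiv.congr_fun hu v
    have hginv : ∀ w, g⁻¹ ![g ![0, w] 0, w] = ![0, w] := fun w => g.injective (by
      simp [Equiv.Perm.inv_def]; rw [hg' ![0, w]]; simp)
    -- the second coordinate of the conjugate of `tL 1` is linear
    have h2 : ∀ w, u.1 1 0 * g ![0, w] 0 + u.1 1 1 * w = w := by
      intro w
      have := congr_fun (h ![g ![0, w] 0, w]) 1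
      rw [Equiv.Perm.mul_apply, Equiv.Perm.mul_apply, hginv, tL_apply, hg', lin_apply] at this
      simp [Matrix.mulVec, dotProduct, Fin.sum_univ_two] at this
      rw [this, hg' ![0, w]]; simp
    have h10 : u.1 1 0 ≠ 0 := by
      intro h0
      have e := congr_fun (h (g ![1, 0])) 1
      rw [Equiv.Perm.mul_apply, Equiv.Perm.mul_apply, show g⁻¹ (g ![1, 0]) = ![1, 0] from g.symm_apply_apply _,
        tL_apply, hfix, hg', lin_apply] at e
      simp [Matrix.mulVec, dotProduct, Fin.sum_univ_two, h0] at e
    have e1 := h2 1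
    have e2 := h2 y
    show g ![0, y] 0 = y * g ![0, 1] 0
    exact mul_left_cancel₀ h10 (by linear_combination e2 - y * e1)

/-- A `p`-element normalizing, fixing a line pointwise, is a transvection. -/
theorem exists_tU_of_fix_line [Fintype F] {p : ℕ} [Fact p.Prime] [CharP F p] {g : Equiv.Perm M}
    (hg : IsAdd g) (hn : g ∈ normalizer (img F : Set _)) (hpow : ∃ k : ℕ, g ^ p ^ k = 1)
    (hfix : ∀ x, g ![x, 0] = ![x, 0]) : ∃ s, g = lin (tU s) := by
  obtain ⟨β, c, hlin, hgv⟩ : ∃ (β : F → F) (c : F), (c = 1 → ∀ y, β y = y * β 1) ∧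
      ∀ v : M, g v = ![v 0 + β (v 1), c * v 1] := by
    rcases linear_dichotomy (F := F) with h4 | hlin
    · obtain ⟨σ, β, c, -, hv, -, hβ⟩ := upper h4 hg hn (hfix 1)
      have hσ : ∀ x, σ x = x := fun x => by
        have h1 := congr_fun (hv ![x, 0]) 0
        rw [hfix] at h1
        have hb0 : β 0 = 0 := by
          have := congr_fun (hv 0) 0
          rw [hg.zero] at this
          simpa using this.symm
        simpa [hb0] using h1.symm
      exact ⟨β, c, hβ hσ, fun v => by rw [hv]; simp [hσ]⟩
    · refine ⟨fun y => y * g ![0, 1] 0, g ![0, 1] 1, fun _ y => by simp, fun v => ?_⟩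
      conv_lhs => rw [show v = ![v 0, 0] + (v 1) • ![0, 1] by ext i; fin_cases i <;> simp]
      rw [hg, hfix, hlin g hg]
      ext i; fin_cases i <;> simp <;> ring
  have hiter : ∀ (m : ℕ) (v : M), (g ^ m) v 1 = c ^ m * v 1 := by
    intro m
    induction m with
    | zero => simp
    | succ m ih => intro v; rw [pow_succ', Equiv.Perm.mul_apply, hgv]; simp [ih]; ring
  have hc1 : c = 1 := by
    obtain ⟨k, hk⟩ := hpow
    have h := hiter (p ^ k) ![0, 1]
    rw [hk] at h
    simp at h
    have h0 : (c - 1) ^ p ^ k = 0 := by rw [sub_pow_char_pow, one_pow, ← h, sub_self]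
    exact sub_eq_zero.mp (pow_eq_zero_iff (pow_ne_zero _ (Fact.out : p.Prime).ne_zero) |>.mp h0)
  refine ⟨β 1, Equiv.ext fun v => ?_⟩
  rw [hgv, tU_apply, hc1, hlin hc1 (v 1)]
  ext i; fin_cases i <;> simp; ring

end Cfsg.Agent.PLocal.Blocks.SL2
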