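import Cfsg.Agent.Lib.PLocal.Blocks.Data
import Cfsg.Agent.Lib.PLocal.GlaubermanReplacement

/-!
Elementary abelian subgroups of largest order acting on the module of a block.
-/

set_option linter.all false
set_option autoImplicit false

namespace Cfsg.Agent.PLocal.Blocks

open Subgroup Cfsg
open Cfsg.Agent.PLocal.ThompsonSubgroup
open scoped commutatorElement MatrixGroups
open Cfsg.Agent.PLocal.BlockModule (tU tL dg wl permAct)

variable {G : Type*} [Group G] [Finite G] {p : ℕ} [Fact p.Prime] {E : Subgroup G} {T : Sylow p G}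

local notation "WE" => omegaOneCenter p (pCoreOf p E)
local notation "ZE" => omegaOneCenter p (pCoreOf p E) ⊓ Subgroup.centralizer (E : Set G)
local notation "NE" => Subgroup.normalizer (E : Set G)
local notation "WC" => ⁅omegaOneCenter p (pCoreOf p E), E⁆

theorem thompson_le (T : Sylow p G) {K : Subgroup G}
    (h : ∀ A ∈ maxElementaryAbelianSubgroups p G, A ≤ (T : Subgroup G) → A ≤ K) :
    thompsonSubgroupOf p (T : Subgroup G) ≤ K := by
  obtain ⟨A, hA, hAT⟩ := BlockBasic.exists_max_le T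
  show (thompsonSubgroup p ↥(T : Subgroup G)).map _ ≤ _
  rw [thompsonSubgroup, (Subgroup.gc_map_comap _).l_sSup]
  exact iSup₂_le fun B hB => h _ (map_mem_maxElementaryAbelian hA hAT hB) (map_subtype_le _)

theorem thompson_le_normalizer (hE : IsBaumannBlock p (T : Subgroup G) E) :
    thompsonSubgroupOf p (T : Subgroup G) ≤ NE :=
  (BlockBasic.thompson_le_baumann _).trans (BlockBasic.baumann_le_normalizer hE)

theorem WC_elementary : IsElementaryAbelian p (WC : Subgroup G) :=
  isElementaryAbelian_iff.mpr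
    ⟨fun a ha b hb => BlockLocation.omegaCenter_comm _ (commutator_WE_le ha) (commutator_WE_le hb),
      fun a ha => BlockLocation.pow_eq_one_of_mem_omegaCenter _ (commutator_WE_le ha)⟩

/-- The replacement inequality for `[W,E]`. -/
theorem card_WC_le {A : Subgroup G} (hA : A ∈ maxElementaryAbelianSubgroups p G) :
    Nat.card (WC : Subgroup G) ≤ (centralizer ((WC : Subgroup G) : Set G)).relIndex A *
      Nat.card ↥((WC : Subgroup G) ⊓ centralizer (A : Set G)) := by
  set C := centralizer ((WC : Subgroup G) : Set G) with hC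
  have hel : IsElementaryAbelian p (A ⊓ C ⊔ (WC : Subgroup G)) :=
    IsElementaryAbelian.sup (IsElementaryAbelian.mono hA.1 inf_le_left) WC_elementary inf_le_right
  have hle := hA.2 _ hel
  have hcard := GlaubermanReplacement.card_sup_mul_card_inf
    (A := A ⊓ C) (B := (WC : Subgroup G)) (inf_le_right.trans (centralizer_le_normalizer _))
  have hidx : C.relIndex A * Nat.card ↥(A ⊓ C) = Nat.card A := by
    have := card_mul_index (C.subgroupOf A)
    rw [mul_comm] at this
    rw [← inf_subgroupOf_left, Nat.card_congr (subgroupOfEquivOfLe (inf_le_left : A ⊓ C ≤ A)).toEquiv,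
      inf_subgroupOf_left] at this
    exact this
  have hinf : Nat.card ↥(A ⊓ C ⊓ (WC : Subgroup G)) ≤
      Nat.card ↥((WC : Subgroup G) ⊓ centralizer (A : Set G)) := by
    refine card_le_of_le (le_inf inf_le_right (inf_le_left.trans (inf_le_left.trans ?_)))
    exact fun a ha b hb => (isElementaryAbelian_iff.mp hA.1).1 b hb a ha
  refine Nat.le_of_mul_le_mul_left ?_ (Nat.card_pos (α := ↥(A ⊓ C)))
  rw [← hcard]
  refine (Nat.mul_le_mul hle hinf).trans (le_of_eq ?_)
  rw [← hidx]; ring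

namespace Rep

variable {M : Type*} [AddCommGroup M] (ρ : Rep p E M)

/-- The permutations induced by a subgroup. -/
noncomputable def image (A : Subgroup G) : Subgroup (Equiv.Perm M) := (A.subgroupOf NE).map ρ.act

theorem mem_image {A : Subgroup G} (hA : A ≤ NE) {a : G} (ha : a ∈ A) :
    ρ.act ⟨a, hA ha⟩ ∈ ρ.image A := ⟨⟨a, hA ha⟩, ha, rfl⟩

theorem card_image (hE : IsBaumannBlock p (T : Subgroup G) E) {A : Subgroup G} (hA : A ≤ NE) :
    Nat.card (ρ.image A) = (centralizer ((WC : Subgroup G) : Set G)).relIndex A := by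
  let f : ↥A →* Equiv.Perm M := ρ.act.comp (Subgroup.inclusion hA)
  have hf : f.range = ρ.image A := by
    rw [image, MonoidHom.range_comp, Subgroup.inclusion_range]
  rw [← hf, ← Subgroup.index_ker, Subgroup.relIndex]
  congr 1
  ext a
  rw [MonoidHom.mem_ker, mem_subgroupOf]
  exact ρ.act_eq_one_iff hE _

theorem isPGroup_image {A : Subgroup G} (hA : IsPGroup p A) : IsPGroup p (ρ.image A) := by
  refine IsPGroup.map ?_ _
  intro a
  obtain ⟨k, hk⟩ := hA ⟨(a : ↥NE), a.2⟩
  exact ⟨k, Subtype.ext (Subtype.ext (by simpa using congrArg Subtype.val hk))⟩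

theorem image_elementary {A : Subgroup G} (hA : IsElementaryAbelian p A) :
    (∀ a ∈ ρ.image A, ∀ b ∈ ρ.image A, a * b = b * a) ∧ ∀ a ∈ ρ.image A, a ^ p = 1 := by
  rw [isElementaryAbelian_iff] at hA
  constructor
  · rintro _ ⟨a, ha, rfl⟩ _ ⟨b, hb, rfl⟩
    rw [← map_mul, ← map_mul, show a * b = b * a from Subtype.ext (hA.1 a ha b hb)]
  · rintro _ ⟨a, ha, rfl⟩
    rw [← map_pow, show a ^ p = 1 from Subtype.ext (by simpa using hA.2 a ha), map_one]

/-- The coordinates on `[W,E]`. -/
def onWC : ↥(WC : Subgroup G) →* Multiplicative M :=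
  ρ.toHom.comp (Subgroup.inclusion commutator_WE_le)

theorem onWC_apply (w : ↥(WC : Subgroup G)) :
    Multiplicative.toAdd (ρ.onWC w) = ρ.coord ⟨w, commutator_WE_le w.2⟩ := rfl

theorem onWC_surjective (hE : IsBaumannBlock p (T : Subgroup G) E) :
    Function.Surjective ρ.onWC := by
  intro v
  obtain ⟨⟨u, hu⟩, rfl⟩ := ρ.surj v
  have hu' := hu
  rw [← BlockModule.sup_ZE hE, ← SetLike.mem_coe, Subgroup.coe_mul_of_left_le_normalizer_right] at hu'
  rotate_left
  · intro a ha
    refine centralizer_le_normalizer _ fun z hz => ?_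
    exact BlockLocation.omegaCenter_comm _ hz.1 (commutator_WE_le ha)
  obtain ⟨a, ha, z, hz, rfl⟩ := hu'
  refine ⟨⟨a, ha⟩, ?_⟩
  show ρ.toHom ⟨a, commutator_WE_le ha⟩ = ρ.toHom ⟨a * z, hu⟩
  rw [show (⟨a * z, hu⟩ : ↥WE) = ⟨a, commutator_WE_le ha⟩ * ⟨z, hz.1⟩ from rfl, map_mul,
    (ρ.ker ⟨z, hz.1⟩).mpr hz, mul_one]

theorem card_preimage (hE : IsBaumannBlock p (T : Subgroup G) E) (L : AddSubgroup M) :
    Nat.card ↥((AddSubgroup.toSubgroup L).comap ρ.onWC) =
      Nat.card ρ.onWC.ker * Nat.card L := by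
  set K := (AddSubgroup.toSubgroup L).comap ρ.onWC
  have h1 := card_mul_index (ρ.onWC.domRestrict K).ker
  rw [Subgroup.index_ker, MonoidHom.domRestrict_range] at h1
  have h2 : (ρ.onWC.domRestrict K).ker = ρ.onWC.ker.subgroupOf K := by ext; rfl
  have h3 : ρ.onWC.ker ≤ K := fun x hx => by
    show ρ.onWC x ∈ AddSubgroup.toSubgroup L
    rw [(hx : ρ.onWC x = 1)]
    exact one_mem _
  rw [h2, Nat.card_congr (subgroupOfEquivOfLe h3).toEquiv,
    map_comap_eq_self_of_surjective (ρ.onWC_surjective hE)] at h1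
  exact h1.symm

theorem card_ker_mul_card (hE : IsBaumannBlock p (T : Subgroup G) E) :
    Nat.card ρ.onWC.ker * Nat.card M = Nat.card (WC : Subgroup G) := by
  have h := card_mul_index ρ.onWC.ker
  rw [Subgroup.index_ker, MonoidHom.range_eq_top.mpr (ρ.onWC_surjective hE), Subgroup.card_top,
    Nat.card_congr Multiplicative.toAdd] at h
  exact h

/-- Fixed vectors of the permutations induced by `A`. -/
noncomputable def fixedAdd (A : Subgroup G) : AddSubgroup M where
  carrier := {v | ∀ a ∈ ρ.image A, a v = v}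
  zero_mem' := by
    rintro _ ⟨a, -, rfl⟩
    have := ρ.act_add a 0 0
    rw [add_zero] at this
    exact add_eq_left.mp this.symm
  add_mem' := fun {v w} hv hw => by
    rintro _ ⟨a, ha, rfl⟩
    rw [ρ.act_add, hv _ ⟨a, ha, rfl⟩, hw _ ⟨a, ha, rfl⟩]
  neg_mem' := fun {v} hv => by
    rintro _ ⟨a, ha, rfl⟩
    have h0 := ρ.act_add a 0 0
    rw [add_zero] at h0
    have h := ρ.act_add a (-v) v
    rw [neg_add_cancel, add_eq_left.mp h0.symm, hv _ ⟨a, ha, rfl⟩] at h
    exact eq_neg_of_add_eq_zero_left h.symm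

theorem fixed_le {A : Subgroup G} (hA : A ≤ NE) :
    ((WC : Subgroup G) ⊓ centralizer (A : Set G)).subgroupOf (WC : Subgroup G) ≤
      (AddSubgroup.toSubgroup (ρ.fixedAdd A)).comap ρ.onWC := by
  intro w hw
  show Multiplicative.toAdd (ρ.onWC w) ∈ ρ.fixedAdd A
  rintro _ ⟨a, ha, rfl⟩
  rw [onWC_apply, act_coord]
  congr 1
  refine Subtype.ext ?_
  show (a : G) * w * (a : G)⁻¹ = w
  rw [mem_centralizer_iff.mp (mem_subgroupOf.mp hw).2 _ (show (a : G) ∈ A from ha), mul_inv_cancel_right]

/-- Maximal elementary abelian subgroups are offenders. -/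
theorem card_le_image_mul_fixed (hE : IsBaumannBlock p (T : Subgroup G) E) [Finite M]
    {A : Subgroup G} (hA : A ∈ maxElementaryAbelianSubgroups p G) (hAN : A ≤ NE) :
    Nat.card M ≤ Nat.card (ρ.image A) * Nat.card (ρ.fixedAdd A) := by
  refine Nat.le_of_mul_le_mul_left ?_ (Nat.card_pos (α := ρ.onWC.ker))
  rw [ρ.card_ker_mul_card hE, mul_left_comm, ρ.card_image hE hAN, ← ρ.card_preimage hE]
  refine (card_WC_le hA).trans (Nat.mul_le_mul_left _ ?_)
  rw [← Nat.card_congr (subgroupOfEquivOfLe (inf_le_left : _ ≤ (WC : Subgroup G))).toEquiv]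
  exact card_le_of_le (ρ.fixed_le hAN)

end Rep

end Cfsg.Agent.PLocal.Blocks
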