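import Cfsg.Agent.Lib.PLocal.Blocks.Isolation

/-!
Two blocks one of which normalizes the other.
-/

set_option linter.all false
set_option autoImplicit false

namespace Cfsg.Agent.PLocal.Blocks

open Subgroup Cfsg
open scoped commutatorElement MatrixGroups

variable {G : Type*} [Group G] [Finite G] {p : ℕ} [Fact p.Prime] {E : Subgroup G} {T : Sylow p G}

local notation "QE" => pCoreOf p E
local notation "WE" => omegaOneCenter p (pCoreOf p E)
local notation "ZE" => omegaOneCenter p (pCoreOf p E) ⊓ Subgroup.centralizer (E : Set G)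
local notation "NE" => Subgroup.normalizer (E : Set G)
local notation "WC" => ⁅omegaOneCenter p (pCoreOf p E), E⁆
local notation "UR" => omegaOneCenter p (pCore p G)

/-- The core of a block is in the core of the group or meets it in the module. -/
theorem core_le_or_inf_le (hG : centralizer (pCore p G : Set G) ≤ pCore p G)
    (hE : IsBaumannBlock p (T : Subgroup G) E) :
    QE ≤ pCore p G ∨ QE ⊓ pCore p G ≤ WE := by
  rcases core_eq_or_exc hE with h | ⟨F, iF, iFt, iC, hp, ⟨D⟩⟩
  · exact Or.inr (inf_le_left.trans h.le)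
  by_cases hle : QE ⊓ pCore p G ≤ WE
  · exact Or.inr hle
  left
  obtain ⟨u, hu, huW⟩ := SetLike.not_le_iff_exists.mp hle
  let A : AddSubgroup (Fin 2 → F) :=
    { carrier := {v | ∃ q, ∃ hq : q ∈ QE, q ∈ pCore p G ∧ D.modV.coord ⟨q, hq⟩ = v}
      zero_mem' := ⟨1, one_mem _, one_mem _, (D.modV.coord_eq_zero).mpr (one_mem _)⟩
      add_mem' := by
        rintro _ _ ⟨a, ha, ha', rfl⟩ ⟨b, hb, hb', rfl⟩
        exact ⟨a * b, mul_mem ha hb, mul_mem ha' hb', D.modV.coord_mul ⟨a, ha⟩ ⟨b, hb⟩⟩
      neg_mem' := by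
        rintro _ ⟨a, ha, ha', rfl⟩
        exact ⟨a⁻¹, inv_mem ha, inv_mem ha', D.modV.coord_inv ⟨a, ha⟩⟩ }
  have hA : A = ⊥ ∨ A = ⊤ := BlockModule.linear_irreducible (Fact.out : p.Prime) D.card_field A
    fun s hs v hv => by
      obtain ⟨e, rfl⟩ := D.repV_range.ge hs
      obtain ⟨q, hq, hq', rfl⟩ := hv
      obtain ⟨w, hw, h⟩ := D.repV_spec e ⟨q, hq⟩
      refine ⟨w, w.2, ?_, h⟩
      rw [hw]
      exact (inferInstance : (pCore p G).Normal).conj_mem _ hq' _
  rcases hA with hA | hA
  · refine absurd ((D.modV.coord_eq_zero (u := ⟨u, hu.1⟩)).mp ?_) huW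
    have : D.modV.coord ⟨u, hu.1⟩ ∈ A := ⟨u, hu.1, hu.2, rfl⟩
    rwa [hA, AddSubgroup.mem_bot] at this
  intro q hq
  have hW0 : (WC : Subgroup G) ≤ pCore p G :=
    ((BlockLocation.main hG hE).2.1).trans ((Omega.omegaOne_le _).trans inf_le_left)
  have hle' : ⁅QE, E⁆ ≤ pCore p G := by
    rw [commutator_le]
    intro x hx y hy
    obtain ⟨a, ha, ha', hxa⟩ : D.modV.coord ⟨x, hx⟩ ∈ A := hA ▸ AddSubgroup.mem_top _
    have hw : a⁻¹ * x ∈ WE := by
      have := (D.modV.coord_eq_zero (u := ⟨a, ha⟩⁻¹ * ⟨x, hx⟩)).mp (by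
        rw [Sect.coord_mul, Sect.coord_inv, hxa, neg_add_cancel])
      simpa using this
    rw [show ⁅x, y⁆ = ⁅a * (a⁻¹ * x), y⁆ by simp, commutatorElement_mul_left_eq_conj_mul]
    exact mul_mem ((inferInstance : (pCore p G).Normal).conj_mem _
      (hW0 (commutator_mem_commutator hw hy)) _)
      (le_normalizer_iff_commutator_le_left.mp
        (fun z _ => by rw [normalizer_eq_top]; exact mem_top z : E ≤ normalizer (pCore p G : Set G))
        (commutator_mem_commutator ha' hy))
  rw [hE.2.2.1] at hle'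
  exact hle' hq

/-- The block moves `Ω₁Z(O_p(G))` into `[W,E]`. -/
theorem commutator_omega_le (hG : centralizer (pCore p G : Set G) ≤ pCore p G)
    (hE : IsBaumannBlock p (T : Subgroup G) E) : ⁅UR, E⁆ ≤ (WC : Subgroup G) := by
  have hUR : UR ≤ pCore p G := (Omega.omegaOne_le _).trans inf_le_left
  have hUn : ∀ X : Subgroup G, X ≤ normalizer (UR : Set G) := fun X x _ =>
    BlockModule.le_normalizer_omegaCenter _ (by rw [normalizer_eq_top]; exact mem_top x)
  have h1 : ⁅UR, E⁆ ≤ UR := le_normalizer_iff_commutator_le_left.mp (hUn E)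
  have h2 : ⁅UR, E⁆ ≤ QE := (commutator_mono hUR le_rfl).trans ((core_facts hG hE).2.1.trans inf_le_left)
  have h3 : ⁅UR, E⁆ ≤ WE := by
    intro x hx
    rcases core_le_or_inf_le hG hE with hQ | hQ
    · refine Omega.mem_omegaOne ⟨h2 hx, ?_⟩ (BlockLocation.pow_eq_one_of_mem_omegaCenter _ (h1 hx))
      exact centralizer_le hQ (Omega.omegaOne_le _ (h1 hx)).2
    · exact hQ ⟨h2 hx, hUR (h1 hx)⟩
  exact commutator_le_of_commutator_commutator_le (BlockBasic.resOf_eq hE)
    ((CharP.isPGroup_pCore p G).to_le hUR) (hUn E) (normalizer_commutator_ge_right _ _)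
    (commutator_mono h3 le_rfl)

theorem WC_le_omega (hG : centralizer (pCore p G : Set G) ≤ pCore p G)
    (hE : IsBaumannBlock p (T : Subgroup G) E) : (WC : Subgroup G) ≤ UR :=
  (BlockLocation.main hG hE).2.1

/-- A `p'`-element centralizing `[W,E]` centralizes the core of the block. -/
theorem mem_centralizer_QE (hG : centralizer (pCore p G : Set G) ≤ pCore p G)
    (hE : IsBaumannBlock p (T : Subgroup G) E) {x : G}
    (hx : x ∈ centralizer ((WC : Subgroup G) : Set G)) (hcop : (orderOf x).Coprime p) :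
    x ∈ centralizer (QE : Set G) := by
  rcases core_eq_or_exc hE with h | ⟨F, iF, iFt, iC, hp, ⟨D⟩⟩
  · have h' : ⁅QE, E⁆ = (WC : Subgroup G) := congrArg (fun X : Subgroup G => ⁅X, E⁆) h
    rw [← hE.2.2.1, h']
    exact hx
  · have hxN := centralizer_le_normalizer hG hE hx
    exact D.mem_centralizer_core hE (NE_le_NQ hxN) hx (D.actV_eq_one hG hE (NE_le_NQ hxN) hx hxN) hcop

theorem le_centralizer_QE (hG : centralizer (pCore p G : Set G) ≤ pCore p G)
    (hE : IsBaumannBlock p (T : Subgroup G) E) {X : Subgroup G} (hX : CharP.resOf p X = X)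
    (hle : X ≤ centralizer ((WC : Subgroup G) : Set G)) : X ≤ centralizer (QE : Set G) :=
  le_of_coprime_mem hX fun x hx hcop => mem_centralizer_QE hG hE (hle hx) hcop

variable {F : Subgroup G} {T' : Sylow p G}

/-- A block normalizing another one and centralizing its module commutes with it. -/
theorem commute_of_centralizes (hG : centralizer (pCore p G : Set G) ≤ pCore p G)
    (hE : IsBaumannBlock p (T : Subgroup G) E) (hF : IsBaumannBlock p (T' : Subgroup G) F)
    (hQR : QE ≤ pCore p G) (hFN : F ≤ NE) (hFW : F ≤ centralizer ((WC : Subgroup G) : Set G)) :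
    ⁅E, F⁆ = ⊥ := by
  have hEF : ⁅E, F⁆ ≤ QE := commutator_le.mpr fun e he f hf => commutator_mem_core hE (hFN hf) (hFW hf) he
  -- `E` centralizes the module of `F`
  have hEW : E ≤ centralizer ((⁅omegaOneCenter p (pCoreOf p F), F⁆ : Subgroup G) : Set G) := by
    have h3 : ⁅⁅UR, F⁆, E⁆ = ⊥ := by
      refine commutator_commutator_eq_bot_of_rotate ?_ ?_
      · refine eq_bot_iff.mpr ((commutator_mono (K₁ := QE) (by rw [Subgroup.commutator_comm]; exact hEF) le_rfl).trans ?_)
        refine le_bot_iff.mpr (commutator_eq_bot_iff_le_centralizer.mpr ?_)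
        exact le_centralizer_iff.mp (((Omega.omegaOne_le _).trans inf_le_right).trans (centralizer_le hQR))
      · refine eq_bot_iff.mpr ((commutator_mono (K₁ := (WC : Subgroup G)) ?_ le_rfl).trans ?_)
        · rw [Subgroup.commutator_comm]; exact commutator_omega_le hG hE
        · exact le_bot_iff.mpr (commutator_eq_bot_iff_le_centralizer.mpr (le_centralizer_iff.mp hFW))
    have h4 : ⁅omegaOneCenter p (pCoreOf p F), F⁆ ≤ ⁅UR, F⁆ := by
      refine le_trans ?_ (commutator_mono (WC_le_omega hG hF) le_rfl)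
      refine commutator_le_of_commutator_commutator_le (BlockBasic.resOf_eq hF)
        ((CharP.isPGroup_pCoreOf p F).to_le (BlockModule.omegaCenter_le _))
        BlockModule.le_normalizer_WE (normalizer_commutator_ge_right _ _) le_rfl
    exact le_centralizer_iff.mp ((h4.trans (commutator_eq_bot_iff_le_centralizer.mp h3)))
  have hEN : E ≤ normalizer (F : Set G) := hEW.trans (centralizer_le_normalizer hG hF)
  have hEF' : ⁅E, F⁆ ≤ pCoreOf p F := by
    rw [Subgroup.commutator_comm]
    exact commutator_le.mpr fun f hf e he => commutator_mem_core hF (hEN he) (hEW he) hf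
  have hFQ := le_centralizer_QE hG hE (BlockBasic.resOf_eq hF) hFW
  have hEQ := le_centralizer_QE hG hF (BlockBasic.resOf_eq hE) hEW
  refine commutator_eq_bot_iff_le_centralizer.mpr (le_of_coprime_mem (BlockBasic.resOf_eq hE) fun e he hcop => ?_)
  intro f hf
  have hc : ⁅e, f⁆ ∈ ⁅E, F⁆ := commutator_mem_commutator he hf
  have hce : Commute e ⁅e, f⁆ := (mem_centralizer_iff.mp (hEQ he) _ (hEF' hc)).symm
  have hpow : ∀ m : ℕ, ⁅e ^ m, f⁆ = ⁅e, f⁆ ^ m := by
    intro m
    induction m with
    | zero => simp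
    | succ m ih =>
      rw [pow_succ' e, commutatorElement_mul_left_eq_conj_mul, ih, (hce.pow_right m).eq, mul_inv_cancel_right,
        pow_succ]
  have h1 : ⁅e, f⁆ = 1 := by
    refine CharP.eq_one_of_mem_pgroup (CharP.isPGroup_pCoreOf p E) (hEF hc) ?_
    refine Nat.Coprime.coprime_dvd_left (orderOf_dvd_of_pow_eq_one ?_) hcop
    rw [← hpow, pow_orderOf_eq_one, commutatorElement_one_left]
  exact (commutatorElement_eq_one_iff_mul_comm.mp h1).symm

/-- A block normalizing another without centralizing its module has its module inside. -/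
theorem WC_le_of_normalizes (hG : centralizer (pCore p G : Set G) ≤ pCore p G)
    (hE : IsBaumannBlock p (T : Subgroup G) E) (hF : IsBaumannBlock p (T' : Subgroup G) F)
    (hFN : F ≤ NE) (hne : ¬ F ≤ centralizer ((WC : Subgroup G) : Set G)) :
    ⁅omegaOneCenter p (pCoreOf p F), F⁆ ≤ (WC : Subgroup G) := by
  have hFn : F ≤ normalizer ((WC : Subgroup G) : Set G) := by
    refine hFN.trans fun x hx => ?_
    rw [mem_normalizer_iff_map_conj_eq, Subgroup.map_commutator,
      mem_normalizer_iff_map_conj_eq.mp ((BlockLocation.le_normalizer_ZE (le_refl _)).1 hx),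
      mem_normalizer_iff_map_conj_eq.mp hx]
  set X := ⁅(WC : Subgroup G), F⁆ with hX
  have hXE : X ≤ (WC : Subgroup G) := le_normalizer_iff_commutator_le_left.mp hFn
  have hXF : X ≤ omegaOneCenter p (pCoreOf p F) :=
    ((commutator_mono (WC_le_omega hG hE) le_rfl).trans (commutator_omega_le hG hF)).trans commutator_WE_le
  have hFX : F ≤ normalizer (X : Set G) := normalizer_commutator_ge_right _ _
  have hZn : F ≤ normalizer ((omegaOneCenter p (pCoreOf p F) ⊓ centralizer (F : Set G) : Subgroup G) : Set G) :=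
    (BlockLocation.le_normalizer_ZE Subgroup.le_normalizer).2
  rcases (BlockModule.block_module hF).1 (X ⊔ (omegaOneCenter p (pCoreOf p F) ⊓ centralizer (F : Set G)))
    le_sup_right (sup_le hXF inf_le_left) ((le_inf hFX hZn).trans WeakClosureSplit.inf_normalizer_le_sup)
    with h | h
  · exfalso
    refine hne (le_centralizer_iff.mp (commutator_eq_bot_iff_le_centralizer.mp
      (commutator_eq_bot_of_twice (BlockBasic.resOf_eq hF)
        ((CharP.isPGroup_pCoreOf p E).to_le (commutator_WE_le.trans (BlockModule.omegaCenter_le _)))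
        hFn ?_)))
    exact commutator_eq_bot_iff_le_centralizer.mpr ((le_sup_left.trans h.le).trans inf_le_right)
  · intro y hy
    have hle' : ⁅omegaOneCenter p (pCoreOf p F), F⁆ ≤ (WC : Subgroup G) := by
      rw [← h, commutator_le]
      intro a ha f hf
      rw [← SetLike.mem_coe, Subgroup.coe_mul_of_left_le_normalizer_right] at ha
      rotate_left
      · intro x hx
        refine Subgroup.centralizer_le_normalizer _ fun z hz => ?_
        exact BlockLocation.omegaCenter_comm _ hz.1 (hXF hx)
      obtain ⟨x, hx, z, hz, rfl⟩ := ha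
      show ⁅x * z, f⁆ ∈ _
      rw [commutatorElement_mul_left_eq_conj_mul,
        commutatorElement_eq_one_iff_mul_comm.mpr (mem_centralizer_iff.mp hz.2 f hf).symm,
        mul_one, mul_inv_cancel, one_mul]
      exact le_normalizer_iff_commutator_le_left.mp hFn (commutator_mem_commutator (hXE hx) hf)
    exact hle' hy

/-- A block normalizing another and inducing only inner automorphisms on its module is inside it. -/
theorem le_of_induced_le (hG : centralizer (pCore p G : Set G) ≤ pCore p G)
    (hE : IsBaumannBlock p (T : Subgroup G) E) (hF : IsBaumannBlock p (T' : Subgroup G) F)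
    (hFN : F ≤ NE) (hle : F ≤ E ⊔ centralizer ((WC : Subgroup G) : Set G))
    (hne : ¬ F ≤ centralizer ((WC : Subgroup G) : Set G)) : F ≤ E := by
  set C := centralizer ((WC : Subgroup G) : Set G) with hC
  have hWW := WC_le_of_normalizes hG hE hF hFN hne
  set D := (E ⊔ F) ⊓ C with hD
  have hDp : IsPGroup p D := by
    refine CharP.isPGroup_of_forall_coprime fun d hd hcop => ?_
    have hdF : d ∈ centralizer ((⁅omegaOneCenter p (pCoreOf p F), F⁆ : Subgroup G) : Set G) :=
      centralizer_le hWW hd.2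
    have hdS : d ∈ centralizer ((pCoreOf p F ⊔ QE : Subgroup G) : Set G) := by
      have h : pCoreOf p F ⊔ QE ≤ centralizer ({d} : Set G) := sup_le
        (fun x hx => mem_centralizer_singleton_iff.mpr (mem_centralizer_iff.mp (mem_centralizer_QE hG hF hdF hcop) x hx))
        (fun x hx => mem_centralizer_singleton_iff.mpr (mem_centralizer_iff.mp (mem_centralizer_QE hG hE hd.2 hcop) x hx))
      exact fun x hx => mem_centralizer_singleton_iff.mp (h hx)
    refine eq_one_of_stab (CharP.isPGroup_pCore p G) hG hcop (by rw [normalizer_eq_top]; exact mem_top d) hdS ?_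
    intro r hr
    have hd1 : d ∈ ((F ⊔ E : Subgroup G) : Set G) := (sup_comm E F).le hd.1
    rw [Subgroup.coe_mul_of_left_le_normalizer_right _ _ hFN] at hd1
    obtain ⟨f, hf, e, he, rfl⟩ := hd1
    show ⁅r, f * e⁆ ∈ _
    rw [show ⁅r, f * e⁆ = ⁅r, f⁆ * (f * ⁅r, e⁆ * f⁻¹) by simp [commutatorElement_def, mul_assoc]]
    refine mul_mem (mem_sup_left ((core_facts hG hF).2.1 (commutator_mem_commutator hr hf)).1) (mem_sup_right ?_)
    exact (mem_normalizer_iff.mp (NE_le_NQ (hFN hf)) _).mp
      ((core_facts hG hE).2.1 (commutator_mem_commutator hr he)).1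
  have hDN : D ≤ NE := inf_le_right.trans (centralizer_le_normalizer hG hE)
  refine le_of_le_sup (BlockBasic.resOf_eq hF) hDp hDN fun f hf => ?_
  have h1 : f ∈ ((C ⊔ E : Subgroup G) : Set G) := (sup_comm E C).le (hle hf)
  rw [Subgroup.coe_mul_of_left_le_normalizer_right _ _ (centralizer_le_normalizer hG hE)] at h1
  obtain ⟨c, hc, e, he, rfl⟩ := h1
  refine mul_mem (mem_sup_right ⟨?_, hc⟩) (mem_sup_left he)
  have := mul_mem (mem_sup_right (S := E) hf) (inv_mem (mem_sup_left (T := F) he))
  simpa using this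

end Cfsg.Agent.PLocal.Blocks
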