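import Cfsg.Agent.Lib.PLocal.BlockLocation
import Cfsg.Agent.Lib.PLocal.Blocks.Stab

/-!
The action of the normalizer of a block on the module of the block.
-/

set_option linter.all false
set_option autoImplicit false

namespace Cfsg.Agent.PLocal.Blocks

open Subgroup Cfsg
open scoped commutatorElement

variable {G : Type*} [Group G]

/-- A coordinatisation of the module of a block. -/
structure Rep (p : ℕ) (E : Subgroup G) (M : Type*) [AddCommGroup M] where
  toHom : ↥(omegaOneCenter p (pCoreOf p E)) →* Multiplicative M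
  surj : Function.Surjective toHom
  ker : ∀ u, toHom u = 1 ↔
    (u : G) ∈ omegaOneCenter p (pCoreOf p E) ⊓ Subgroup.centralizer (E : Set G)

variable [Finite G] {p : ℕ} [Fact p.Prime] {E : Subgroup G} {T : Sylow p G}
variable {M : Type*} [AddCommGroup M]

local notation "WE" => omegaOneCenter p (pCoreOf p E)
local notation "ZE" => omegaOneCenter p (pCoreOf p E) ⊓ Subgroup.centralizer (E : Set G)
local notation "NE" => Subgroup.normalizer (E : Set G)
local notation "WC" => ⁅omegaOneCenter p (pCoreOf p E), E⁆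

theorem conj_mem_WE {x w : G} (hx : x ∈ NE) (hw : w ∈ WE) : x * w * x⁻¹ ∈ WE :=
  (mem_normalizer_iff.mp ((BlockLocation.le_normalizer_ZE le_rfl).1 hx) w).mp hw

theorem conj_mem_ZE {x w : G} (hx : x ∈ NE) (hw : w ∈ ZE) : x * w * x⁻¹ ∈ ZE :=
  (mem_normalizer_iff.mp ((BlockLocation.le_normalizer_ZE le_rfl).2 hx) w).mp hw

namespace Rep

variable (ρ : Rep p E M)

/-- The coordinates of an element of the module. -/
def coord (u : ↥WE) : M := Multiplicative.toAdd (ρ.toHom u)

theorem coord_mul (u v : ↥WE) : ρ.coord (u * v) = ρ.coord u + ρ.coord v := by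
  simp [coord]

theorem coord_surjective : Function.Surjective ρ.coord := fun v => by
  obtain ⟨u, hu⟩ := ρ.surj (Multiplicative.ofAdd v)
  exact ⟨u, by simp [coord, hu]⟩

theorem coord_eq_iff {u v : ↥WE} : ρ.coord u = ρ.coord v ↔ (u : G) * (v : G)⁻¹ ∈ ZE := by
  rw [← Subgroup.coe_inv, ← Subgroup.coe_mul, ← ρ.ker, map_mul, map_inv, mul_inv_eq_one]
  exact Multiplicative.toAdd.injective.eq_iff

theorem coord_eq_zero {u : ↥WE} : ρ.coord u = 0 ↔ (u : G) ∈ ZE :=
  Iff.trans ⟨fun h => Multiplicative.toAdd.injective h, fun h => congrArg Multiplicative.toAdd h⟩ (ρ.ker u)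

/-- Conjugation in coordinates. -/
noncomputable def mapAt (x : ↥NE) (v : M) : M :=
  ρ.coord ⟨(x : G) * (Function.surjInv ρ.coord_surjective v : ↥WE) * (x : G)⁻¹,
    conj_mem_WE x.2 (Function.surjInv ρ.coord_surjective v).2⟩

theorem mapAt_coord (x : ↥NE) (u : ↥WE) :
    ρ.mapAt x (ρ.coord u) = ρ.coord ⟨(x : G) * u * (x : G)⁻¹, conj_mem_WE x.2 u.2⟩ := by
  rw [mapAt, coord_eq_iff]
  have h := conj_mem_ZE x.2 (ρ.coord_eq_iff.mp (Function.surjInv_eq ρ.coord_surjective (ρ.coord u)))
  convert h using 1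
  simp [mul_assoc]

theorem mapAt_mapAt (x y : ↥NE) (v : M) : ρ.mapAt x (ρ.mapAt y v) = ρ.mapAt (x * y) v := by
  obtain ⟨u, rfl⟩ := ρ.coord_surjective v
  rw [mapAt_coord, mapAt_coord, mapAt_coord]
  congr 1
  exact Subtype.ext (by simp [mul_assoc])

theorem mapAt_one (v : M) : ρ.mapAt 1 v = v := by
  obtain ⟨u, rfl⟩ := ρ.coord_surjective v
  rw [mapAt_coord]
  congr 1
  exact Subtype.ext (by simp)

/-- The action of the normalizer. -/
noncomputable def act : ↥NE →* Equiv.Perm M where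
  toFun x :=
    { toFun := ρ.mapAt x
      invFun := ρ.mapAt x⁻¹
      left_inv := fun v => by rw [mapAt_mapAt, inv_mul_cancel, mapAt_one]
      right_inv := fun v => by rw [mapAt_mapAt, mul_inv_cancel, mapAt_one] }
  map_one' := Equiv.ext ρ.mapAt_one
  map_mul' x y := Equiv.ext fun v => (ρ.mapAt_mapAt x y v).symm

theorem act_coord (x : ↥NE) (u : ↥WE) :
    ρ.act x (ρ.coord u) = ρ.coord ⟨(x : G) * u * (x : G)⁻¹, conj_mem_WE x.2 u.2⟩ :=
  ρ.mapAt_coord x u

theorem act_add (x : ↥NE) (v w : M) : ρ.act x (v + w) = ρ.act x v + ρ.act x w := by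
  obtain ⟨u, rfl⟩ := ρ.coord_surjective v
  obtain ⟨u', rfl⟩ := ρ.coord_surjective w
  rw [← coord_mul, act_coord, act_coord, act_coord, ← coord_mul]
  congr 1
  exact Subtype.ext (by simp [mul_assoc])

/-- The action of the block itself. -/
noncomputable def onBlock : ↥E →* Equiv.Perm M := ρ.act.comp (Subgroup.inclusion Subgroup.le_normalizer)

theorem act_mem_normalizer (x : ↥NE) :
    ρ.act x ∈ normalizer (ρ.onBlock.range : Set (Equiv.Perm M)) := by
  have h : ρ.onBlock.range = (E.subgroupOf NE).map ρ.act := by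
    rw [onBlock, MonoidHom.range_comp, Subgroup.inclusion_range]
  rw [h]
  refine le_normalizer_map ρ.act ⟨x, ?_, rfl⟩
  rw [normalizer_eq_top_iff.mpr normal_in_normalizer]
  exact mem_top x

theorem act_eq_one_iff_trivial (x : ↥NE) :
    ρ.act x = 1 ↔ ∀ w ∈ WE, (x : G) * w * (x : G)⁻¹ * w⁻¹ ∈ ZE := by
  constructor
  · intro h w hw
    have h' := Equiv.congr_fun h (ρ.coord ⟨w, hw⟩)
    rw [act_coord, Equiv.Perm.one_apply, coord_eq_iff] at h'
    exact h'
  · intro h
    refine Equiv.ext fun v => ?_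
    obtain ⟨u, rfl⟩ := ρ.coord_surjective v
    rw [act_coord, Equiv.Perm.one_apply, coord_eq_iff]
    exact h u u.2

end Rep

theorem core_le_centralizer (hle : (⁅WE, E⁆ : Subgroup G) ≤ WE) :
    pCoreOf p E ≤ centralizer ((WC : Subgroup G) : Set G) :=
  (le_centralizer_iff.mp (BlockModule.omegaCenter_le_centralizer _)).trans (centralizer_le hle)

theorem commutator_WE_le : (⁅WE, E⁆ : Subgroup G) ≤ WE :=
  le_normalizer_iff_commutator_le_left.mp BlockModule.le_normalizer_WE

/-- An element normalizing a block and trivial on its module centralizes `[W,E]`. -/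
theorem mem_centralizer_of_trivial (hE : IsBaumannBlock p (T : Subgroup G) E) {x : G} (hx : x ∈ NE)
    (h : ∀ w ∈ WE, x * w * x⁻¹ * w⁻¹ ∈ ZE) : x ∈ centralizer ((WC : Subgroup G) : Set G) := by
  suffices h3 : ⁅⁅WE, E⁆, zpowers x⁆ = ⊥ from
    (le_centralizer_iff.mp (commutator_eq_bot_iff_le_centralizer.mp h3)) (mem_zpowers x)
  let S : Subgroup G :=
    { carrier := {y | y ∈ NE ∧ ∀ w ∈ WE, y * w * y⁻¹ * w⁻¹ ∈ ZE}
      one_mem' := ⟨one_mem _, fun w _ => by simpa using one_mem ZE⟩
      mul_mem' := by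
        rintro a b ⟨ha, ha'⟩ ⟨hb, hb'⟩
        refine ⟨mul_mem ha hb, fun w hw => ?_⟩
        rw [show a * b * w * (a * b)⁻¹ * w⁻¹ =
          (a * (b * w * b⁻¹) * a⁻¹ * (b * w * b⁻¹)⁻¹) * (b * w * b⁻¹ * w⁻¹) by simp [mul_assoc]]
        exact mul_mem (ha' _ (conj_mem_WE hb hw)) (hb' w hw)
      inv_mem' := by
        rintro a ⟨ha, ha'⟩
        refine ⟨inv_mem ha, fun w hw => ?_⟩
        have h1 := inv_mem (ha' _ (conj_mem_WE (inv_mem ha) hw))
        convert h1 using 1
        simp [mul_assoc] }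
  have hS : zpowers x ≤ S := zpowers_le.mpr ⟨hx, h⟩
  refine commutator_commutator_eq_bot_of_rotate ?_ ?_
  · -- `[E, x]` acts trivially on the module, so lies in the core
    refine eq_bot_iff.mpr ((commutator_mono (K₁ := pCoreOf p E) ?_ le_rfl).trans ?_)
    · rw [commutator_le]
      intro e he y hy
      have hyS := hS hy
      have hye : y * e⁻¹ * y⁻¹ ∈ E := (mem_normalizer_iff.mp hyS.1 _).mp (inv_mem he)
      have hmem : ⁅e, y⁆ ∈ E := by
        rw [commutatorElement_def, mul_assoc (e * y), mul_assoc e, ← mul_assoc y]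
        exact mul_mem he hye
      refine (BlockModule.block_module hE).2 _ hmem fun w hw => ?_
      have hy' : ∀ v ∈ WE, y⁻¹ * v * y * v⁻¹ ∈ ZE := fun v hv => by
        simpa using (hS (inv_mem hy)).2 v hv
      have hw1 : y⁻¹ * w * y ∈ WE := by simpa using conj_mem_WE (inv_mem hyS.1) hw
      have hee : ∀ v ∈ WE, e * v * e⁻¹ ∈ WE := fun v hv =>
        conj_mem_WE (Subgroup.le_normalizer he) hv
      have hw2 : e⁻¹ * (y⁻¹ * w * y) * e ∈ WE := by
        simpa using conj_mem_WE (inv_mem (Subgroup.le_normalizer he)) hw1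
      have h1 := hyS.2 _ hw2
      have h1' := conj_mem_ZE (Subgroup.le_normalizer he) h1
      have h2 := hy' w hw
      rw [show ⁅e, y⁆ * w * ⁅e, y⁆⁻¹ * w⁻¹ =
        (e * (y * (e⁻¹ * (y⁻¹ * w * y) * e) * y⁻¹ * (e⁻¹ * (y⁻¹ * w * y) * e)⁻¹) * e⁻¹) *
          (y⁻¹ * w * y * w⁻¹) by simp [commutatorElement_def, mul_assoc]]
      exact mul_mem h1' h2
    · exact le_bot_iff.mpr (commutator_eq_bot_iff_le_centralizer.mpr
        (le_centralizer_iff.mp (BlockModule.omegaCenter_le_centralizer _)))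
  · refine eq_bot_iff.mpr ((commutator_mono (K₁ := ZE) ?_ le_rfl).trans ?_)
    · rw [commutator_le]
      intro y hy w hw
      exact (hS hy).2 w hw
    · exact le_bot_iff.mpr (commutator_eq_bot_iff_le_centralizer.mpr inf_le_right)

theorem trivial_of_mem_centralizer (hE : IsBaumannBlock p (T : Subgroup G) E) {x : G} (hx : x ∈ NE)
    (h : x ∈ centralizer ((WC : Subgroup G) : Set G)) : ∀ w ∈ WE, x * w * x⁻¹ * w⁻¹ ∈ ZE := by
  intro w hw
  rw [← BlockModule.sup_ZE hE] at hw
  rw [← SetLike.mem_coe, Subgroup.coe_mul_of_left_le_normalizer_right] at hw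
  rotate_left
  · intro u hu
    rw [mem_normalizer_iff]
    intro v
    have hc : ∀ z ∈ (ZE : Subgroup G), u * z * u⁻¹ = z := fun z hz => by
      rw [BlockLocation.omegaCenter_comm _ (commutator_WE_le hu) hz.1, mul_inv_cancel_right]
    refine ⟨fun hv => by rw [hc v hv]; exact hv, fun hv => ?_⟩
    have h2 := hc _ hv
    have h3 : u * v * u⁻¹ = v := mul_left_cancel (mul_right_cancel h2)
    rwa [h3] at hv
  obtain ⟨a, ha, z, hz, rfl⟩ := hw
  show x * (a * z) * x⁻¹ * (a * z)⁻¹ ∈ ZE
  rw [show x * (a * z) * x⁻¹ * (a * z)⁻¹ = (x * a * x⁻¹) * ((x * z * x⁻¹) * z⁻¹) * a⁻¹ by simp [mul_assoc],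
    show x * a * x⁻¹ = a by rw [← mem_centralizer_iff.mp h a ha, mul_inv_cancel_right]]
  have hm : x * z * x⁻¹ * z⁻¹ ∈ ZE := mul_mem (conj_mem_ZE hx hz) (inv_mem hz)
  rw [BlockLocation.omegaCenter_comm _ (commutator_WE_le ha) hm.1, mul_inv_cancel_right]
  exact hm

namespace Rep

variable (ρ : Rep p E M)

theorem act_eq_one_iff (hE : IsBaumannBlock p (T : Subgroup G) E) (x : ↥NE) :
    ρ.act x = 1 ↔ (x : G) ∈ centralizer ((WC : Subgroup G) : Set G) := by
  rw [act_eq_one_iff_trivial]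
  exact ⟨mem_centralizer_of_trivial hE x.2, trivial_of_mem_centralizer hE x.2⟩

end Rep

/-- The core of a block is its kernel on `[W,E]`. -/
theorem inf_centralizer_eq_core (hE : IsBaumannBlock p (T : Subgroup G) E) :
    E ⊓ centralizer ((WC : Subgroup G) : Set G) = pCoreOf p E :=
  le_antisymm
    (fun e he => (BlockModule.block_module hE).2 e he.1
      (trivial_of_mem_centralizer hE (Subgroup.le_normalizer he.1) he.2))
    (le_inf (CharP.pCoreOf_le p E) (core_le_centralizer commutator_WE_le))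

/-- A `p`-group normalizing and normalized by a block centralizes `[W,E]`. -/
theorem le_centralizer_of_pgroup (hE : IsBaumannBlock p (T : Subgroup G) E) {R : Subgroup G}
    (hR : IsPGroup p R) (hRE : R ≤ NE) (hER : E ≤ normalizer (R : Set G)) :
    R ≤ centralizer ((WC : Subgroup G) : Set G) :=
  fun r hr => mem_centralizer_of_trivial hE (hRE hr) fun w hw =>
    BlockLocation.comm_mem_ZE hE hR hRE hER w hw r hr

/-- An element centralizing `[W,E]` acts on the block modulo its core. -/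
theorem commutator_mem_core (hE : IsBaumannBlock p (T : Subgroup G) E) {x e : G} (hx : x ∈ NE)
    (hc : x ∈ centralizer ((WC : Subgroup G) : Set G)) (he : e ∈ E) : ⁅e, x⁆ ∈ pCoreOf p E := by
  rw [← inf_centralizer_eq_core hE, mem_inf]
  refine ⟨?_, ?_⟩
  · rw [commutatorElement_def, mul_assoc (e * x), mul_assoc e, ← mul_assoc x]
    exact mul_mem he ((mem_normalizer_iff.mp hx _).mp (inv_mem he))
  · have hC : e ∈ normalizer ((centralizer ((WC : Subgroup G) : Set G) : Subgroup G) : Set G) :=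
      ((normalizer_commutator_ge_right _ _).trans (CharP.normalizer_le_normalizer_centralizer _)) he
    rw [commutatorElement_def]
    exact mul_mem ((mem_normalizer_iff.mp hC _).mp hc) (inv_mem hc)

end Cfsg.Agent.PLocal.Blocks
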