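import Cfsg.Agent.Lib.PLocal.BlockModule
import Cfsg.Agent.Lib.CharP.SL2Natural
import Mathlib.GroupTheory.PGroup
import Mathlib.FieldTheory.Fixed
import Mathlib.FieldTheory.Finite.Basic

/-!
Additive permutations of the natural module of `SL₂` normalizing its derived group.
-/

set_option linter.all false
set_option autoImplicit false

namespace Cfsg.Agent.PLocal.Blocks.SL2

open Subgroup
open scoped MatrixGroups commutatorElement
open Cfsg.Agent.PLocal.BlockModule (tU tL dg wl)

variable {F : Type*} [Field F]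

local notation "M" => (Fin 2 → F)

/-- The action of `SL₂` on the natural module. -/
def lin : SL(2, F) →* Equiv.Perm (Fin 2 → F) where
  toFun g :=
    { toFun := g.1.mulVec
      invFun := (g⁻¹).1.mulVec
      left_inv := fun v => by
        rw [Matrix.mulVec_mulVec, ← Matrix.SpecialLinearGroup.coe_mul, inv_mul_cancel]; simp
      right_inv := fun v => by
        rw [Matrix.mulVec_mulVec, ← Matrix.SpecialLinearGroup.coe_mul, mul_inv_cancel]; simp }
  map_one' := Equiv.ext fun v => by simp
  map_mul' g h := Equiv.ext fun v => (Matrix.mulVec_mulVec v g.1 h.1).symm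

theorem lin_apply (g : SL(2, F)) (v : M) : lin g v = g.1.mulVec v := rfl

theorem lin_injective : Function.Injective (lin : SL(2, F) → _) := fun g h e => by
  have h1 : ∀ v : M, g.1.mulVec v = h.1.mulVec v := fun v => Equiv.congr_fun e v
  refine mul_inv_eq_one.mp (BlockModule.linear_faithful (g * h⁻¹) fun v => ?_)
  rw [Matrix.SpecialLinearGroup.coe_mul, ← Matrix.mulVec_mulVec, h1,
    Matrix.mulVec_mulVec, ← Matrix.SpecialLinearGroup.coe_mul, mul_inv_cancel]
  simp

/-- The image of the derived group. -/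
def img (F : Type*) [Field F] : Subgroup (Equiv.Perm (Fin 2 → F)) := (commutator SL(2, F)).map lin

theorem lin_mem_normalizer (g : SL(2, F)) : lin g ∈ normalizer (img F : Set _) := by
  have h : (commutator SL(2, F)).Normal := inferInstance
  refine le_normalizer_map lin ⟨g, ?_, rfl⟩
  rw [normalizer_eq_top]; exact mem_top g

/-- An additive permutation. -/
def IsAdd (g : Equiv.Perm (Fin 2 → F)) : Prop := ∀ v w, g (v + w) = g v + g w

theorem IsAdd.zero {g : Equiv.Perm M} (h : IsAdd g) : g 0 = 0 := by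
  have := h 0 0; simpa using this

theorem IsAdd.inv {g : Equiv.Perm M} (h : IsAdd g) : IsAdd g⁻¹ := fun v w => g.injective (by
  rw [h]; simp [Equiv.Perm.inv_def])

theorem IsAdd.mul {g h : Equiv.Perm M} (hg : IsAdd g) (hh : IsAdd h) : IsAdd (g * h) :=
  fun v w => by simp [Equiv.Perm.mul_apply, hh v w, hg _ _]

theorem isAdd_one : IsAdd (1 : Equiv.Perm M) := fun v w => rfl

theorem isAdd_lin (g : SL(2, F)) : IsAdd (lin g) := fun v w => Matrix.mulVec_add _ v w

theorem IsAdd.nsmul {g : Equiv.Perm M} (h : IsAdd g) (k : ℕ) (v : M) : g (k • v) = k • g v :=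
  map_nsmul (AddMonoidHom.mk' g h) k v

theorem tU_apply (s : F) (v : M) : lin (tU s) v = ![v 0 + s * v 1, v 1] := by
  rw [lin_apply]; ext i
  fin_cases i <;> simp [tU, Matrix.mulVec, dotProduct, Fin.sum_univ_two]

theorem tL_apply (s : F) (v : M) : lin (tL s) v = ![v 0, s * v 0 + v 1] := by
  rw [lin_apply]; ext i
  fin_cases i <;> simp [tL, Matrix.mulVec, dotProduct, Fin.sum_univ_two]

theorem wl_apply (v : M) : lin (wl : SL(2, F)) v = ![v 1, -v 0] := by
  rw [lin_apply]; ext i
  fin_cases i <;> simp [wl, Matrix.mulVec, dotProduct, Fin.sum_univ_two]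

theorem vec_eq (v : M) : v = ![v 0, v 1] := by ext i; fin_cases i <;> rfl

theorem split (v : M) : v = ![v 0, 0] + ![0, v 1] := by ext i; fin_cases i <;> simp

/-! ### The derived group -/

theorem tU_add (a b : F) : tU a * tU b = tU (a + b) := by
  refine lin_injective (Equiv.ext fun v => ?_)
  rw [map_mul, Equiv.Perm.mul_apply, tU_apply, tU_apply, tU_apply]
  ext i; fin_cases i <;> simp; ring

theorem tU_zero : tU (0 : F) = 1 := by
  refine lin_injective (Equiv.ext fun v => ?_)
  rw [tU_apply]; simp [← vec_eq]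

theorem tU_pow (a : F) (k : ℕ) : tU a ^ k = tU ((k : F) * a) := by
  induction k with
  | zero => simp [tU_zero]
  | succ k ih => rw [pow_succ, ih, tU_add]; congr 1; push_cast; ring

theorem wl_eq : (wl : SL(2, F)) = tU 1 * tL (-1) * tU 1 := by
  refine lin_injective (Equiv.ext fun v => ?_)
  rw [map_mul, map_mul, Equiv.Perm.mul_apply, Equiv.Perm.mul_apply, wl_apply, tU_apply, tL_apply,
    tU_apply]
  ext i; fin_cases i <;> simp <;> ring

theorem tL_eq : tL (-1 : F) = wl * tU 1 * wl⁻¹ := by
  rw [eq_mul_inv_iff_mul_eq]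
  refine lin_injective (Equiv.ext fun v => ?_)
  rw [map_mul, map_mul, Equiv.Perm.mul_apply, Equiv.Perm.mul_apply, wl_apply, tL_apply, tU_apply,
    wl_apply]
  ext i; fin_cases i <;> simp <;> ring

/-- Every element is congruent to an upper unitriangular one modulo the derived group. -/
theorem exists_tU_mod (g : SL(2, F)) : ∃ a : F, g * (tU a)⁻¹ ∈ commutator SL(2, F) := by
  have key : ∀ g : SL(2, F), ∃ a : F, (QuotientGroup.mk' (commutator SL(2, F))) g =
      (QuotientGroup.mk' (commutator SL(2, F))) (tU a) := by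
    intro g
    refine CharP.SL2Natural.induction_gen (p := fun g => ∃ a : F, (QuotientGroup.mk' (commutator SL(2, F))) g =
      (QuotientGroup.mk' (commutator SL(2, F))) (tU a)) ?_ ?_ ⟨0, by rw [tU_zero]⟩ ?_ g
    · intro a; exact ⟨a, rfl⟩
    · refine ⟨1 + 1 + 1, ?_⟩
      show (QuotientGroup.mk' (commutator SL(2, F))) wl = _
      have hcomm : ∀ x y : SL(2, F) ⧸ commutator SL(2, F), x * y = y * x :=
        fun x y => (Abelianization.commGroup SL(2, F)).mul_comm x y
      have h1 : (QuotientGroup.mk' (commutator SL(2, F))) wl =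
          (QuotientGroup.mk' (commutator SL(2, F))) (tU (1 + 1 + 1)) := by
        conv_lhs => rw [wl_eq, tL_eq]
        simp only [map_mul, map_inv]
        rw [hcomm ((QuotientGroup.mk' (commutator SL(2, F))) wl), mul_assoc _ _
          ((QuotientGroup.mk' (commutator SL(2, F))) wl)⁻¹, mul_inv_cancel, mul_one, ← map_mul, ← map_mul,
          tU_add, tU_add]
      exact h1
    · rintro g h ⟨a, ha⟩ ⟨b, hb⟩
      exact ⟨a + b, by rw [map_mul, ha, hb, ← map_mul, tU_add]⟩
  obtain ⟨a, ha⟩ := key g
  exact ⟨a, (QuotientGroup.eq_one_iff _).mp (by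
    show (QuotientGroup.mk' (commutator SL(2, F))) _ = 1
    rw [map_mul, map_inv, ha, mul_inv_cancel])⟩

theorem pow_p_mem_commutator {p : ℕ} [CharP F p] (g : SL(2, F)) : g ^ p ∈ commutator SL(2, F) := by
  obtain ⟨a, ha⟩ := exists_tU_mod g
  have h : ((g : SL(2, F) ⧸ commutator SL(2, F))) = ((tU a : SL(2, F)) : SL(2, F) ⧸ commutator SL(2, F)) := by
    rw [QuotientGroup.eq_iff_div_mem, div_eq_mul_inv]; exact ha
  rw [← QuotientGroup.eq_one_iff, QuotientGroup.mk_pow, h, ← QuotientGroup.mk_pow, tU_pow,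
    CharP.cast_eq_zero, zero_mul, tU_zero]
  rfl

theorem mem_commutator_of_coprime [Finite F] {p : ℕ} [CharP F p] {g : SL(2, F)}
    (h : (orderOf g).Coprime p) : g ∈ commutator SL(2, F) := by
  obtain ⟨k, hk⟩ := exists_pow_eq_self_of_coprime (n := p) (x := g) h.symm
  rw [← hk]
  exact pow_mem (pow_p_mem_commutator g) k

theorem commutator_eq_top (h4 : ∃ a : F, a ≠ 0 ∧ a * a ≠ 1) : commutator SL(2, F) = ⊤ := by
  obtain ⟨a, ha, ha1⟩ := h4
  have hu : ∀ s : F, tU s ∈ commutator SL(2, F) := fun s => by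
    have h := BlockModule.mem_commutator (dg a ha) (tU (s / (a * a - 1)))
    rwa [BlockModule.comm_dg_tU, mul_div_cancel₀ _ (sub_ne_zero.mpr ha1)] at h
  refine eq_top_iff.mpr fun g _ => ?_
  obtain ⟨b, hb⟩ := exists_tU_mod g
  simpa using mul_mem hb (hu b)

theorem exists_sq_ne_one [Fintype F] (h : 4 ≤ Fintype.card F) : ∃ a : F, a ≠ 0 ∧ a * a ≠ 1 := by
  classical
  by_contra hh
  push Not at hh
  have hsub : (Finset.univ : Finset F) ⊆ {0, 1, -1} := fun a _ => by
    simp only [Finset.mem_insert, Finset.mem_singleton]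
    by_cases h0 : a = 0
    · exact Or.inl h0
    rcases mul_self_eq_one_iff.mp (hh a h0) with h1 | h1
    · exact Or.inr (Or.inl h1)
    · exact Or.inr (Or.inr h1)
  have := (Finset.card_le_card hsub).trans Finset.card_le_three
  rw [Finset.card_univ] at this
  omega

theorem lin_tU_mem [Fintype F] (h : 4 ≤ Fintype.card F) (s : F) : lin (tU s) ∈ img F :=
  ⟨_, (commutator_eq_top (exists_sq_ne_one h)).symm ▸ mem_top _, rfl⟩

end Cfsg.Agent.PLocal.Blocks.SL2
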