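import Cfsg.Agent.Lib.PLocal.Blocks.Transport
import Cfsg.Agent.Lib.PLocal.Blocks.Facts

/-!
The module of a block splits off the centralizer of the block, except for perfect linear blocks
in characteristic two.
-/

set_option linter.all false
set_option autoImplicit false

namespace Cfsg.Agent.PLocal.Blocks

open Subgroup Cfsg
open scoped commutatorElement MatrixGroups IsMulCommutative
open Cfsg.Agent.PLocal.BlockModule (tU tL dg wl permAct)

variable {G : Type*} [Group G] [Finite G] {p : ℕ} [Fact p.Prime] {E : Subgroup G} {T : Sylow p G}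

local notation "QE" => pCoreOf p E
local notation "WE" => omegaOneCenter p (pCoreOf p E)
local notation "ZE" => omegaOneCenter p (pCoreOf p E) ⊓ Subgroup.centralizer (E : Set G)
local notation "NE" => Subgroup.normalizer (E : Set G)
local notation "WC" => ⁅omegaOneCenter p (pCoreOf p E), E⁆

/-- The norm argument, for a group acting through a quotient of order prime to `p`. -/
theorem inf_centralizer_inf_commutator {V N : Subgroup G} (hVp : IsPGroup p V)
    (hc : ∀ a ∈ V, ∀ b ∈ V, a * b = b * a) (hN : N ≤ normalizer (V : Set G))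
    (hcop : ((centralizer (V : Set G)).relIndex N).Coprime p) :
    (V ⊓ centralizer (N : Set G)) ⊓ ⁅V, N⁆ = ⊥ := by
  classical
  haveI : IsMulCommutative V := ⟨⟨fun a b => Subtype.ext (hc a a.2 b b.2)⟩⟩
  let ρ : ↥N →* MulAut ↥V := V.normalizerMonoidHom.comp (Subgroup.inclusion hN)
  haveI : Finite ρ.range := Finite.of_surjective _ ρ.rangeRestrict_surjective
  haveI : Fintype ρ.range := Fintype.ofFinite _
  have hcard : Nat.card ρ.range = (centralizer (V : Set G)).relIndex N := by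
    rw [← Subgroup.index_ker, Subgroup.relIndex]
    congr 1
    rw [← MonoidHom.comap_ker, normalizerMonoidHom_ker]
    ext x; rfl
  let θ : V →* V :=
    { toFun := fun v => ∏ a : ρ.range, (a : MulAut ↥V) v
      map_one' := Finset.prod_eq_one fun a _ => map_one _
      map_mul' := fun v w => by simp_rw [map_mul]; exact Finset.prod_mul_distrib }
  have hinv : ∀ (b : ↥N) (v : V), θ (ρ b v) = θ v := fun b v =>
    Fintype.prod_equiv (Equiv.mulRight (⟨ρ b, b, rfl⟩ : ρ.range)) _ _ fun a => rfl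
  rw [eq_bot_iff]
  rintro x ⟨⟨hxV, hxC⟩, hxA⟩
  have h1 : (⟨x, hxV⟩ : V) ^ Nat.card ρ.range = 1 := by
    have hθ : θ ⟨x, hxV⟩ = (⟨x, hxV⟩ : V) ^ Nat.card ρ.range := by
      change ∏ a : ρ.range, (a : MulAut ↥V) ⟨x, hxV⟩ = _
      have hfx : ∀ a : ρ.range, (a : MulAut ↥V) ⟨x, hxV⟩ = ⟨x, hxV⟩ := by
        rintro ⟨_, b, rfl⟩
        refine Subtype.ext ?_
        show (b : G) * x * (b : G)⁻¹ = x
        rw [mem_centralizer_iff.mp hxC b b.2, mul_inv_cancel_right]
      rw [Finset.prod_congr rfl fun a _ => hfx a, Finset.prod_const, Finset.card_univ,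
        Nat.card_eq_fintype_card]
    rw [← hθ, ← MonoidHom.mem_ker]
    have hle : ⁅V, N⁆ ≤ θ.ker.map V.subtype := by
      rw [commutator_le]
      intro v hv a ha
      refine ⟨⟨v, hv⟩ * (ρ ⟨a, ha⟩ ⟨v, hv⟩)⁻¹, ?_, ?_⟩
      · rw [SetLike.mem_coe, MonoidHom.mem_ker, map_mul, map_inv, hinv, mul_inv_cancel]
      · show v * (a * v * a⁻¹)⁻¹ = ⁅v, a⁆
        simp [commutatorElement_def, mul_assoc]
    obtain ⟨y, hy, rfl⟩ := hle hxA
    exact hy
  rw [mem_bot]
  refine CharP.eq_one_of_mem_pgroup hVp hxV (Nat.Coprime.coprime_dvd_left ?_ (hcard ▸ hcop))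
  refine orderOf_dvd_of_pow_eq_one ?_
  simpa using congrArg Subtype.val h1

/-- Coprime action splits the module. -/
theorem inf_eq_bot_of_coprime (hE : IsBaumannBlock p (T : Subgroup G) E)
    (h : ((centralizer ((WC : Subgroup G) : Set G)).relIndex E).Coprime p) :
    (WC : Subgroup G) ⊓ centralizer (E : Set G) = ⊥ := by
  have hQ : E ⊓ centralizer ((WC : Subgroup G) : Set G) ≤ centralizer (WE : Set G) := by
    rw [inf_centralizer_eq_core hE]
    exact le_centralizer_iff.mp (BlockModule.omegaCenter_le_centralizer _)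
  have hdvd : (centralizer (WE : Set G)).relIndex E ∣ (centralizer ((WC : Subgroup G) : Set G)).relIndex E := by
    rw [← inf_relIndex_right (centralizer ((WC : Subgroup G) : Set G)) E, inf_comm]
    exact relIndex_dvd_of_le_left E hQ
  refine eq_bot_iff.mpr fun x hx => ?_
  rw [← inf_centralizer_inf_commutator (V := WE) (N := E)
    ((CharP.isPGroup_pCoreOf p E).to_le (BlockModule.omegaCenter_le _))
    (fun a ha b hb => BlockLocation.omegaCenter_comm _ ha hb) BlockModule.le_normalizer_WE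
    (h.coprime_dvd_left hdvd)]
  exact ⟨⟨commutator_WE_le hx.1, hx.2⟩, hx.1⟩

theorem perm_four : ∀ (g : Equiv.Perm (Fin 4)) (i : Fin 4),
    Equiv.Perm.sign g = 1 → g i = i → g ^ 3 = 1 := by decide

namespace Rep

theorem pow_three_of_two {F : Type} [Field F] [Fintype F] (h2 : Fintype.card F = 2)
    {σ : Equiv.Perm (Fin 2 → F)} (hσ : σ ∈ SL2.img F) : σ ^ 3 = 1 := by
  classical
  obtain ⟨s, hs, rfl⟩ := hσ
  have hcard : Fintype.card (Fin 2 → F) = 4 := by rw [Fintype.card_fun, h2, Fintype.card_fin]; rfl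
  let e : (Fin 2 → F) ≃ Fin 4 := Fintype.equivFinOfCardEq hcard
  have hsign : Equiv.Perm.sign (SL2.lin s) = 1 :=
    Abelianization.commutator_subset_ker (Equiv.Perm.sign.comp (SL2.lin : SL(2, F) →* _)) hs
  have h : (e.permCongrHom (SL2.lin s)) ^ 3 = 1 := by
    refine perm_four _ (e 0) ?_ ?_
    · rw [← hsign]; exact Equiv.Perm.sign_permCongr e _
    · show e (SL2.lin s (e.symm (e 0))) = e 0
      rw [Equiv.symm_apply_apply, (SL2.isAdd_lin s).zero]
  rw [← map_pow] at h
  exact e.permCongrHom.injective (h.trans (map_one _).symm)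

theorem relIndex_centralizer {M : Type*} [AddCommGroup M] (ρ : Rep p E M)
    (hE : IsBaumannBlock p (T : Subgroup G) E) :
    (centralizer ((WC : Subgroup G) : Set G)).relIndex E = Nat.card ρ.onBlock.range := by
  rw [← ρ.card_image hE Subgroup.le_normalizer]
  congr 1
  rw [Rep.image, Rep.onBlock, MonoidHom.range_comp, Subgroup.inclusion_range]

theorem inf_eq_bot_of_two {F : Type} [Field F] [Fintype F] (ρ : Rep 2 E (Fin 2 → F))
    {T : Sylow 2 G} (hE : IsBaumannBlock 2 (T : Subgroup G) E) (hρ : ρ.onBlock.range = SL2.img F)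
    (h2 : Fintype.card F = 2) :
    (⁅omegaOneCenter 2 (pCoreOf 2 E), E⁆ : Subgroup G) ⊓ centralizer (E : Set G) = ⊥ := by
  haveI : Fact (Nat.Prime 3) := ⟨Nat.prime_three⟩
  refine inf_eq_bot_of_coprime hE ?_
  rw [ρ.relIndex_centralizer hE]
  have h3 : IsPGroup 3 ρ.onBlock.range := fun x => ⟨1, Subtype.ext (by
    rw [Subgroup.coe_pow, pow_one]; exact pow_three_of_two h2 (hρ ▸ x.2))⟩
  obtain ⟨k, hk⟩ := IsPGroup.iff_card.mp h3
  rw [hk]
  exact Nat.Coprime.pow_left _ (by decide)

end Rep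

/-- An abelian group of exponent two is a module over two elements. -/
theorem pow_val_add {A : Type*} [Monoid A] {a : A} (ha : a ^ 2 = 1) (x y : ZMod 2) :
    a ^ (x + y).val = a ^ x.val * a ^ y.val := by
  rw [← pow_add, ZMod.val_add]
  conv_rhs => rw [← Nat.mod_add_div (x.val + y.val) 2, pow_add, pow_mul, ha, one_pow, mul_one]

/-- The module of an alternating block splits. -/
theorem inf_eq_bot_of_alt {n : ℕ} (ρ : Rep p E (AltModule.EvenMod n)) (hp : p = 2)
    (hE : IsBaumannBlock p (T : Subgroup G) E) (hn : 3 ≤ n) (hodd : Odd n)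
    (hρ : ρ.onBlock.range = AltModule.img n) :
    (WC : Subgroup G) ⊓ centralizer (E : Set G) = ⊥ := by
  classical
  haveI : IsMulCommutative (WE : Subgroup G) :=
    ⟨⟨fun a b => Subtype.ext (BlockLocation.omegaCenter_comm _ a.2 b.2)⟩⟩
  have hexp : ∀ u : ↥WE, u ^ 2 = 1 := fun u => Subtype.ext (by
    rw [Subgroup.coe_pow, ← hp]; exact BlockLocation.pow_eq_one_of_mem_omegaCenter _ u.2)
  let conjW : ↥E → ↥WE → ↥WE := fun e u =>
    ⟨(e : G) * u * (e : G)⁻¹, conj_mem_WE (Subgroup.le_normalizer e.2) u.2⟩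
  have conjW_mul : ∀ (a b : ↥E) (u : ↥WE), conjW (a * b) u = conjW a (conjW b u) := fun a b u =>
    Subtype.ext (by simp [conjW, mul_assoc])
  have conjW_hom : ∀ (a : ↥E) (u v : ↥WE), conjW a (u * v) = conjW a u * conjW a v := fun a u v =>
    Subtype.ext (by simp [conjW, mul_assoc])
  -- the permutation induced by an element of the block
  let act₀ := (AltModule.act : Equiv.Perm (Fin n) →* Equiv.Perm (AltModule.EvenMod n))
  have hr : ∀ e : ↥E, ρ.onBlock e ∈ act₀.range := fun e => by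
    obtain ⟨σ, -, hσ⟩ : ρ.onBlock e ∈ AltModule.img n := hρ ▸ ⟨e, rfl⟩
    exact ⟨σ, hσ⟩
  let π : ↥E →* Equiv.Perm (Fin n) :=
    (MonoidHom.ofInjective (AltModule.act_injective hn)).symm.toMonoidHom.comp
      (ρ.onBlock.codRestrict act₀.range hr)
  have hπ : ∀ e, AltModule.act (π e) = ρ.onBlock e := fun e =>
    congrArg Subtype.val ((MonoidHom.ofInjective (AltModule.act_injective hn)).apply_symm_apply
      ⟨ρ.onBlock e, hr e⟩)
  have hπr : π.range = alternatingGroup (Fin n) := by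
    refine map_injective (AltModule.act_injective hn) ?_
    rw [← MonoidHom.range_comp, show AltModule.act.comp π = ρ.onBlock from MonoidHom.ext hπ]
    exact hρ
  have hcoord : ∀ e u, ρ.coord (conjW e u) = AltModule.act (π e) (ρ.coord u) := fun e u => by
    rw [hπ, Rep.onBlock_apply, Rep.act_coord]
  have hker : ∀ e, π e = 1 → ∀ u, conjW e u = u := fun e he u => by
    have h1 : (e : G) ∈ QE := by
      rw [← inf_centralizer_eq_core hE]
      refine ⟨e.2, (ρ.act_eq_one_iff hE ⟨e, Subgroup.le_normalizer e.2⟩).mp ?_⟩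
      rw [← Rep.onBlock_apply, ← hπ, he, map_one]
    refine Subtype.ext ?_
    show (e : G) * u * (e : G)⁻¹ = u
    rw [mem_centralizer_iff.mp (BlockModule.omegaCenter_le_centralizer (p := p) _ u.2) _ h1, mul_inv_cancel_right]
  -- a fixed lift of the complement of a point
  let f : Fin n → AltModule.EvenMod n := fun a => ⟨fun i => if i = a then 0 else 1, by
    show ∑ i, (if i = a then (0 : ZMod 2) else 1) = 0
    rw [Finset.sum_ite, Finset.sum_const_zero, zero_add, Finset.sum_const, nsmul_one,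
      Finset.filter_ne', Finset.card_erase_of_mem (Finset.mem_univ a), Finset.card_univ, Fintype.card_fin,
      (ZMod.natCast_eq_zero_iff_even).mpr (Nat.Odd.sub_odd hodd odd_one)]⟩
  have hf : ∀ σ a, AltModule.act σ (f a) = f (σ a) := fun σ a =>
    Subtype.ext (funext fun i => by
      show (if σ⁻¹ i = a then (0 : ZMod 2) else 1) = if i = σ a then 0 else 1
      simp [Equiv.Perm.inv_def, Equiv.symm_apply_eq])
  let a₀ : Fin n := ⟨0, by omega⟩
  obtain ⟨u₀, hu₀⟩ := ρ.coord_surjective (f a₀)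
  let H := alternatingGroup (Fin n) ⊓ MulAction.stabilizer (Equiv.Perm (Fin n)) a₀
  let H' : Subgroup ↥E := H.comap π
  let π' : ↥H' →* ↥H := π.subgroupComap H
  have hπ' : Function.Surjective π' := by
    rintro ⟨σ, hσ⟩
    obtain ⟨e, rfl⟩ : σ ∈ π.range := hπr ▸ hσ.1
    exact ⟨⟨e, hσ⟩, rfl⟩
  have hd : ∀ e : ↥H', ((conjW e u₀ * u₀⁻¹ : ↥WE) : G) ∈ ZE := fun e => by
    refine ρ.coord_eq_iff.mp ?_
    rw [hcoord, hu₀, hf]
    exact congrArg f e.2.2
  let c : ↥H' →* ↥WE :=
    { toFun := fun e => conjW e u₀ * u₀⁻¹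
      map_one' := Subtype.ext (by simp [conjW])
      map_mul' := fun a b => by
        have h : conjW a (conjW b u₀ * u₀⁻¹) = conjW b u₀ * u₀⁻¹ := Subtype.ext (by
          show (a : G) * _ * (a : G)⁻¹ = _
          rw [mem_centralizer_iff.mp (hd b).2 _ (a : ↥E).2, mul_inv_cancel_right])
        show conjW ((a : ↥E) * b) u₀ * u₀⁻¹ = _
        calc conjW ((a : ↥E) * b) u₀ * u₀⁻¹ = conjW a ((conjW b u₀ * u₀⁻¹) * u₀) * u₀⁻¹ := by
              rw [inv_mul_cancel_right, conjW_mul]
          _ = (conjW b u₀ * u₀⁻¹) * (conjW a u₀ * u₀⁻¹) := by rw [conjW_hom, h, mul_assoc]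
          _ = _ := mul_comm _ _ }
  have hck : π'.ker ≤ c.ker := fun e he => by
    show conjW e u₀ * u₀⁻¹ = 1
    rw [hker e (congrArg Subtype.val he), mul_inv_cancel]
  have hfix : ∀ e : ↥E, π e a₀ = a₀ → conjW e u₀ = u₀ := fun e he => by
    have hmem : e ∈ H' := ⟨hπr ▸ ⟨e, rfl⟩, he⟩
    obtain ⟨χ, hχ⟩ : ∃ χ : ↥H →* ↥WE, χ.comp π' = c :=
      ⟨π'.liftOfSurjective hπ' ⟨c, hck⟩, MonoidHom.liftOfRightInverse_comp _ _ _ _⟩
    have h : c ⟨e, hmem⟩ = 1 := by
      rw [← hχ, AltModule.hom_stabilizer_eq_one hexp a₀ χ]; rfl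
    exact mul_inv_eq_one.mp h
  have htrans : ∀ a, ∃ e : ↥E, π e a₀ = a := fun a => by
    obtain ⟨e, he⟩ : ∃ σ ∈ alternatingGroup (Fin n), σ a₀ = a := by
      by_cases h : a₀ = a
      · exact ⟨1, one_mem _, h⟩
      · obtain ⟨b, hb⟩ : ∃ b, b ∉ ({a₀, a} : Finset (Fin n)) := by
          by_contra hh
          push Not at hh
          have h1 := Finset.card_le_card (fun x (_ : x ∈ Finset.univ) => hh x)
          rw [Finset.card_univ, Fintype.card_fin] at h1
          have := Finset.card_le_two (a := a₀) (b := a)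
          omega
        simp only [Finset.mem_insert, Finset.mem_singleton, not_or] at hb
        refine ⟨Equiv.swap a b * Equiv.swap a₀ b, ?_, ?_⟩
        · rw [Equiv.Perm.mem_alternatingGroup, map_mul, Equiv.Perm.sign_swap (Ne.symm hb.2),
            Equiv.Perm.sign_swap (Ne.symm hb.1)]; rfl
        · rw [Equiv.Perm.mul_apply, Equiv.swap_apply_left, Equiv.swap_apply_right]
    obtain ⟨g, rfl⟩ : e ∈ π.range := hπr ▸ he.1
    exact ⟨g, he.2⟩
  choose g hg using htrans
  let u : Fin n → ↥WE := fun a => conjW (g a) u₀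
  have hequi : ∀ e a, conjW e (u a) = u (π e a) := fun e a => by
    show conjW e (conjW (g a) u₀) = conjW (g (π e a)) u₀
    have h := hfix ((g (π e a))⁻¹ * (e * g a)) (by
      rw [map_mul, map_mul, map_inv, Equiv.Perm.mul_apply, Equiv.Perm.mul_apply, hg,
        Equiv.Perm.inv_eq_iff_eq, hg])
    rw [← conjW_mul]
    conv_lhs => rw [← mul_inv_cancel_left (g (π e a)) (e * g a), conjW_mul, h]
  have hu : ∀ a, ρ.coord (u a) = f a := fun a => by rw [hcoord, hu₀, hf, hg]
  let s : Multiplicative (AltModule.EvenMod n) →* ↥WE :=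
    { toFun := fun v => ∏ a, u a ^ ((Multiplicative.toAdd v : AltModule.EvenMod n).1 a).val
      map_one' := Finset.prod_eq_one fun a _ => by simp
      map_mul' := fun v w => by
        rw [← Finset.prod_mul_distrib]
        exact Finset.prod_congr rfl fun a _ => pow_val_add (hexp _) _ _ }
  have hs : ∀ v, ρ.toHom (s v) = v := by
    intro v
    show ρ.toHom (∏ a, u a ^ ((Multiplicative.toAdd v : AltModule.EvenMod n).1 a).val) = v
    rw [map_prod]
    refine Multiplicative.toAdd.injective ?_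
    rw [toAdd_prod]
    refine Subtype.ext (funext fun i => ?_)
    rw [show ((∑ a, Multiplicative.toAdd (ρ.toHom (u a ^ ((Multiplicative.toAdd v : AltModule.EvenMod n).1 a).val)) : AltModule.EvenMod n) : Fin n → ZMod 2) = _ from map_sum (AltModule.EvenMod n).subtype _ _, Finset.sum_apply]
    set w : Fin n → ZMod 2 := (Multiplicative.toAdd v : AltModule.EvenMod n).1
    have h0 : ∑ a, w a = 0 := (Multiplicative.toAdd v : AltModule.EvenMod n).2
    have hterm : ∀ a, ((Multiplicative.toAdd (ρ.toHom (u a ^ (w a).val)) : AltModule.EvenMod n) :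
        Fin n → ZMod 2) i = if i = a then 0 else w a := fun a => by
      rw [map_pow, toAdd_pow]
      show (((w a).val • ρ.coord (u a) : AltModule.EvenMod n) : Fin n → ZMod 2) i = _
      rw [hu, AddSubmonoidClass.coe_nsmul, Pi.smul_apply]
      show (w a).val • (if i = a then (0 : ZMod 2) else 1) = _
      split_ifs
      · rw [smul_zero]
      · rw [nsmul_one, ZMod.natCast_zmod_val]
    refine (Finset.sum_congr rfl fun a _ => hterm a).trans ?_
    have h1 : ∑ a, (if i = a then 0 else w a) + w i = ∑ a, w a := by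
      rw [show w i = ∑ a, if i = a then w a else 0 by rw [Finset.sum_ite_eq, if_pos (Finset.mem_univ i)],
        ← Finset.sum_add_distrib]
      exact Finset.sum_congr rfl fun a _ => by split_ifs <;> simp
    rw [h0] at h1
    rw [eq_neg_of_add_eq_zero_left h1]
    exact ZMod.neg_eq_self_mod_two _
  have hse : ∀ e v, ∃ w, conjW e (s v) = s w := fun e v => by
    let v' : AltModule.EvenMod n := AltModule.act (π e) (Multiplicative.toAdd v)
    refine ⟨Multiplicative.ofAdd v', ?_⟩
    let c : ↥WE →* ↥WE :=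
      { toFun := conjW e, map_one' := Subtype.ext (by simp [conjW]), map_mul' := conjW_hom e }
    show c (∏ a, u a ^ ((Multiplicative.toAdd v : AltModule.EvenMod n).1 a).val) =
      ∏ a, u a ^ (v'.1 a).val
    rw [map_prod]
    refine Fintype.prod_equiv (π e) _ _ fun a => ?_
    rw [map_pow]
    show conjW e (u a) ^ _ = u (π e a) ^ (permAct (π e) (Multiplicative.toAdd v : AltModule.EvenMod n).1 (π e a)).val
    rw [hequi, permAct]
    simp
  have hle : (WC : Subgroup G) ≤ s.range.map (Subgroup.subtype _) := by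
    rw [commutator_le]
    intro w hw e he
    set v := ρ.toHom ⟨w, hw⟩
    obtain ⟨v', hv'⟩ := hse ⟨e, he⟩ v
    have hz : ((⟨w, hw⟩ * (s v)⁻¹ : ↥WE) : G) ∈ ZE := by
      rw [← ρ.ker, map_mul, map_inv, hs, mul_inv_cancel]
    have hfixz : conjW ⟨e, he⟩ (⟨w, hw⟩ * (s v)⁻¹) = ⟨w, hw⟩ * (s v)⁻¹ := Subtype.ext (by
      show e * _ * e⁻¹ = _
      rw [mem_centralizer_iff.mp hz.2 e he, mul_inv_cancel_right])
    have hw' : conjW ⟨e, he⟩ ⟨w, hw⟩ = ⟨w, hw⟩ * (s v)⁻¹ * s v' := by
      conv_lhs => rw [← inv_mul_cancel_right (⟨w, hw⟩ : ↥WE) (s v), conjW_hom, hfixz, hv']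
    refine ⟨s v * (s v')⁻¹, mul_mem ⟨v, rfl⟩ (inv_mem ⟨v', rfl⟩), ?_⟩
    rw [show s v * (s v')⁻¹ = ⟨w, hw⟩ * (conjW ⟨e, he⟩ ⟨w, hw⟩)⁻¹ by
      rw [hw', mul_inv_rev, mul_inv_rev, inv_inv, mul_comm (⟨w, hw⟩ : ↥WE), mul_assoc, mul_assoc,
        inv_mul_cancel, mul_one, mul_comm]]
    simp [conjW, commutatorElement_def, mul_assoc]
  refine eq_bot_iff.mpr fun x hx => ?_
  obtain ⟨_, ⟨v, rfl⟩, rfl⟩ := hle hx.1
  have h1 : v = 1 := by
    rw [← hs v, ρ.ker]; exact ⟨(s v).2, hx.2⟩
  simp [h1]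

/-- Linear blocks over at least four elements are perfect. -/
theorem commutator_eq_of_linear (hE : IsBaumannBlock p (T : Subgroup G) E) {F : Type} [Field F] [Fintype F]
    (ρ : Rep p E (Fin 2 → F)) (hρ : ρ.onBlock.range = SL2.img F) (h4 : 4 ≤ Fintype.card F) :
    ⁅E, E⁆ = E := by
  have hEE : ⁅E, E⁆ ≤ E := le_normalizer_iff_commutator_le_left.mp Subgroup.le_normalizer
  refine le_antisymm hEE fun e he => ?_
  obtain ⟨c, hc, hce⟩ : ρ.onBlock ⟨e, he⟩ ∈ (commutator ↥E).map ρ.onBlock := by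
    have hperf := commutator_eq_top_of_img h4
    rw [commutator_def, Subgroup.map_commutator, ← MonoidHom.range_eq_map, hρ, SL2.img,
      ← Subgroup.map_commutator, hperf, ← SL2.img, ← hρ]
    exact ⟨⟨e, he⟩, rfl⟩
  have hc' : (c : G) ∈ ⁅E, E⁆ := by
    rw [← map_subtype_commutator E]
    exact mem_map_of_mem _ hc
  have hk : ((c⁻¹ * ⟨e, he⟩ : ↥E) : G) ∈ QE := by
    rw [← inf_centralizer_eq_core hE]
    refine ⟨(c⁻¹ * ⟨e, he⟩ : ↥E).2, (ρ.act_eq_one_iff hE ⟨_, Subgroup.le_normalizer (c⁻¹ * ⟨e, he⟩ : ↥E).2⟩).mp ?_⟩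
    rw [← Rep.onBlock_apply, map_mul, map_inv, hce, inv_mul_cancel]
  rw [← hE.2.2.1] at hk
  have := mul_mem hc' (commutator_mono (CharP.pCoreOf_le p E) le_rfl hk)
  simpa using this
where
  commutator_eq_top_of_img {F : Type} [Field F] [Fintype F] (h4 : 4 ≤ Fintype.card F) :
      ⁅commutator SL(2, F), commutator SL(2, F)⁆ = commutator SL(2, F) := by
    rw [SL2.commutator_eq_top (SL2.exists_sq_ne_one h4), ← commutator_def,
      SL2.commutator_eq_top (SL2.exists_sq_ne_one h4)]

/-- Either `[W,E]` avoids the centralizer of the block or the block is perfect linear. -/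
theorem inf_or_perfect (hE : IsBaumannBlock p (T : Subgroup G) E) :
    (WC : Subgroup G) ⊓ centralizer (E : Set G) = ⊥ ∨
      (p = 2 ∧ ⁅E, E⁆ = E ∧ ∃ (F : Type) (_ : Field F) (_ : Fintype F) (_ : CharP F p) (ρ : Rep p E (Fin 2 → F)),
        ρ.onBlock.range = SL2.img F ∧ 4 ≤ Fintype.card F) := by
  by_cases hp : p = 2
  swap
  · exact Or.inl (inf_eq_bot_of_odd hE hp)
  rcases block_cases hE with ⟨F, iF, iFt, iC, n, ρ, hF, hρ, -⟩ | ⟨-, n, ρ, hn, hodd, hρ, -⟩
  · by_cases h4 : 4 ≤ Fintype.card F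
    · exact Or.inr ⟨hp, commutator_eq_of_linear hE ρ hρ h4, F, iF, iFt, iC, ρ, hρ, h4⟩
    · left
      have h2 : Fintype.card F = 2 := by
        have h1 := Fintype.one_lt_card (α := F)
        rw [hp] at hF
        rcases n with _ | _ | n
        · simp at hF; omega
        · simpa using hF
        · have : 4 ≤ 2 ^ (n + 2) := by
            rw [pow_add]; exact Nat.le_mul_of_pos_left _ (Nat.two_pow_pos n)
          omega
      subst hp
      exact ρ.inf_eq_bot_of_two hE hρ h2
  · exact Or.inl (inf_eq_bot_of_alt ρ hp hE hn hodd hρ)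

end Cfsg.Agent.PLocal.Blocks
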