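import Cfsg.Agent.Lib.PLocal.Blocks.Pairs

/-!
Conjugates of blocks.
-/

set_option linter.all false
set_option autoImplicit false

namespace Cfsg.Agent.PLocal.Blocks

open Subgroup Cfsg
open scoped commutatorElement MatrixGroups Pointwise

variable {G : Type*} [Group G]

/-- The conjugate of a subgroup. -/
abbrev cj (g : G) (H : Subgroup G) : Subgroup G := H.map (MulAut.conj g).toMonoidHom

theorem conj_mem_cj {g h : G} {H : Subgroup G} (hh : h ∈ H) : g * h * g⁻¹ ∈ cj g H := ⟨h, hh, rfl⟩

theorem mem_cj_iff {g x : G} {H : Subgroup G} : x ∈ cj g H ↔ g⁻¹ * x * g ∈ H := by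
  constructor
  · rintro ⟨h, hh, rfl⟩; simpa [mul_assoc] using hh
  · intro h; exact ⟨_, h, by simp [mul_assoc]⟩

theorem cj_cj (a b : G) (H : Subgroup G) : cj a (cj b H) = cj (a * b) H := by
  ext x; simp only [mem_cj_iff]; simp [mul_assoc]

theorem cj_one (H : Subgroup G) : cj 1 H = H := by
  ext x; simp [mem_cj_iff]

theorem cj_injective (g : G) : Function.Injective (cj g : Subgroup G → Subgroup G) :=
  map_injective (MulAut.conj g).injective

theorem cj_eq_self [Finite G] {g : G} {H : Subgroup G} : cj g H = H ↔ g ∈ normalizer (H : Set G) :=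
  ⟨fun h => mem_normalizer_iff_map_conj_eq.mpr h, fun h => mem_normalizer_iff_map_conj_eq.mp h⟩

theorem cj_eq_cj [Finite G] {a b : G} {H : Subgroup G} :
    cj a H = cj b H ↔ b⁻¹ * a ∈ normalizer (H : Set G) := by
  rw [← cj_eq_self, ← cj_cj]
  constructor
  · intro h; rw [h, cj_cj, inv_mul_cancel, cj_one]
  · intro h
    have := congrArg (cj b) h
    rwa [cj_cj, mul_inv_cancel, cj_one] at this

theorem cj_inf (g : G) (H K : Subgroup G) : cj g (H ⊓ K) = cj g H ⊓ cj g K :=
  Subgroup.map_inf _ _ _ (MulAut.conj g).injective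

theorem cj_commutator (g : G) (H K : Subgroup G) : cj g ⁅H, K⁆ = ⁅cj g H, cj g K⁆ :=
  Subgroup.map_commutator _ _ _

theorem cj_centralizer (g : G) (H : Subgroup G) :
    cj g (centralizer (H : Set G)) = centralizer ((cj g H : Subgroup G) : Set G) := by
  rw [cj, Omega.map_centralizer_equiv, cj, Subgroup.coe_map]
  rfl

theorem cj_omegaOneCenter (p : ℕ) (g : G) (H : Subgroup G) :
    cj g (omegaOneCenter p H) = omegaOneCenter p (cj g H) :=
  Omega.map_omega_center (MulAut.conj g) H

theorem cj_normalizer [Finite G] (g : G) (H : Subgroup G) :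
    cj g (normalizer (H : Set G)) = normalizer ((cj g H : Subgroup G) : Set G) :=
  Subgroup.map_equiv_normalizer_eq H (MulAut.conj g)

theorem card_cj (g : G) (H : Subgroup G) : Nat.card (cj g H) = Nat.card H :=
  card_map_of_injective (MulAut.conj g).injective

theorem cj_le_iff (g : G) {H K : Subgroup G} : cj g H ≤ cj g K ↔ H ≤ K :=
  map_le_map_iff_of_injective (MulAut.conj g).injective

theorem cj_bot (g : G) : cj g (⊥ : Subgroup G) = ⊥ := Subgroup.map_bot _

theorem cj_normal (g : G) (H : Subgroup G) [H.Normal] : cj g H = H := by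
  ext x
  rw [mem_cj_iff]
  constructor
  · intro h
    have := (inferInstance : H.Normal).conj_mem _ h g
    simpa [mul_assoc] using this
  · intro h
    simpa using (inferInstance : H.Normal).conj_mem _ h g⁻¹

theorem cj_frattini (g : G) (X : Subgroup G) :
    cj g ((frattini ↥X).map X.subtype) = (frattini ↥(cj g X)).map (cj g X).subtype := by
  let e := X.equivMapOfInjective (MulAut.conj g).toMonoidHom (MulAut.conj g).injective
  have he : (frattini ↥X).map e.toMonoidHom = frattini ↥(cj g X) := by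
    refine le_antisymm (map_le_iff_le_comap.2 (frattini_le_comap_frattini_of_surjective e.surjective)) ?_
    intro y hy
    refine ⟨e.symm y, ?_, e.apply_symm_apply y⟩
    exact frattini_le_comap_frattini_of_surjective (φ := e.symm.toMonoidHom) e.symm.surjective hy
  rw [← he, cj, map_map, map_map]
  rfl

theorem actsSL2_cj {F : Type} [Field F] {R : Subgroup SL(2, F)} {E U U₀ : Subgroup G}
    (h : ActsAsSL2OnSection F R E U U₀) (g : G) :
    ActsAsSL2OnSection F R (cj g E) (cj g U) (cj g U₀) := by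
  obtain ⟨h1, h2, ρ, ψ, hρ, hψ, hker, heq⟩ := h
  let eE := E.equivMapOfInjective (MulAut.conj g).toMonoidHom (MulAut.conj g).injective
  let eU := U.equivMapOfInjective (MulAut.conj g).toMonoidHom (MulAut.conj g).injective
  refine ⟨(map_mono h1).trans (le_normalizer_map _), map_mono h2, ρ.comp eE.symm.toMonoidHom,
    ψ.comp eU.symm.toMonoidHom, ?_, hψ.comp eU.symm.surjective, fun u => ?_, fun e u => ?_⟩
  · rw [MonoidHom.range_comp, MonoidHom.range_eq_top.mpr eE.symm.surjective, ← MonoidHom.range_eq_map, hρ]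
  · obtain ⟨u, rfl⟩ := eU.surjective u
    show ψ (eU.symm (eU u)) = 1 ↔ _
    rw [MulEquiv.symm_apply_apply, hker]
    exact (mem_map_iff_mem (f := (MulAut.conj g).toMonoidHom) (MulAut.conj g).injective).symm
  · obtain ⟨e, rfl⟩ := eE.surjective e
    obtain ⟨u, rfl⟩ := eU.surjective u
    obtain ⟨w, hw, hw'⟩ := heq e u
    refine ⟨eU w, ?_, ?_⟩
    · show MulAut.conj g (w : G) = MulAut.conj g (e : G) * MulAut.conj g (u : G) * (MulAut.conj g (e : G))⁻¹
      rw [hw, map_mul, map_mul, map_inv]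
    · show Multiplicative.toAdd (ψ (eU.symm (eU w))) =
        (ρ (eE.symm (eE e))).1.mulVec (Multiplicative.toAdd (ψ (eU.symm (eU u))))
      rw [MulEquiv.symm_apply_apply, MulEquiv.symm_apply_apply, MulEquiv.symm_apply_apply]
      exact hw'

theorem actsAlt_cj {n : ℕ} {R : Subgroup (Equiv.Perm (Fin n))} {E U U₀ : Subgroup G}
    (h : ActsAsOddPermModuleOnSection n R E U U₀) (g : G) :
    ActsAsOddPermModuleOnSection n R (cj g E) (cj g U) (cj g U₀) := by
  obtain ⟨h1, h2, ρ, ψ, hρ, heven, hsurj, hker, heq⟩ := h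
  let eE := E.equivMapOfInjective (MulAut.conj g).toMonoidHom (MulAut.conj g).injective
  let eU := U.equivMapOfInjective (MulAut.conj g).toMonoidHom (MulAut.conj g).injective
  refine ⟨(map_mono h1).trans (le_normalizer_map _), map_mono h2, ρ.comp eE.symm.toMonoidHom,
    ψ.comp eU.symm.toMonoidHom, ?_, fun u => heven _, fun v hv => ?_, fun u => ?_, fun e u => ?_⟩
  · rw [MonoidHom.range_comp, MonoidHom.range_eq_top.mpr eE.symm.surjective, ← MonoidHom.range_eq_map, hρ]
  · obtain ⟨u, hu⟩ := hsurj v hv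
    exact ⟨eU u, by show Multiplicative.toAdd (ψ (eU.symm (eU u))) = v; rw [MulEquiv.symm_apply_apply]; exact hu⟩
  · obtain ⟨u, rfl⟩ := eU.surjective u
    show ψ (eU.symm (eU u)) = 1 ↔ _
    rw [MulEquiv.symm_apply_apply, hker]
    exact (mem_map_iff_mem (f := (MulAut.conj g).toMonoidHom) (MulAut.conj g).injective).symm
  · obtain ⟨e, rfl⟩ := eE.surjective e
    obtain ⟨u, rfl⟩ := eU.surjective u
    obtain ⟨w, hw, hw'⟩ := heq e u
    refine ⟨eU w, ?_, fun i => ?_⟩
    · show MulAut.conj g (w : G) = MulAut.conj g (e : G) * MulAut.conj g (u : G) * (MulAut.conj g (e : G))⁻¹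
      rw [hw, map_mul, map_mul, map_inv]
    · show Multiplicative.toAdd (ψ (eU.symm (eU w))) i =
        Multiplicative.toAdd (ψ (eU.symm (eU u))) ((ρ (eE.symm (eE e)))⁻¹ i)
      rw [MulEquiv.symm_apply_apply, MulEquiv.symm_apply_apply, MulEquiv.symm_apply_apply]
      exact hw' i

variable [Finite G] {p : ℕ} [Fact p.Prime] {E : Subgroup G} {T : Sylow p G}

/-- The conjugate of a block is a block for the conjugate Sylow subgroup. -/
theorem block_cj (hE : IsBaumannBlock p (T : Subgroup G) E) (g : G) :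
    IsBaumannBlock p ((g • T : Sylow p G) : Subgroup G) (cj g E) := by
  rw [Sylow.coe_subgroup_smul, show MulAut.conj g • (T : Subgroup G) = cj g (T : Subgroup G) from rfl]
  have hQ : pCoreOf p (cj g E) = cj g (pCoreOf p E) := CharP.pCoreOf_conj g E
  have hW : omegaOneCenter p (pCoreOf p (cj g E)) = cj g (omegaOneCenter p (pCoreOf p E)) := by
    rw [hQ, cj_omegaOneCenter]
  have hB : baumannSubgroupOf p (cj g (T : Subgroup G)) = cj g (baumannSubgroupOf p (T : Subgroup G)) :=
    (BlockBasic.baumann_conj _ g).symm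
  let eE := E.equivMapOfInjective (MulAut.conj g).toMonoidHom (MulAut.conj g).injective
  obtain ⟨h1, h2, h3, h4, hrest⟩ := hE
  refine ⟨?_, by rw [hB, ← cj_commutator, h2], by rw [hQ, ← cj_commutator, h3], ?_, ?_⟩
  · show CharP.resOf p _ = _
    rw [← CharP.map_resOf, show CharP.resOf p E = E from h1]
  · intro h
    refine h4 (cj_injective g ?_)
    rw [cj_commutator, cj_omegaOneCenter, h, cj_bot]
  have hq : Nonempty ((↥(cj g E) ⧸ pCore p ↥(cj g E)) ≃* (↥E ⧸ pCore p ↥E)) :=
    ⟨(QuotientGroup.congr (pCore p ↥E) (pCore p ↥(cj g E)) eE (Cores.map_pCore_eq eE p)).symm⟩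
  obtain ⟨e₁⟩ := hq
  rw [hW, ← cj_centralizer, ← cj_inf]
  rcases hrest with ⟨F, iF, iFt, n, hF, ⟨iso⟩, hact, hcase⟩ | ⟨hp, m, ⟨iso⟩, hact, hQW⟩
  · refine Or.inl ⟨F, iF, iFt, n, hF, ⟨e₁.trans iso⟩, actsSL2_cj hact g, ?_⟩
    rcases hcase with h | ⟨hp, hact', hc, hfr, hz, hcard, hb⟩
    · exact Or.inl (by rw [hQ]; exact congrArg (cj g) h)
    refine Or.inr ⟨hp, by rw [hQ]; exact actsSL2_cj hact' g, by rw [hQ, ← cj_commutator, hc], ?_,
      by rw [← cj_inf, hz], by rw [← cj_inf, card_cj, hcard], ?_⟩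
    · rw [hQ, ← cj_frattini, hfr]
    rintro b' hb' hbC hle
    rw [hB] at hb'
    obtain ⟨b, hbB, rfl⟩ := hb'
    refine hb b hbB (fun h => hbC ?_) ?_
    · rw [← cj_centralizer]; exact mem_map_of_mem _ h
    · rw [← cj_le_iff g, cj_commutator, cj_commutator, cj_inf]
      simp only [cj, MonoidHom.map_zpowers]
      rw [hQ] at hle
      exact hle
  · exact Or.inr ⟨hp, m, ⟨e₁.trans iso⟩, actsAlt_cj hact g, by rw [hQ]; exact congrArg (cj g) hQW⟩

end Cfsg.Agent.PLocal.Blocks
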